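import Groth.Agent.S18738

/-! # Closure of the preimage of an open in a scheme: general lemmas behind the Ore construction
for admissible blow-ups of modulus pairs. -/

set_option autoImplicit false
universe u
open CategoryTheory CategoryTheory.Limits AlgebraicGeometry TopologicalSpace
open ModPair

namespace Groth.Agent.Lib.Helper33.AdmOre

open Groth.Agent.S18748 Groth.Agent.S18738 AlgebraicGeometry.Scheme.IdealSheafData

variable {P T S : Scheme.{u}}

theorem quasiCompact_ι_of_eq (p : P ⟶ T) (V : T.Opens) [IsAffineHom V.ι] (U : P.Opens)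
    (hU : U = p ⁻¹ᵁ V) : QuasiCompact U.ι := by
  subst hU
  have : IsAffineHom (p ⁻¹ᵁ V).ι :=
    MorphismProperty.of_isPullback (isPullback_morphismRestrict p V) inferInstance
  infer_instance

/-- The preimage of `V` in the closure of `p⁻¹ V` is scheme-theoretically dense. -/
theorem isSchemeTheoreticallyDominant_preimage_ι (p : P ⟶ T) (V : T.Opens) [IsAffineHom V.ι]
    (U : P.Opens) (hU : U = p ⁻¹ᵁ V) :
    IsSchemeTheoreticallyDominant ((U.ι.imageι ≫ p) ⁻¹ᵁ V).ι := by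
  have hqc := quasiCompact_ι_of_eq p V U hU
  subst hU
  change IsSchemeTheoreticallyDominant
    ((p ⁻¹ᵁ V).ι.imageι ⁻¹ᵁ (p ⁻¹ᵁ V)).ι
  have hr : Set.range (p ⁻¹ᵁ V).ι.toImage ⊆
      Set.range ((p ⁻¹ᵁ V).ι.imageι ⁻¹ᵁ (p ⁻¹ᵁ V)).ι := by
    rintro _ ⟨u, rfl⟩
    rw [Scheme.Opens.range_ι]
    change (p ⁻¹ᵁ V).ι.imageι ((p ⁻¹ᵁ V).ι.toImage u) ∈ p ⁻¹ᵁ V
    rw [← Scheme.Hom.comp_apply, Scheme.Hom.toImage_imageι]
    exact u.2
  have hfac := IsOpenImmersion.lift_fac ((p ⁻¹ᵁ V).ι.imageι ⁻¹ᵁ (p ⁻¹ᵁ V)).ι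
    (p ⁻¹ᵁ V).ι.toImage hr
  have := isSchemeTheoreticallyDominant_toImage (p ⁻¹ᵁ V).ι
  have : IsSchemeTheoreticallyDominant
      (IsOpenImmersion.lift ((p ⁻¹ᵁ V).ι.imageι ⁻¹ᵁ (p ⁻¹ᵁ V)).ι (p ⁻¹ᵁ V).ι.toImage hr ≫
        ((p ⁻¹ᵁ V).ι.imageι ⁻¹ᵁ (p ⁻¹ᵁ V)).ι) := by rw [hfac]; infer_instance
  exact isSchemeTheoreticallyDominant_of_comp
    (IsOpenImmersion.lift ((p ⁻¹ᵁ V).ι.imageι ⁻¹ᵁ (p ⁻¹ᵁ V)).ι (p ⁻¹ᵁ V).ι.toImage hr)
    ((p ⁻¹ᵁ V).ι.imageι ⁻¹ᵁ (p ⁻¹ᵁ V)).ι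

/-- The closure of `p⁻¹ V` maps isomorphically to `V` over `V` when `p` does. -/
theorem isIso_imageι_comp_restrict (p : P ⟶ T) (V : T.Opens) (U : P.Opens)
    (hU : U = p ⁻¹ᵁ V) (hp : IsIso (p ∣_ V)) : IsIso ((U.ι.imageι ≫ p) ∣_ V) := by
  subst hU
  rw [morphismRestrict_comp]
  have h1 : IsIso ((p ⁻¹ᵁ V).ι.imageι ∣_ (p ⁻¹ᵁ V)) :=
    isIso_morphismRestrict_of_section _ _ (p ⁻¹ᵁ V).ι.toImage (Scheme.Hom.toImage_imageι _)
  exact @IsIso.comp_isIso _ _ _ _ _ _ _ h1 hp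

/-- ambient morphisms map the interior into the interior (scheme level) -/
theorem apply_mem_interior_of_le {X Y : Scheme.{u}} {I : X.IdealSheafData}
    {J : Y.IdealSheafData} (f : X ⟶ Y) (h : I ≤ J.comap f) {x : X}
    (hx : x ∈ ModPair.interior I) : f x ∈ ModPair.interior J := by
  change x ∉ I.support at hx
  change f x ∉ J.support
  intro hfx
  apply hx
  have h2 : x ∈ (J.comap f).support := by
    rw [support_comap]; exact hfx
  exact Scheme.IdealSheafData.support_antitone h h2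

/-- base change of a morphism that is an isomorphism over `interior J` along an ambient
morphism is an isomorphism over `interior I`: first projection version. -/
theorem isIso_fst_restrict {X Y Z : Scheme.{u}} (f : X ⟶ Z) (s : Y ⟶ Z)
    {I : X.IdealSheafData} {K : Z.IdealSheafData} (hf : I ≤ K.comap f)
    (hs3 : IsIso (s ∣_ ModPair.interior K)) :
    IsIso (pullback.fst f s ∣_ ModPair.interior I) := by
  rw [← bcIso_ι_iff, ← bcIso_comp_iff (IsPullback.of_hasPullback f s).flip]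
  have hr : Set.range ((ModPair.interior I).ι ≫ f) ⊆ Set.range (ModPair.interior K).ι := by
    rintro _ ⟨x, rfl⟩
    rw [Scheme.Opens.range_ι]
    exact apply_mem_interior_of_le f hf x.2
  rw [← IsOpenImmersion.lift_fac (ModPair.interior K).ι _ hr]
  exact ((bcIso_ι_iff _ _).mpr hs3).comp _

/-- second projection version. -/
theorem isIso_snd_restrict {X Y Z : Scheme.{u}} (s : Y ⟶ Z) (f : X ⟶ Z)
    {I : X.IdealSheafData} {K : Z.IdealSheafData} (hf : I ≤ K.comap f)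
    (hs3 : IsIso (s ∣_ ModPair.interior K)) :
    IsIso (pullback.snd s f ∣_ ModPair.interior I) := by
  rw [← bcIso_ι_iff, ← bcIso_comp_iff (IsPullback.of_hasPullback s f)]
  have hr : Set.range ((ModPair.interior I).ι ≫ f) ⊆ Set.range (ModPair.interior K).ι := by
    rintro _ ⟨x, rfl⟩
    rw [Scheme.Opens.range_ι]
    exact apply_mem_interior_of_le f hf x.2
  rw [← IsOpenImmersion.lift_fac (ModPair.interior K).ι _ hr]
  exact ((bcIso_ι_iff _ _).mpr hs3).comp _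

end Groth.Agent.Lib.Helper33.AdmOre
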