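import Groth.Agent.Lib.Helper33.ZetaDir
import Groth.Prelude.Def_FinFr
import Mathlib.AlgebraicGeometry.Morphisms.Integral

set_option autoImplicit false
set_option linter.style.haveILetI false
set_option linter.unusedSectionVars false
universe u
open CategoryTheory AlgebraicGeometry Limits

namespace Groth.Agent.Lib.Helper33.ZetaFrobStable

open Groth.Agent.Lib.Helper33.ZetaCount Groth.Agent.Lib.Helper33.ZetaPts
  Groth.Agent.Lib.Helper33.ZetaDir Groth.Agent.Lib.Helper33.WeilFrob

section Field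

/-- two embeddings of a finite field over a finite field differ by a power of Frobenius -/
theorem frob_conj (k κ K : Type*) [Field k] [Finite k] [Field κ] [Finite κ] [Field K]
    [Algebra k κ] [Algebra k K] (e e' : κ →ₐ[k] K) :
    ∃ i : ℕ, ∀ r, e' r = (e r) ^ (Nat.card k ^ i) := by
  classical
  haveI := Fintype.ofFinite k
  letI : Algebra κ K := e.toRingHom.toAlgebra
  haveI : IsScalarTower k κ K := IsScalarTower.of_algebraMap_eq (fun c => (e.commutes c).symm)
  haveI : Normal k κ := inferInstance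
  set σ := Normal.algHomEquivAut k K κ e' with hσ
  have h1 : e' = (IsScalarTower.toAlgHom k κ K).comp σ.toAlgHom :=
    ((Normal.algHomEquivAut k K κ).symm_apply_apply e').symm
  obtain ⟨n, hn⟩ := (FiniteField.bijective_frobeniusAlgEquivOfAlgebraic_pow k κ).2 σ
  refine ⟨n.1, fun r => ?_⟩
  have h2 : σ r = r ^ (Nat.card k ^ n.1) := by
    rw [← hn]
    show (FiniteField.frobeniusAlgEquivOfAlgebraic k κ ^ n.1) r = _
    rw [AlgEquiv.coe_pow, FiniteField.coe_frobeniusAlgEquivOfAlgebraic_iterate,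
      Nat.card_eq_fintype_card]
  calc e' r = e (σ r) := by rw [h1]; rfl
    _ = (e r) ^ (Nat.card k ^ n.1) := by rw [h2, map_pow]

end Field

section Scheme

/-- a closed point of a scheme locally of finite type over an algebraically closed field is the
image of a section -/
theorem exists_section {K : Type u} [Field K] [IsAlgClosed K] {Z : Scheme.{u}}
    (g : Z ⟶ Spec (CommRingCat.of K)) [LocallyOfFiniteType g] (z : Z)
    (hz : IsClosed ({z} : Set Z)) :
    ∃ s : Spec (CommRingCat.of K) ⟶ Z, s ≫ g = 𝟙 _ ∧ ∀ p, s p = z := by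
  haveI : JacobsonSpace Z := LocallyOfFiniteType.jacobsonSpace g
  haveI h1 : LocallyOfFiniteType (Z.fromSpecResidueField z) :=
    isClosed_singleton_iff_locallyOfFiniteType.1 hz
  set ρ : CommRingCat.of K ⟶ Z.residueField z := resAlg g z with hρdef
  have hρ : Spec.map ρ = Z.fromSpecResidueField z ≫ g := Spec.map_preimage _
  letI a2 : Algebra K (Z.residueField z) := ρ.hom.toAlgebra
  haveI : LocallyOfFiniteType (Spec.map ρ) := by
    rw [hρ]
    infer_instance
  have hft : ρ.hom.FiniteType :=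
    (HasRingHomProperty.Spec_iff (P := @LocallyOfFiniteType)).1 inferInstance
  haveI : Algebra.FiniteType K (Z.residueField z) := hft
  haveI : Module.Finite K (Z.residueField z) := finite_of_finite_type_of_isJacobsonRing K _
  have hbij : Function.Bijective (algebraMap K (Z.residueField z)) :=
    IsAlgClosed.algebraMap_bijective_of_isIntegral
  let ψ : K ≃+* Z.residueField z := RingEquiv.ofBijective _ hbij
  refine ⟨Spec.map (CommRingCat.ofHom ψ.symm.toRingHom) ≫ Z.fromSpecResidueField z, ?_, ?_⟩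
  · rw [Category.assoc, ← hρ, ← Spec.map_comp]
    have : ρ ≫ CommRingCat.ofHom ψ.symm.toRingHom = 𝟙 _ := by
      ext c
      exact ψ.symm_apply_apply c
    exact (congrArg Spec.map this).trans (Spec.map_id _)
  · intro p
    exact Scheme.fromSpecResidueField_apply z _

theorem exists_factor {K : Type u} [Field K] {X : Scheme.{u}}
    (v : Spec (CommRingCat.of K) ⟶ X) (x : X) (hx : v (IsLocalRing.closedPoint K) = x) :
    ∃ e : X.residueField x ⟶ CommRingCat.of K, v = Spec.map e ≫ X.fromSpecResidueField x := by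
  subst hx
  exact ⟨_, (Scheme.descResidueField_stalkClosedPointTo_fromSpecResidueField K X v).symm⟩

variable {k : Type u} [Field k] [Finite k] {K : Type u} [Field K] [Algebra k K]
  {X : Scheme.{u}} (f : X ⟶ Spec (CommRingCat.of k)) [LocallyOfFiniteType f]

include f in
theorem finite_residueField (x : X) (hx : IsClosed ({x} : Set X)) :
    Finite (X.residueField x) := by
  obtain ⟨-, h2⟩ := closed_facts f x hx
  apply Nat.finite_of_card_ne_zero
  rw [h2]
  exact pow_ne_zero _ (by have := card_ge_two (k := k); omega)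

variable (FX : X ⟶ X) (hle : ∀ U : X.Opens, U ≤ FX ⁻¹ᵁ U)
  (hFapp : ∀ (U : X.Opens) (s : Γ(X, U)), (FX.appLE U U (hle U)).hom s = s ^ Nat.card k)
  (F : FinFr.ext K f ⟶ FinFr.ext K f)
  (hF1 : F ≫ FinFr.extπ K f = FinFr.extπ K f ≫ FX)
  (hF2 : F ≫ FinFr.extStr K f = FinFr.extStr K f)
  (W : Set ↑(FinFr.ext K f)) (hFW : F.base '' W ⊆ W)

include hFapp hF1 hF2 hFW in
theorem iter_mem (i : ℕ) : ∀ (g : K →+* K), (∀ c, g c = c ^ (Nat.card k ^ i)) →
    ∀ (s s' : Spec (CommRingCat.of K) ⟶ FinFr.ext K f),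
      s ≫ FinFr.extStr K f = 𝟙 _ → s' ≫ FinFr.extStr K f = 𝟙 _ →
      s' ≫ FinFr.extπ K f = Spec.map (CommRingCat.ofHom g) ≫ s ≫ FinFr.extπ K f →
      s (IsLocalRing.closedPoint K) ∈ W → s' (IsLocalRing.closedPoint K) ∈ W := by
  induction i with
  | zero =>
    intro g hg s s' hs hs' hπ hW
    have hgid : CommRingCat.ofHom g = 𝟙 _ := by
      ext c
      show g c = c
      rw [hg, pow_zero, pow_one]
    rw [hgid, Spec.map_id, Category.id_comp] at hπ
    have : s' = s := pullback.hom_ext hπ (hs'.trans hs.symm)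
    rw [this]
    exact hW
  | succ i ih =>
    intro g hg s s' hs hs' hπ hW
    obtain ⟨fr1, hfr1⟩ := exists_frobPow (k₀ := k) (k := K) 1
    have hfr1' : ∀ c, fr1 c = c ^ Nat.card k := by
      intro c
      rw [hfr1, pow_one]
    obtain ⟨gi, hgi⟩ := exists_frobPow (k₀ := k) (k := K) i
    have hgcomp : CommRingCat.ofHom g = CommRingCat.ofHom fr1 ≫ CommRingCat.ofHom gi := by
      ext c
      show g c = gi (fr1 c)
      rw [hg, hgi, hfr1', ← pow_mul, pow_succ']
    refine ih gi hgi (s ≫ F) s' ?_ hs' ?_ ?_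
    · rw [Category.assoc, hF2, hs]
    · rw [hπ, hgcomp, Spec.map_comp, Category.assoc]
      congr 1
      rw [Category.assoc, hF1, ← Category.assoc s]
      exact frob_natural FX hle (Nat.card k) hFapp K (CommRingCat.ofHom fr1) hfr1'
        (s ≫ FinFr.extπ K f)
    · exact hFW ⟨_, hW, rfl⟩

variable [IsAlgClosed K]

include hFapp hF1 hF2 hFW in
theorem mem_of_fibre (w₀ w' : ↑(FinFr.ext K f)) (hw₀ : IsClosed ({w₀} : Set ↑(FinFr.ext K f)))
    (hw' : IsClosed ({w'} : Set ↑(FinFr.ext K f)))
    (hπ : (FinFr.extπ K f) w₀ = (FinFr.extπ K f) w')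
    (hx : IsClosed ({(FinFr.extπ K f) w'} : Set X)) (h0 : w₀ ∈ W) : w' ∈ W := by
  haveI : LocallyOfFiniteType (FinFr.extStr K f) := by
    unfold FinFr.extStr
    infer_instance
  obtain ⟨s, hs, hsp⟩ := exists_section (FinFr.extStr K f) w₀ hw₀
  obtain ⟨s', hs', hsp'⟩ := exists_section (FinFr.extStr K f) w' hw'
  set x := (FinFr.extπ K f) w' with hxdef
  obtain ⟨e, he⟩ := exists_factor (s ≫ FinFr.extπ K f) x (by
    rw [Scheme.Hom.comp_apply, hsp, hπ])
  obtain ⟨e', he'⟩ := exists_factor (s' ≫ FinFr.extπ K f) x (by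
    rw [Scheme.Hom.comp_apply, hsp'])
  have hcond : FinFr.extπ K f ≫ f = FinFr.extStr K f ≫ FinFr.specι k K := pullback.condition
  have hk : (Spec.map e ≫ X.fromSpecResidueField x) ≫ f =
      Spec.map (CommRingCat.ofHom (algebraMap k K)) := by
    rw [← he, Category.assoc, hcond, ← Category.assoc, hs, Category.id_comp]
  have hk' : (Spec.map e' ≫ X.fromSpecResidueField x) ≫ f =
      Spec.map (CommRingCat.ofHom (algebraMap k K)) := by
    rw [← he', Category.assoc, hcond, ← Category.assoc, hs', Category.id_comp]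
  have hc := (comp_eq_iff f K x e).1 hk
  have hc' := (comp_eq_iff f K x e').1 hk'
  letI a2 : Algebra k (X.residueField x) := (resAlg f x).hom.toAlgebra
  haveI : Finite (X.residueField x) := finite_residueField f x hx
  let E : X.residueField x →ₐ[k] K := { e.hom with commutes' := fun c => RingHom.congr_fun hc c }
  let E' : X.residueField x →ₐ[k] K :=
    { e'.hom with commutes' := fun c => RingHom.congr_fun hc' c }
  obtain ⟨i, hi⟩ := frob_conj k (X.residueField x) K E E'
  obtain ⟨g, hg⟩ := exists_frobPow (k₀ := k) (k := K) i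
  have key := iter_mem f FX hle hFapp F hF1 hF2 W hFW i g hg s s' hs hs' (by
    rw [he', he, ← Category.assoc, ← Spec.map_comp]
    congr 2
    ext r
    show e'.hom r = g (e.hom r)
    rw [hg]
    exact hi r) (by rw [hsp]; exact h0)
  rwa [hsp'] at key

include hFapp hF1 hF2 hFW in
theorem preimage_image_subset [Algebra.IsAlgebraic k K] (hWc : IsClosed W) :
    (FinFr.extπ K f) ⁻¹' ((FinFr.extπ K f) '' W) ⊆ W := by
  haveI : IsIntegralHom (FinFr.specι k K) :=
    IsIntegralHom.SpecMap_iff.2 (algebraMap_isIntegral_iff.2 inferInstance)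
  haveI : IsIntegralHom (FinFr.extπ K f) := by
    unfold FinFr.extπ
    infer_instance
  have hcl : IsClosedMap (FinFr.extπ K f) := (FinFr.extπ K f).isClosedMap
  haveI : LocallyOfFiniteType (FinFr.extStr K f) := by
    unfold FinFr.extStr
    infer_instance
  haveI : JacobsonSpace ↑(FinFr.ext K f) := LocallyOfFiniteType.jacobsonSpace (FinFr.extStr K f)
  intro v hv
  by_contra hvW
  have hT : ((FinFr.extπ K f) ⁻¹' ((FinFr.extπ K f) '' W) ∩ Wᶜ).Nonempty := ⟨v, hv, hvW⟩
  have hTlc : IsLocallyClosed ((FinFr.extπ K f) ⁻¹' ((FinFr.extπ K f) '' W) ∩ Wᶜ) :=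
    ((hcl W hWc).preimage (FinFr.extπ K f).continuous).isLocallyClosed.inter
      hWc.isOpen_compl.isLocallyClosed
  obtain ⟨w', ⟨⟨w, hwW, hww'⟩, hw'W⟩, hw'c⟩ := nonempty_inter_closedPoints hT hTlc
  obtain ⟨w₀, hw₀cl, hw₀c⟩ := nonempty_inter_closedPoints
    (X := ↑(FinFr.ext K f)) (Z := closure {w}) ⟨w, subset_closure rfl⟩
    isClosed_closure.isLocallyClosed
  have hw₀W : w₀ ∈ W :=
    (hWc.closure_subset_iff.2 (Set.singleton_subset_iff.2 hwW)) hw₀cl
  have hx : IsClosed ({(FinFr.extπ K f) w'} : Set X) := by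
    have := hcl _ hw'c
    rwa [Set.image_singleton] at this
  have hπ0 : (FinFr.extπ K f) w₀ = (FinFr.extπ K f) w' := by
    have hsp : w ⤳ w₀ := specializes_iff_mem_closure.2 hw₀cl
    exact (hsp.map (FinFr.extπ K f).continuous).mem_closed hx (by rw [hww']; rfl)
  exact hw'W (mem_of_fibre f FX hle hFapp F hF1 hF2 W hFW w₀ w' hw₀c hw'c hπ0 hx hw₀W)

end Scheme

end Groth.Agent.Lib.Helper33.ZetaFrobStable
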