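import Mathlib

set_option autoImplicit false

universe u

namespace Groth.Agent.Lib.Helper33.BassShiftL4a

open DirectSum

section aux

variable {R : Type u} [CommRing R] (𝒜 : ℤ → AddSubgroup R) [GradedRing 𝒜] (q : Ideal R)

/-- the `q`-support of `x`: the degrees whose component is not in `q` -/
noncomputable def S (x : R) : Finset ℤ := by
  classical
  exact ((decompose 𝒜 x).support).filter (fun n => ((decompose 𝒜 x n : R)) ∉ q)

lemma mem_S {x : R} {n : ℤ} : n ∈ S 𝒜 q x ↔ ((decompose 𝒜 x n : R)) ∉ q := by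
  classical
  unfold S
  rw [Finset.mem_filter, DFinsupp.mem_support_toFun]
  constructor
  · exact fun h => h.2
  · intro h
    refine ⟨fun h0 => h ?_, h⟩
    rw [h0]
    simp

lemma mem_iff_S_empty (hq : q.IsHomogeneous 𝒜) {x : R} : x ∈ q ↔ S 𝒜 q x = ∅ := by
  classical
  constructor
  · intro hx
    rw [Finset.eq_empty_iff_forall_notMem]
    intro n hn
    exact (mem_S 𝒜 q).1 hn ((hq.mem_iff).1 hx n)
  · intro h
    rw [← DirectSum.sum_support_decompose 𝒜 x]
    refine Ideal.sum_mem _ (fun n _ => ?_)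
    by_contra hn
    have : n ∈ S 𝒜 q x := (mem_S 𝒜 q).2 hn
    rw [h] at this
    exact absurd this (Finset.notMem_empty _)

/-- top degree of the `q`-support -/
noncomputable def top (x : R) : ℤ :=
  if h : (S 𝒜 q x).Nonempty then (S 𝒜 q x).max' h else 0

/-- bottom degree of the `q`-support -/
noncomputable def bot (x : R) : ℤ :=
  if h : (S 𝒜 q x).Nonempty then (S 𝒜 q x).min' h else 0

lemma le_top {x : R} {n : ℤ} (hn : (decompose 𝒜 x n : R) ∉ q) : n ≤ top 𝒜 q x := by
  have hm := (mem_S 𝒜 q).2 hn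
  have hne : (S 𝒜 q x).Nonempty := ⟨n, hm⟩
  rw [top, dif_pos hne]
  exact Finset.le_max' _ _ hm

lemma bot_le {x : R} {n : ℤ} (hn : (decompose 𝒜 x n : R) ∉ q) : bot 𝒜 q x ≤ n := by
  have hm := (mem_S 𝒜 q).2 hn
  have hne : (S 𝒜 q x).Nonempty := ⟨n, hm⟩
  rw [bot, dif_pos hne]
  exact Finset.min'_le _ _ hm

lemma top_notMem (hq : q.IsHomogeneous 𝒜) {x : R} (hx : x ∉ q) :
    (decompose 𝒜 x (top 𝒜 q x) : R) ∉ q := by
  have hne : (S 𝒜 q x).Nonempty := by
    rw [Finset.nonempty_iff_ne_empty]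
    exact fun h => hx ((mem_iff_S_empty 𝒜 q hq).2 h)
  rw [top, dif_pos hne]
  exact (mem_S 𝒜 q).1 (Finset.max'_mem _ hne)

lemma bot_notMem (hq : q.IsHomogeneous 𝒜) {x : R} (hx : x ∉ q) :
    (decompose 𝒜 x (bot 𝒜 q x) : R) ∉ q := by
  have hne : (S 𝒜 q x).Nonempty := by
    rw [Finset.nonempty_iff_ne_empty]
    exact fun h => hx ((mem_iff_S_empty 𝒜 q hq).2 h)
  rw [bot, dif_pos hne]
  exact (mem_S 𝒜 q).1 (Finset.min'_mem _ hne)

lemma comp_mul {x : R} {α : ℤ} (hx : x ∈ 𝒜 α) (b : R) (n : ℤ) :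
    (decompose 𝒜 (x * b) n : R) = x * (decompose 𝒜 b (n - α) : R) := by
  have := DirectSum.coe_decompose_mul_add_of_left_mem 𝒜 (i := α) (j := n - α) (b := b) hx
  rwa [add_sub_cancel] at this

end aux

/-- Euclid in a `ℤ`-graded ring, helper92's form (M5 of S18636). -/
theorem exists_gen {R : Type u} [CommRing R] (𝒜 : ℤ → AddSubgroup R) [GradedRing 𝒜] (p : Ideal R)
    [p.IsPrime] (hp : ¬ p.IsHomogeneous 𝒜) [(Ideal.homogeneousCore 𝒜 p).toIdeal.IsPrime] :
    ∃ a ∈ p, a ∉ (Ideal.homogeneousCore 𝒜 p).toIdeal ∧ ∀ b ∈ p, ∃ h c : R, h ∉ p ∧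
      h * b - c * a ∈ (Ideal.homogeneousCore 𝒜 p).toIdeal := by
  classical
  have hpprime : p.IsPrime := inferInstance
  generalize hqdef : (Ideal.homogeneousCore 𝒜 p).toIdeal = q
  have hqh : q.IsHomogeneous 𝒜 := hqdef ▸ (Ideal.homogeneousCore 𝒜 p).isHomogeneous
  have hqp : q ≤ p := hqdef ▸ Ideal.toIdeal_homogeneousCore_le 𝒜 p
  have hcore : ∀ x : R, SetLike.IsHomogeneousElem 𝒜 x → x ∈ p → x ∈ q := fun x hx hxp =>
    hqdef ▸ Ideal.mem_homogeneousCore_of_homogeneous_of_mem hx hxp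
  -- an element of `p \ q`
  obtain ⟨a0, ha0p, ha0q⟩ : ∃ a0 ∈ p, a0 ∉ q := by
    by_contra hcon
    push Not at hcon
    have : p = q := le_antisymm hcon hqp
    apply hp
    rw [this]
    exact hqh
  have hne : ∃ m, ∃ a ∈ p, a ∉ q ∧ (top 𝒜 q a - bot 𝒜 q a).toNat = m :=
    ⟨_, a0, ha0p, ha0q, rfl⟩
  obtain ⟨a, hap, haq, hwa⟩ := Nat.find_spec hne
  have hmin : ∀ b ∈ p, b ∉ q →
      (top 𝒜 q a - bot 𝒜 q a).toNat ≤ (top 𝒜 q b - bot 𝒜 q b).toNat := fun b hb hbq => by
    rw [hwa]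
    exact Nat.find_min' hne ⟨b, hb, hbq, rfl⟩
  refine ⟨a, hap, haq, ?_⟩
  generalize hα : top 𝒜 q a = α at hmin
  have haα : (decompose 𝒜 a α : R) ∉ q := hα ▸ top_notMem 𝒜 q hqh haq
  have haαp : (decompose 𝒜 a α : R) ∉ p := fun h =>
    haα (hcore _ ⟨α, (decompose 𝒜 a α).2⟩ h)
  have hatop : ∀ n : ℤ, (decompose 𝒜 a n : R) ∉ q → n ≤ α := fun n hn => hα ▸ le_top 𝒜 q hn
  have main : ∀ n : ℕ, ∀ b ∈ p, b ∉ q → (top 𝒜 q b - bot 𝒜 q b).toNat ≤ n →
      ∃ h c : R, h ∉ p ∧ h * b - c * a ∈ q := by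
    intro n
    induction n using Nat.strong_induction_on with
    | _ n ih =>
      intro b hbp hbq hwb
      generalize hβ : top 𝒜 q b = β at hwb
      have hbβ : (decompose 𝒜 b β : R) ∉ q := hβ ▸ top_notMem 𝒜 q hqh hbq
      have hbtop : ∀ n : ℤ, (decompose 𝒜 b n : R) ∉ q → n ≤ β := fun n hn => hβ ▸ le_top 𝒜 q hn
      generalize hb' : (decompose 𝒜 a α : R) * b - (decompose 𝒜 b β : R) * a = b'
      have hb'p : b' ∈ p := hb' ▸ p.sub_mem (p.mul_mem_left _ hbp) (p.mul_mem_left _ hap)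
      have hcomp : ∀ n : ℤ, (decompose 𝒜 b' n : R) =
          (decompose 𝒜 a α : R) * (decompose 𝒜 b (n - α) : R) -
            (decompose 𝒜 b β : R) * (decompose 𝒜 a (n - β) : R) := by
        intro n
        rw [← hb', DirectSum.decompose_sub, DirectSum.sub_apply, AddSubgroupClass.coe_sub,
          comp_mul 𝒜 (decompose 𝒜 a α).2, comp_mul 𝒜 (decompose 𝒜 b β).2]
      have hwab : α - bot 𝒜 q a ≤ β - bot 𝒜 q b := by
        have h1 := hmin b hbp hbq
        rw [hβ] at h1
        have h2 : bot 𝒜 q a ≤ α := bot_le 𝒜 q haα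
        have h3 : bot 𝒜 q b ≤ β := bot_le 𝒜 q hbβ
        omega
      have hrange : ∀ n : ℤ, (decompose 𝒜 b' n : R) ∉ q → bot 𝒜 q b + α ≤ n ∧ n < α + β := by
        intro n hn
        rw [hcomp] at hn
        constructor
        · by_contra hlt
          push Not at hlt
          apply hn
          have h1 : (decompose 𝒜 b (n - α) : R) ∈ q := by
            by_contra h
            have := bot_le 𝒜 q h
            omega
          have h2 : (decompose 𝒜 a (n - β) : R) ∈ q := by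
            by_contra h
            have := bot_le 𝒜 q h
            omega
          exact q.sub_mem (q.mul_mem_left _ h1) (q.mul_mem_left _ h2)
        · by_contra hge
          push Not at hge
          apply hn
          rcases hge.eq_or_lt with heq | hgt
          · have e1 : n - α = β := by omega
            have e2 : n - β = α := by omega
            rw [e1, e2, mul_comm, sub_self]
            exact q.zero_mem
          · have h1 : (decompose 𝒜 b (n - α) : R) ∈ q := by
              by_contra h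
              have := hbtop _ h
              omega
            have h2 : (decompose 𝒜 a (n - β) : R) ∈ q := by
              by_contra h
              have := hatop _ h
              omega
            exact q.sub_mem (q.mul_mem_left _ h1) (q.mul_mem_left _ h2)
      by_cases hb'q : b' ∈ q
      · exact ⟨(decompose 𝒜 a α : R), (decompose 𝒜 b β : R), haαp, hb' ▸ hb'q⟩
      · have ht := hrange _ (top_notMem 𝒜 q hqh hb'q)
        have hbt := hrange _ (bot_notMem 𝒜 q hqh hb'q)
        have hlt : (top 𝒜 q b' - bot 𝒜 q b').toNat < (β - bot 𝒜 q b).toNat := by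
          omega
        obtain ⟨h', c', hh', hc'⟩ := ih _ (lt_of_lt_of_le hlt hwb) b' hb'p hb'q le_rfl
        refine ⟨h' * (decompose 𝒜 a α : R), c' + h' * (decompose 𝒜 b β : R), ?_, ?_⟩
        · intro hmem
          rcases hpprime.mem_or_mem hmem with h | h
          · exact hh' h
          · exact haαp h
        · have : h' * (decompose 𝒜 a α : R) * b - (c' + h' * (decompose 𝒜 b β : R)) * a =
              h' * b' - c' * a := by
            rw [← hb']
            ring
          rw [this]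
          exact hc'
  intro b hbp
  by_cases hbq : b ∈ q
  · refine ⟨1, 0, fun h => hpprime.ne_top ((Ideal.eq_top_iff_one _).2 h), ?_⟩
    simpa using hbq
  · exact main _ b hbp hbq le_rfl

/-- Euclid in a `ℤ`-graded ring, helper8's form (L4a of S18636). -/
theorem exists_generator_mod_core {R : Type u} [CommRing R] (𝒜 : ℤ → AddSubgroup R) [GradedRing 𝒜]
    (p : Ideal R) [p.IsPrime] (hp : ¬ Ideal.IsHomogeneous 𝒜 p)
    [(Ideal.homogeneousCore 𝒜 p).toIdeal.IsPrime] :
    ∃ a ∈ p, a ∉ (Ideal.homogeneousCore 𝒜 p).toIdeal ∧ ∀ b ∈ p, ∃ s : R, s ∉ p ∧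
      s * b ∈ (Ideal.homogeneousCore 𝒜 p).toIdeal ⊔ Ideal.span {a} := by
  obtain ⟨a, hap, haq, h⟩ := exists_gen 𝒜 p hp
  refine ⟨a, hap, haq, fun b hb => ?_⟩
  obtain ⟨s, c, hs, hc⟩ := h b hb
  refine ⟨s, hs, ?_⟩
  have : s * b = (s * b - c * a) + c * a := by ring
  rw [this]
  exact Ideal.add_mem _ (Ideal.mem_sup_left hc)
    (Ideal.mem_sup_right (Ideal.mul_mem_left _ _ (Ideal.mem_span_singleton_self a)))

end Groth.Agent.Lib.Helper33.BassShiftL4a
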