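import Mathlib

set_option autoImplicit false
universe v

namespace Groth.Agent.Lib.Helper33.CharpolyAdj

open Polynomial Matrix

variable {K : Type v} [Field K]

/-- matrix form of the functional equation: if `A * B = lam`, then
`det A * det(1 - X B) = (-1)^m * charpoly A (lam X)` -/
theorem mat_funct_eq {m : ℕ} (A Bm : Matrix (Fin m) (Fin m) K) (lam : K)
    (h : A * Bm = lam • (1 : Matrix (Fin m) (Fin m) K)) :
    C A.det * Bm.charpolyRev = (-1) ^ m * A.charpoly.comp (C lam * X) := by
  have h1 : C A.det = ((C : K →+* K[X]).mapMatrix A).det := RingHom.map_det _ _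
  have h2 : A.charpoly.comp (C lam * X) =
      ((charmatrix A).map (Polynomial.compRingHom (C lam * X))).det := by
    unfold Matrix.charpoly
    exact (RingHom.map_det (Polynomial.compRingHom (C lam * X)) (charmatrix A))
  have h3 : (charmatrix A).map (Polynomial.compRingHom (C lam * X)) =
      -(((C : K →+* K[X]).mapMatrix A) * (1 - (X : K[X]) • Bm.map C)) := by
    have hAB : ((C : K →+* K[X]).mapMatrix A) * (Bm.map C) =
        (C lam) • (1 : Matrix (Fin m) (Fin m) K[X]) := by
      have := congrArg (C : K →+* K[X]).mapMatrix h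
      rw [map_mul] at this
      rw [RingHom.mapMatrix_apply] at this ⊢
      rw [RingHom.mapMatrix_apply] at this
      rw [this]
      ext i j
      by_cases hij : i = j <;> simp [hij]
    rw [mul_sub, mul_one, Matrix.mul_smul, hAB]
    ext i j
    by_cases hij : i = j
    · subst hij
      simp [charmatrix_apply_eq]
    · simp [hij]
  rw [h2, h3, Matrix.det_neg, Fintype.card_fin, Matrix.det_mul, ← h1]
  have hsq : (-1 : K[X]) ^ m * (-1) ^ m = 1 := by rw [← mul_pow]; simp
  rw [← mul_assoc, hsq, one_mul]
  rfl


theorem charpoly_dualMap {W : Type*} [AddCommGroup W] [Module K W] [Module.Finite K W]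
    (f : W →ₗ[K] W) : f.dualMap.charpoly = f.charpoly := by
  classical
  set b := Module.finBasis K W
  rw [← LinearMap.charpoly_toMatrix f b, ← LinearMap.charpoly_toMatrix f.dualMap b.dualBasis,
    LinearMap.dualMap_def, LinearMap.toMatrix_transpose, Matrix.charpoly_transpose]

theorem lin_funct_eq {D : Type*} [AddCommGroup D] [Module K D] [Module.Finite K D]
    (α β : D →ₗ[K] D) (lam : K) (hlam : lam ≠ 0) (h : β ∘ₗ α = lam • LinearMap.id) :
    LinearMap.det α • β.charpoly.reverse =
      (-1) ^ (Module.finrank K D) * α.charpoly.comp (C lam * X) := by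
  classical
  set b := Module.finBasis K D
  set A := LinearMap.toMatrix b b α with hA
  set Bm := LinearMap.toMatrix b b β with hB
  have hBA : Bm * A = lam • (1 : Matrix _ _ K) := by
    rw [hA, hB, ← LinearMap.toMatrix_comp, h, map_smul, LinearMap.toMatrix_id]
  have hAB : A * Bm = lam • (1 : Matrix _ _ K) := by
    have h1 : (lam⁻¹ • Bm) * A = 1 := by
      rw [Matrix.smul_mul, hBA, smul_smul, inv_mul_cancel₀ hlam, one_smul]
    have h2 := _root_.mul_eq_one_comm.mp h1
    rw [Matrix.mul_smul] at h2
    calc A * Bm = lam • (lam⁻¹ • (A * Bm)) := by rw [smul_smul, mul_inv_cancel₀ hlam, one_smul]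
      _ = lam • 1 := by rw [h2]
  have := mat_funct_eq A Bm lam hAB
  rw [← LinearMap.charpoly_toMatrix α b, ← LinearMap.charpoly_toMatrix β b,
    ← LinearMap.det_toMatrix b α, Matrix.reverse_charpoly, Polynomial.smul_eq_C_mul]
  exact this

/-- functional equation for two endomorphisms adjoint up to a scalar under a perfect pairing -/
theorem pairing_funct_eq {V W : Type*} [AddCommGroup V] [Module K V]
    [AddCommGroup W] [Module K W] [Module.Finite K V] [Module.Finite K W]
    (B : V →ₗ[K] W →ₗ[K] K) [B.IsPerfPair] (φ : V →ₗ[K] V) (ψ : W →ₗ[K] W) (lam : K)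
    (hlam : lam ≠ 0) (h : ∀ v w, B (φ v) (ψ w) = lam * B v w) :
    LinearMap.det φ • ψ.charpoly.reverse =
      (-1) ^ (Module.finrank K V) * φ.charpoly.comp (C lam * X) := by
  let e : V ≃ₗ[K] Module.Dual K W := B.toPerfPair
  have hcomp : ψ.dualMap ∘ₗ (e.conj φ) = lam • LinearMap.id := by
    apply LinearMap.ext
    intro g
    apply LinearMap.ext
    intro w
    obtain ⟨v, rfl⟩ := e.surjective g
    simp only [LinearMap.coe_comp, Function.comp_apply, LinearEquiv.conj_apply,
      LinearEquiv.coe_coe, LinearEquiv.symm_apply_apply, LinearMap.dualMap_apply,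
      LinearMap.smul_apply, LinearMap.id_coe, id_eq, smul_eq_mul]
    exact h v w
  have key := lin_funct_eq (e.conj φ) ψ.dualMap lam hlam hcomp
  have hdet : LinearMap.det (e.conj φ) = LinearMap.det φ := by
    rw [LinearEquiv.conj_apply, LinearMap.comp_assoc, LinearMap.det_conj]
  rw [charpoly_dualMap, LinearEquiv.charpoly_conj, hdet, Subspace.dual_finrank_eq,
    ← Module.finrank_of_isPerfPair B] at key
  exact key

end Groth.Agent.Lib.Helper33.CharpolyAdj
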