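import Mathlib
import Groth.Agent.Lib.Helper32.ChevDVR.Defs
import Groth.Agent.Lib.Helper91.CauchyBinet

set_option autoImplicit false
universe u
open TensorProduct
open Groth.Agent.Lib.Helper32.ChevDVR

namespace Groth.Agent.Lib.Helper33.ChevDVR6

variable {R : Type u} [CommRing R]

/-- a determinant with one row in an ideal lies in the ideal -/
lemma det_mem_of_row {m : ℕ} (J : Ideal R) (M : Matrix (Fin m) (Fin m) R) (r : Fin m)
    (hr : ∀ l, M r l ∈ J) : M.det ∈ J := by
  rw [Matrix.det_apply']
  refine Ideal.sum_mem _ (fun σ _ => ?_)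
  apply J.mul_mem_left
  obtain ⟨c, hc⟩ : M (σ (σ⁻¹ r)) (σ⁻¹ r) ∣ ∏ i, M (σ i) i :=
    Finset.dvd_prod_of_mem (fun i => M (σ i) i) (Finset.mem_univ (σ⁻¹ r))
  have hσ : σ (σ⁻¹ r) = r := by simp
  rw [hc, hσ]
  exact J.mul_mem_right _ (hr _)

/-- Cauchy–Binet when all the other `e × e` minors of the first `e` columns vanish -/
lemma det_mul_eq {n : ℕ} (e : ℕ) (a : Matrix (Fin n) (Fin n) R)
    (S₀ : {S : Finset (Fin n) // S.card = e})
    (hz : ∀ S, S ≠ S₀ → compound e a S S₀ = 0) (L : Matrix (Fin e) (Fin n) R) :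
    (L * a.submatrix id (S₀.1.orderEmbOfFin S₀.2)).det =
      (L.submatrix id (S₀.1.orderEmbOfFin S₀.2)).det * compound e a S₀ S₀ := by
  rw [Groth.Agent.Lib.Helper91.cauchy_binet e n L]
  rw [Finset.sum_eq_single S₀]
  · rfl
  · intro S _ hS
    have : ((a.submatrix id (S₀.1.orderEmbOfFin S₀.2)).submatrix
        (S.1.orderEmbOfFin S.2) id).det = compound e a S S₀ := rfl
    rw [this, hz S hS, mul_zero]
  · intro h
    exact absurd (Finset.mem_univ _) h

lemma entry_eq_zero {n : ℕ} (e : ℕ) (a a' : Matrix (Fin n) (Fin n) R) (h : a' * a = 1)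
    (S₀ : {S : Finset (Fin n) // S.card = e}) (hS₀ : ∀ i : Fin n, i ∈ S₀.1 ↔ i.1 < e)
    (hz : ∀ S, S ≠ S₀ → compound e a S S₀ = 0) (i j : Fin n) (hi : e ≤ i.1) (hj : j.1 < e) :
    a i j = 0 := by
  classical
  generalize hemb : S₀.1.orderEmbOfFin S₀.2 = emb at *
  have hemb_lt : ∀ l, (emb l).1 < e := fun l => by
    rw [← hemb]
    exact (hS₀ _).1 (Finset.orderEmbOfFin_mem _ _ l)
  let N : Matrix (Fin e) (Fin e) R := a.submatrix emb emb
  have hX : compound e a S₀ S₀ = N.det := by
    rw [compound_apply, hemb]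
  have hkey : ∀ L : Matrix (Fin e) (Fin n) R,
      (L * a.submatrix id emb).det = (L.submatrix id emb).det * N.det := by
    intro L
    have := det_mul_eq e a S₀ hz L
    rw [hemb, hX] at this
    exact this
  -- the minor is a unit
  have hunit : IsUnit N.det := by
    have h1 := hkey (a'.submatrix emb id)
    have h2 : a'.submatrix emb id * a.submatrix id emb = 1 := by
      rw [← Matrix.submatrix_mul a' a emb id emb Function.bijective_id, h,
        Matrix.submatrix_one _ emb.injective]
    rw [h2, Matrix.det_one] at h1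
    exact IsUnit.of_mul_eq_one _ (by rw [mul_comm]; exact h1.symm)
  let b : Fin e → R := fun l => a i (emb l)
  have hdet : ∀ m : Fin e, (N.updateRow m b).det = 0 := by
    intro m
    let g : Fin e → Fin n := Function.update emb m i
    have h1 := hkey ((1 : Matrix (Fin n) (Fin n) R).submatrix g id)
    have h2 : (1 : Matrix (Fin n) (Fin n) R).submatrix g id * a.submatrix id emb =
        N.updateRow m b := by
      rw [← Matrix.submatrix_mul 1 a g id emb Function.bijective_id, Matrix.one_mul]
      ext k l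
      simp only [Matrix.submatrix_apply, Matrix.updateRow_apply, g, Function.update_apply, N, b]
      split_ifs <;> rfl
    have h3 : (((1 : Matrix (Fin n) (Fin n) R).submatrix g id).submatrix id emb).det = 0 := by
      apply Matrix.det_eq_zero_of_row_eq_zero m
      intro l
      simp only [Matrix.submatrix_apply, id]
      rw [Matrix.one_apply_ne]
      intro hc
      have hc' : i = emb l := by simpa [g] using hc
      have := hemb_lt l
      rw [← hc'] at this
      omega
    rw [h2, h3, zero_mul] at h1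
    exact h1
  have hcr : Matrix.cramer N.transpose b = 0 := by
    ext m
    rw [Matrix.cramer_transpose_apply, hdet m]
    rfl
  have hXb : N.det • b = 0 := by
    have := Matrix.mulVec_cramer N.transpose b
    rw [hcr, Matrix.mulVec_zero, Matrix.det_transpose] at this
    exact this.symm
  obtain ⟨l, hl⟩ : ∃ l, emb l = j := by
    have : j ∈ Set.range emb := by
      rw [← hemb, Finset.range_orderEmbOfFin]
      exact (hS₀ j).2 hj
    exact this
  have h4 : N.det * a i j = 0 := by
    have := congrFun hXb l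
    simpa [b, hl] using this
  exact (hunit.mul_right_eq_zero).1 h4

/-- CH6 of S16359 (msg 3326). -/
theorem span_compound_col {R : Type u} [CommRing R] {n : ℕ} (e : ℕ)
    (a a' : Matrix (Fin n) (Fin n) R) (h : a' * a = 1)
    (S₀ : {S : Finset (Fin n) // S.card = e}) (hS₀ : ∀ i : Fin n, i ∈ S₀.1 ↔ i.1 < e) :
    Ideal.span {x | ∃ S, S ≠ S₀ ∧ x = compound e a S S₀} =
      Ideal.span {x | ∃ i j : Fin n, e ≤ i.1 ∧ j.1 < e ∧ x = a i j} := by
  classical
  apply le_antisymm
  · rw [Ideal.span_le]
    rintro x ⟨S, hS, rfl⟩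
    have hnot : ¬ S.1 ⊆ S₀.1 := by
      intro hsub
      apply hS
      apply Subtype.ext
      exact Finset.eq_of_subset_of_card_le hsub (by rw [S.2, S₀.2])
    obtain ⟨i, hiS, hiS₀⟩ := Finset.not_subset.1 hnot
    have hi : e ≤ i.1 := by
      by_contra hlt
      push Not at hlt
      exact hiS₀ ((hS₀ i).2 hlt)
    obtain ⟨r, hr⟩ : ∃ r, S.1.orderEmbOfFin S.2 r = i := by
      have : i ∈ Set.range (S.1.orderEmbOfFin S.2) := by
        rw [Finset.range_orderEmbOfFin]
        exact hiS
      exact this
    rw [SetLike.mem_coe, compound_apply]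
    apply det_mem_of_row _ _ r
    intro l
    apply Ideal.subset_span
    refine ⟨i, S₀.1.orderEmbOfFin S₀.2 l, hi,
      (hS₀ _).1 (Finset.orderEmbOfFin_mem _ _ l), ?_⟩
    simp [hr]
  · rw [Ideal.span_le]
    rintro x ⟨i, j, hi, hj, rfl⟩
    generalize hJ' : Ideal.span {x | ∃ S, S ≠ S₀ ∧ x = compound e a S S₀} = J'
    have hmap : ∀ S T, compound e (a.map (Ideal.Quotient.mk J')) S T =
        Ideal.Quotient.mk J' (compound e a S T) := by
      intro S T
      simp only [compound_apply]
      rw [RingHom.map_det]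
      rfl
    have hz : ∀ S, S ≠ S₀ → compound e (a.map (Ideal.Quotient.mk J')) S S₀ = 0 := by
      intro S hS
      rw [hmap, Ideal.Quotient.eq_zero_iff_mem, ← hJ']
      exact Ideal.subset_span ⟨S, hS, rfl⟩
    have h' : (a'.map (Ideal.Quotient.mk J')) * (a.map (Ideal.Quotient.mk J')) = 1 := by
      rw [← Matrix.map_mul, h, Matrix.map_one _ (map_zero _) (map_one _)]
    have := entry_eq_zero e (a.map (Ideal.Quotient.mk J')) (a'.map (Ideal.Quotient.mk J')) h'
      S₀ hS₀ hz i j hi hj
    rw [Matrix.map_apply, Ideal.Quotient.eq_zero_iff_mem] at this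
    exact this

end Groth.Agent.Lib.Helper33.ChevDVR6
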