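import Mathlib.Tactic
import Groth.Prelude.Def_ConstAct2
import Groth.Prelude.Def_Hoch

/-!
# Helper33: components of `B ⊗ Fun(Γ,R)`

`comp g : B ⊗[R] ConstGrp.F R Γ →ₐ[R] B` is the `g`-th component (`b ⊗ f ↦ f g • b`);
every element is `Σ_g comp g x ⊗ e_g` (`eq_sum_comp`), so elements are determined by their
components (`ext_comp`).
-/

set_option autoImplicit false
universe u

namespace Groth.Agent.Lib.Helper33.ConstLib

open TensorProduct

variable (R : Type u) [CommRing R] (B : Type u) [CommRing B] [Algebra R B]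
  (Γ : Type u)

/-- The `g`-th component `B ⊗ Fun(Γ,R) → B`, an algebra map. -/
noncomputable def comp (g : Γ) : B ⊗[R] ConstGrp.F R Γ →ₐ[R] B :=
  (Algebra.TensorProduct.rid R R B).toAlgHom.comp
    (Algebra.TensorProduct.map (AlgHom.id R B) (ConstGrp.ev R g))

theorem comp_tmul (g : Γ) (b : B) (f : ConstGrp.F R Γ) :
    comp R B Γ g (b ⊗ₜ[R] f) = f g • b := by
  simp [comp]

variable [DecidableEq Γ]

theorem comp_tmul_e (g h : Γ) (b : B) :
    comp R B Γ g (b ⊗ₜ[R] ConstGrp.e R h) = if g = h then b else 0 := by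
  rw [comp_tmul, ConstGrp.e_apply]
  split_ifs <;> simp

variable [Fintype Γ]

theorem eq_sum_comp (x : B ⊗[R] ConstGrp.F R Γ) :
    x = ∑ g : Γ, comp R B Γ g x ⊗ₜ[R] ConstGrp.e R g := by
  induction x using TensorProduct.induction_on with
  | zero => simp
  | tmul b f =>
    simp only [comp_tmul]
    conv_lhs => rw [ConstGrp.eq_sum_smul_e f, TensorProduct.tmul_sum]
    refine Finset.sum_congr rfl fun g _ => ?_
    rw [TensorProduct.smul_tmul]
  | add x y hx hy =>
    conv_lhs => rw [hx, hy]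
    rw [← Finset.sum_add_distrib]
    refine Finset.sum_congr rfl fun g _ => ?_
    rw [map_add, TensorProduct.add_tmul]

theorem ext_comp {x y : B ⊗[R] ConstGrp.F R Γ}
    (h : ∀ g, comp R B Γ g x = comp R B Γ g y) : x = y := by
  rw [eq_sum_comp R B Γ x, eq_sum_comp R B Γ y]
  exact Finset.sum_congr rfl fun g _ => by rw [h g]

theorem comp_sum_tmul_e (g : Γ) (b : Γ → B) :
    comp R B Γ g (∑ h : Γ, b h ⊗ₜ[R] ConstGrp.e R h) = b g := by
  rw [map_sum]
  simp only [comp_tmul_e]
  rw [Finset.sum_ite_eq]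
  simp

end Groth.Agent.Lib.Helper33.ConstLib
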