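import Mathlib.CategoryTheory.MorphismProperty.Descent
import Mathlib.CategoryTheory.Limits.Shapes.Pullback.IsPullback.Basic

/-!
# Descent form of the pasting lemma for pullbacks

If the left square and the outer rectangle of a horizontal pasting are pullbacks and the bottom-left
map is a cover along which isomorphisms descend, then the right square is a pullback.
-/

set_option autoImplicit false
universe v u
open CategoryTheory CategoryTheory.Limits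

namespace Groth.Agent.Lib.Helper33.DescentPaste

variable {C : Type u} [Category.{v} C] [HasPullbacks C]

theorem isPullback_right_of_descendsAlong
    {X₁₁ X₁₂ X₁₃ X₂₁ X₂₂ X₂₃ : C} {h₁₁ : X₁₁ ⟶ X₁₂} {h₁₂ : X₁₂ ⟶ X₁₃} {h₂₁ : X₂₁ ⟶ X₂₂}
    {h₂₂ : X₂₂ ⟶ X₂₃} {v₁₁ : X₁₁ ⟶ X₂₁} {v₁₂ : X₁₂ ⟶ X₂₂} {v₁₃ : X₁₃ ⟶ X₂₃}
    (left : IsPullback h₁₁ v₁₁ v₁₂ h₂₁)
    (outer : IsPullback (h₁₁ ≫ h₁₂) v₁₁ v₁₃ (h₂₁ ≫ h₂₂))
    (comm : h₁₂ ≫ v₁₃ = v₁₂ ≫ h₂₂)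
    (W : MorphismProperty C) [W.IsStableUnderBaseChange]
    [(MorphismProperty.isomorphisms C).DescendsAlong W] (hW : W h₂₁) :
    IsPullback h₁₂ v₁₂ v₁₃ h₂₂ := by
  -- R = X₁₃ ×_{X₂₃} X₂₂
  set κ : X₁₂ ⟶ pullback v₁₃ h₂₂ := pullback.lift h₁₂ v₁₂ comm with hκ
  have hκ1 : κ ≫ pullback.fst v₁₃ h₂₂ = h₁₂ := pullback.lift_fst _ _ _
  have hκ2 : κ ≫ pullback.snd v₁₃ h₂₂ = v₁₂ := pullback.lift_snd _ _ _
  -- R' = R ×_{X₂₂} X₂₁
  set σ := pullback.snd v₁₃ h₂₂ with hσ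
  set κ' : X₁₁ ⟶ pullback σ h₂₁ := pullback.lift (h₁₁ ≫ κ) v₁₁
    (by rw [Category.assoc, hκ2, left.w]) with hκ'
  have hκ'1 : κ' ≫ pullback.fst σ h₂₁ = h₁₁ ≫ κ := pullback.lift_fst _ _ _
  have hκ'2 : κ' ≫ pullback.snd σ h₂₁ = v₁₁ := pullback.lift_snd _ _ _
  have sq : IsPullback κ' h₁₁ (pullback.fst σ h₂₁) κ := by
    refine IsPullback.of_right ?_ hκ'1 (IsPullback.of_hasPullback σ h₂₁).flip
    rw [hκ'2, hκ2]
    exact left.flip
  -- the pasted pullback R' = X₁₃ ×_{X₂₃} X₂₁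
  have pasted : IsPullback (pullback.fst σ h₂₁ ≫ pullback.fst v₁₃ h₂₂) (pullback.snd σ h₂₁) v₁₃
      (h₂₁ ≫ h₂₂) :=
    (IsPullback.of_hasPullback σ h₂₁).paste_horiz (IsPullback.of_hasPullback v₁₃ h₂₂)
  have hiso' : IsIso κ' := by
    have : κ' = (outer.isoIsPullback _ _ pasted).hom := by
      apply pasted.hom_ext
      · rw [IsPullback.isoIsPullback_hom_fst, ← Category.assoc, hκ'1, Category.assoc, hκ1]
      · rw [IsPullback.isoIsPullback_hom_snd, hκ'2]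
    rw [this]
    infer_instance
  have hiso : IsIso κ :=
    MorphismProperty.of_isPullback_of_descendsAlong (P := MorphismProperty.isomorphisms C) (Q := W)
      sq (W.of_isPullback (IsPullback.of_hasPullback σ h₂₁).flip hW) hiso'
  exact IsPullback.of_iso_pullback ⟨comm⟩ (asIso κ) hκ1 hκ2

end Groth.Agent.Lib.Helper33.DescentPaste
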