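import Mathlib

set_option autoImplicit false

open Polynomial Matrix

namespace Groth.Agent.Lib.Helper33.DetSeries

section Jacobi

variable {n : Type*} [Fintype n] [DecidableEq n] {R : Type*} [CommRing R]

/-- Jacobi's formula for matrices of polynomials -/
theorem derivative_det (A : Matrix n n R[X]) :
    derivative A.det = (A.adjugate * A.map derivative).trace := by
  have h1 : ∀ j, (A.updateCol j fun i => derivative (A i j)).det =
      ∑ i, A.adjugate j i * derivative (A i j) := by
    intro j
    rw [← Matrix.cramer_apply, Matrix.cramer_eq_adjugate_mulVec]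
    rfl
  have h2 : (A.adjugate * A.map derivative).trace =
      ∑ j, (A.updateCol j fun i => derivative (A i j)).det := by
    simp only [Matrix.trace, Matrix.diag_apply, Matrix.mul_apply, Matrix.map_apply, h1]
  rw [h2]
  simp only [Matrix.det_apply, map_sum]
  rw [Finset.sum_comm]
  refine Finset.sum_congr rfl fun σ _ => ?_
  simp only [Units.smul_def, map_zsmul, ← Finset.smul_sum]
  congr 1
  rw [Polynomial.derivative_prod_finset]
  refine Finset.sum_congr rfl fun j _ => ?_
  rw [← Finset.prod_erase_mul _ _ (Finset.mem_univ j)]
  congr 1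
  · refine Finset.prod_congr rfl fun i hi => ?_
    rw [Matrix.updateCol_ne (Finset.ne_of_mem_erase hi)]
  · rw [Matrix.updateCol_self]

/-- the logarithmic derivative of `det(1 - tM)` is `-∑ tr(M^(m+1)) t^m` -/
theorem derivative_charpolyRev (M : Matrix n n R) :
    PowerSeries.derivative R (M.charpolyRev : PowerSeries R) =
      -(PowerSeries.mk fun m => (M ^ (m + 1)).trace) * (M.charpolyRev : PowerSeries R) := by
  set ι : R[X] →+* PowerSeries R := Polynomial.coeToPowerSeries.ringHom with hι
  set A : Matrix n n R[X] := 1 - (X : R[X]) • M.map C with hA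
  have hP : M.charpolyRev = A.det := rfl
  have hA' : A.map derivative = - M.map C := by
    refine Matrix.ext fun i j => ?_
    by_cases h : i = j <;> simp [hA, h]
  have hJ : derivative A.det = -(A.adjugate * M.map C).trace := by
    rw [derivative_det, hA', Matrix.mul_neg, Matrix.trace_neg]
  set Mc : Matrix n n (PowerSeries R) := M.map (PowerSeries.C) with hMc
  set A' : Matrix n n (PowerSeries R) := 1 - (PowerSeries.X : PowerSeries R) • Mc with hA'def
  set S : Matrix n n (PowerSeries R) :=
    Matrix.of fun i j => PowerSeries.mk fun m => (M ^ (m + 1)) i j with hS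
  have hAι : A.map ι = A' := by
    refine Matrix.ext fun i j => ?_
    by_cases h : i = j <;> simp [hA, hA'def, hMc, hι, h] <;> ring
  have hMι : (M.map C).map ι = Mc := by
    refine Matrix.ext fun i j => ?_
    simp [hMc, hι]
  have hAS : A' * S = Mc := by
    rw [hA'def, sub_mul, one_mul, smul_mul_assoc]
    refine Matrix.ext fun i j => ?_
    ext m
    rw [Matrix.sub_apply, Matrix.smul_apply, smul_eq_mul, map_sub]
    cases m with
    | zero =>
      simp [hS, hMc]
    | succ m =>
      rw [PowerSeries.coeff_succ_X_mul]
      simp only [hS, hMc, Matrix.mul_apply, Matrix.of_apply, Matrix.map_apply, map_sum,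
        PowerSeries.coeff_C_mul, PowerSeries.coeff_mk]
      rw [pow_succ' M (m + 1), Matrix.mul_apply]
      simp
  have hadj : (A.adjugate.map ι) * A' =
      (M.charpolyRev : PowerSeries R) • (1 : Matrix n n (PowerSeries R)) := by
    rw [← hAι, ← Matrix.map_mul, Matrix.adjugate_mul, hP]
    refine Matrix.ext fun i j => ?_
    by_cases h : i = j <;> simp [hι, h]
  have key : ((A.adjugate * M.map C).map ι) = (M.charpolyRev : PowerSeries R) • S := by
    rw [Matrix.map_mul, hMι, ← hAS, ← Matrix.mul_assoc, hadj, Matrix.smul_mul, Matrix.one_mul]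
  have htrS : S.trace = PowerSeries.mk fun m => (M ^ (m + 1)).trace := by
    ext m
    simp [hS, Matrix.trace, map_sum]
  calc PowerSeries.derivative R (M.charpolyRev : PowerSeries R)
      = ι (derivative A.det) := by rw [PowerSeries.derivative_coe, hP]; rfl
    _ = -((A.adjugate * M.map C).map ι).trace := by
        rw [hJ, map_neg]
        congr 1
        exact AddMonoidHom.map_trace ι.toAddMonoidHom _
    _ = _ := by rw [key, Matrix.trace_smul, htrS, smul_eq_mul]; ring

end Jacobi

/-- the logarithmic derivative of `det(1 - tφ)` is `-∑ tr(φ^(m+1)) t^m` -/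
theorem derivative_reverse_charpoly {K V : Type*} [Field K] [AddCommGroup V] [Module K V]
    [FiniteDimensional K V] (φ : V →ₗ[K] V) :
    PowerSeries.derivative K ((φ.charpoly.reverse : K[X]) : PowerSeries K) =
      -(PowerSeries.mk fun m => LinearMap.trace K V (φ ^ (m + 1))) *
        ((φ.charpoly.reverse : K[X]) : PowerSeries K) := by
  classical
  set b := Module.finBasis K V
  have h1 : φ.charpoly = (LinearMap.toMatrix b b φ).charpoly :=
    (LinearMap.charpoly_toMatrix φ b).symm
  have h2 : ∀ m, LinearMap.trace K V (φ ^ m) = ((LinearMap.toMatrix b b φ) ^ m).trace := by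
    intro m
    rw [LinearMap.trace_eq_matrix_trace K b, LinearMap.toMatrix_pow]
  rw [h1, Matrix.reverse_charpoly, derivative_charpolyRev]
  simp only [h2]

/-- uniqueness of solutions of `y' = A y` -/
theorem eq_of_derivative_eq_mul {K : Type*} [Field K] [CharZero K] (A y₁ y₂ : PowerSeries K)
    (h₁ : PowerSeries.derivative K y₁ = A * y₁) (h₂ : PowerSeries.derivative K y₂ = A * y₂)
    (h0 : PowerSeries.constantCoeff y₁ = PowerSeries.constantCoeff y₂) : y₁ = y₂ := by
  suffices h : ∀ d : PowerSeries K, PowerSeries.derivative K d = A * d →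
      PowerSeries.constantCoeff d = 0 → d = 0 by
    have := h (y₁ - y₂) (by rw [map_sub, h₁, h₂, mul_sub]) (by rw [map_sub, h0, sub_self])
    exact sub_eq_zero.1 this
  intro d hd h0
  ext m
  rw [map_zero]
  induction m using Nat.strong_induction_on with
  | _ m ih =>
    cases m with
    | zero => simpa using h0
    | succ m =>
      have := congrArg (PowerSeries.coeff m) hd
      rw [PowerSeries.coeff_derivative, PowerSeries.coeff_mul] at this
      have hz : ∑ p ∈ Finset.HasAntidiagonal.antidiagonal m,
          PowerSeries.coeff p.1 A * PowerSeries.coeff p.2 d = 0 := by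
        refine Finset.sum_eq_zero fun p hp => ?_
        have hle : p.1 + p.2 = m := Finset.HasAntidiagonal.mem_antidiagonal.1 hp
        rw [ih p.2 (by omega), mul_zero]
      rw [hz] at this
      have hne : ((m : K) + 1) ≠ 0 := Nat.cast_add_one_ne_zero m
      exact (mul_eq_zero.1 this).resolve_right hne

theorem derivative_prod_of_log {K : Type*} [CommRing K] {ι : Type*} (s : Finset ι)
    (f A : ι → PowerSeries K)
    (h : ∀ i ∈ s, PowerSeries.derivative K (f i) = A i * f i) :
    PowerSeries.derivative K (∏ i ∈ s, f i) = (∑ i ∈ s, A i) * ∏ i ∈ s, f i := by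
  classical
  induction s using Finset.induction_on with
  | empty => simp
  | insert a s ha ih =>
    rw [Finset.prod_insert ha, Finset.sum_insert ha, Derivation.leibniz,
      ih (fun i hi => h i (Finset.mem_insert_of_mem hi)), h a (Finset.mem_insert_self a s)]
    simp only [smul_eq_mul]
    ring

/-- `exp(L)' = L' exp(L)` and `exp(L)(0) = 1` for `L(0) = 0` -/
theorem derivative_exp_subst (L : PowerSeries ℚ) (hL : PowerSeries.constantCoeff L = 0) :
    PowerSeries.derivative ℚ (PowerSeries.subst L (PowerSeries.exp ℚ)) =
        PowerSeries.derivative ℚ L * PowerSeries.subst L (PowerSeries.exp ℚ) ∧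
      PowerSeries.constantCoeff (PowerSeries.subst L (PowerSeries.exp ℚ)) = 1 := by
  have hs : PowerSeries.HasSubst L := PowerSeries.HasSubst.of_constantCoeff_zero' hL
  constructor
  · rw [PowerSeries.derivative_subst hs, PowerSeries.derivative_exp, mul_comm]
  · have h1 : PowerSeries.exp ℚ = (PowerSeries.exp ℚ - 1) + 1 := by ring
    rw [h1, PowerSeries.subst_add hs, map_add]
    have h2 : PowerSeries.constantCoeff (PowerSeries.subst L (PowerSeries.exp ℚ - 1)) = 0 := by
      apply PowerSeries.constantCoeff_subst_eq_zero hL
      simp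
    have h3 : PowerSeries.subst L (1 : PowerSeries ℚ) = 1 := by
      rw [← PowerSeries.coe_substAlgHom hs, map_one]
    rw [h2, h3, zero_add, map_one]

end Groth.Agent.Lib.Helper33.DetSeries
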