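import Mathlib.NumberTheory.LSeries.Convergence
import Mathlib.Analysis.Normed.Ring.InfiniteSum
import Mathlib.Analysis.SpecificLimits.Normed
import Mathlib.Analysis.SpecialFunctions.Pow.Real
import Mathlib.Topology.Algebra.InfiniteSum.Real
import Mathlib.Algebra.BigOperators.Finsupp.Basic
import Mathlib.Algebra.BigOperators.Field

set_option autoImplicit false
set_option linter.style.haveILetI false
set_option linter.unusedSectionVars false
universe u v

namespace Groth.Agent.Lib.Helper33.EulerCycles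

section Finite

variable {P : Type u} [DecidableEq P] {𝕜 : Type v} [NormedField 𝕜] [CompleteSpace 𝕜]

/-- the bijection `ℕ × {cycles supported in S} ≃ {cycles supported in insert x S}` -/
noncomputable def insEquiv (x : P) (S : Finset P) (hx : x ∉ S) :
    ℕ × {α : P →₀ ℕ // α.support ⊆ S} ≃ {α : P →₀ ℕ // α.support ⊆ insert x S} where
  toFun z := ⟨z.2.1 + Finsupp.single x z.1, by
    intro y hy
    have h := Finsupp.support_add hy
    rw [Finset.mem_union] at h
    rcases h with h | h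
    · exact Finset.mem_insert_of_mem (z.2.2 h)
    · have h' := Finsupp.support_single_subset h
      rw [Finset.mem_singleton] at h'
      rw [h']
      exact Finset.mem_insert_self _ _⟩
  invFun α := ⟨α.1 x, ⟨α.1.erase x, by
    intro y hy
    rw [Finsupp.support_erase] at hy
    exact Finset.mem_of_mem_insert_of_ne (α.2 (Finset.mem_of_mem_erase hy))
      (Finset.ne_of_mem_erase hy)⟩⟩
  left_inv z := by
    have hzx : z.2.1 x = 0 := by
      by_contra h
      exact hx (z.2.2 (Finsupp.mem_support_iff.2 h))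
    apply Prod.ext
    · simp [hzx]
    · apply Subtype.ext
      ext y
      by_cases hy : y = x
      · subst hy
        simp [hzx]
      · simp [Finsupp.erase_ne hy]
  right_inv α := Subtype.ext (Finsupp.erase_add_single x α.1)

theorem hasSum_supported (u : P → 𝕜) (S : Finset P) (hu : ∀ x ∈ S, ‖u x‖ < 1) :
    Summable (fun α : {α : P →₀ ℕ // α.support ⊆ S} => ‖α.1.prod (fun x m => u x ^ m)‖) ∧
    HasSum (fun α : {α : P →₀ ℕ // α.support ⊆ S} => α.1.prod (fun x m => u x ^ m))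
      (∏ x ∈ S, (1 - u x)⁻¹) := by
  induction S using Finset.induction_on with
  | empty =>
    haveI : Unique {α : P →₀ ℕ // α.support ⊆ (∅ : Finset P)} :=
      { default := ⟨0, by simp⟩
        uniq := fun α => Subtype.ext (by
          have h := α.2
          rw [Finset.subset_empty, Finsupp.support_eq_empty] at h
          exact h) }
    have hd : ∀ α : {α : P →₀ ℕ // α.support ⊆ (∅ : Finset P)}, α.1 = 0 := fun α => by
      have h := α.2
      rw [Finset.subset_empty, Finsupp.support_eq_empty] at h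
      exact h
    haveI : Fintype {α : P →₀ ℕ // α.support ⊆ (∅ : Finset P)} := Unique.fintype
    constructor
    · exact (hasSum_fintype (fun α : {α : P →₀ ℕ // α.support ⊆ (∅ : Finset P)} =>
        ‖α.1.prod (fun x m => u x ^ m)‖)).summable
    · have h := hasSum_fintype
        (fun α : {α : P →₀ ℕ // α.support ⊆ (∅ : Finset P)} => α.1.prod (fun x m => u x ^ m))
      rw [Fintype.sum_unique, hd default, Finsupp.prod_zero_index] at h
      rw [Finset.prod_empty]
      exact h
  | insert x S hx ih =>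
    obtain ⟨h1, h2⟩ := ih (fun y hy => hu y (Finset.mem_insert_of_mem hy))
    have hux := hu x (Finset.mem_insert_self x S)
    have g1 : Summable (fun j : ℕ => ‖u x ^ j‖) := by
      simp only [norm_pow]
      exact summable_geometric_of_lt_one (norm_nonneg _) hux
    have g2 : HasSum (fun j : ℕ => u x ^ j) (1 - u x)⁻¹ := hasSum_geometric_of_norm_lt_one hux
    have hE : ∀ z : ℕ × {α : P →₀ ℕ // α.support ⊆ S},
        (insEquiv x S hx z).1.prod (fun y m => u y ^ m) =
          u x ^ z.1 * z.2.1.prod (fun y m => u y ^ m) := by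
      intro z
      show (z.2.1 + Finsupp.single x z.1).prod _ = _
      rw [Finsupp.prod_add_index' (h := fun y m => u y ^ m) (fun _ => pow_zero _)
          (fun _ _ _ => pow_add _ _ _),
        Finsupp.prod_single_index (h := fun y m => u y ^ m) (pow_zero _), mul_comm]
    have h3 : Summable (fun z : ℕ × {α : P →₀ ℕ // α.support ⊆ S} =>
        ‖u x ^ z.1 * z.2.1.prod (fun y m => u y ^ m)‖) :=
      Summable.mul_norm (f := fun j : ℕ => u x ^ j)
        (g := fun α : {α : P →₀ ℕ // α.support ⊆ S} => α.1.prod (fun y m => u y ^ m)) g1 h1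
    have h4 : HasSum (fun z : ℕ × {α : P →₀ ℕ // α.support ⊆ S} =>
        u x ^ z.1 * z.2.1.prod (fun y m => u y ^ m)) ((1 - u x)⁻¹ * ∏ y ∈ S, (1 - u y)⁻¹) :=
      HasSum.mul (f := fun j : ℕ => u x ^ j)
        (g := fun α : {α : P →₀ ℕ // α.support ⊆ S} => α.1.prod (fun y m => u y ^ m)) g2 h2
        (summable_mul_of_summable_norm (f := fun j : ℕ => u x ^ j)
          (g := fun α : {α : P →₀ ℕ // α.support ⊆ S} => α.1.prod (fun y m => u y ^ m)) g1 h1)
    have hfun1 : ((fun α : {α : P →₀ ℕ // α.support ⊆ insert x S} =>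
        ‖α.1.prod (fun y m => u y ^ m)‖) ∘ (insEquiv x S hx)) =
        fun z => ‖u x ^ z.1 * z.2.1.prod (fun y m => u y ^ m)‖ :=
      funext fun z => by rw [Function.comp_apply, hE]
    have hfun2 : ((fun α : {α : P →₀ ℕ // α.support ⊆ insert x S} =>
        α.1.prod (fun y m => u y ^ m)) ∘ (insEquiv x S hx)) =
        fun z => u x ^ z.1 * z.2.1.prod (fun y m => u y ^ m) :=
      funext fun z => by rw [Function.comp_apply, hE]
    constructor
    · refine (insEquiv x S hx).summable_iff.1 ?_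
      rw [hfun1]
      exact h3
    · rw [Finset.prod_insert hx]
      refine (insEquiv x S hx).hasSum_iff.1 ?_
      rw [hfun2]
      exact h4

end Finite

section Main

variable {P : Type u} (ν : P → ℕ)

/-- the norm of a cycle -/
noncomputable def cnorm (α : P →₀ ℕ) : ℕ := α.prod (fun x m => ν x ^ m)

theorem cnorm_pos (hν : ∀ x, 2 ≤ ν x) (α : P →₀ ℕ) : 0 < cnorm ν α :=
  Finset.prod_pos fun x _ => pow_pos (lt_of_lt_of_le two_pos (hν x)) _

/-- `n ↦ n^{-s}` as a monoid hom -/
noncomputable def phi (s : ℂ) : ℕ →* ℂ where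
  toFun n := (n : ℂ) ^ (-s)
  map_one' := by simp
  map_mul' m n := by rw [Nat.cast_mul, Complex.natCast_mul_natCast_cpow]

theorem phi_apply (s : ℂ) (n : ℕ) : phi s n = (n : ℂ) ^ (-s) := rfl

theorem phi_cnorm (s : ℂ) (α : P →₀ ℕ) :
    phi s (cnorm ν α) = α.prod (fun x m => (phi s (ν x)) ^ m) := by
  unfold cnorm
  rw [map_finsuppProd]
  simp only [map_pow]

theorem inv_le_exp {w w₀ : ℝ} (hw0 : 0 ≤ w) (hle : w ≤ w₀) (hw₀ : w₀ < 1) :
    (1 - w)⁻¹ ≤ Real.exp (w / (1 - w₀)) := by
  have h1 : 0 < 1 - w := by linarith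
  have h2 : 0 < 1 - w₀ := by linarith
  have h3 : (1 - w)⁻¹ = w / (1 - w) + 1 := by
    field_simp
    ring
  rw [h3]
  have h4 : w / (1 - w) ≤ w / (1 - w₀) := div_le_div_of_nonneg_left hw0 h2 (by linarith)
  linarith [Real.add_one_le_exp (w / (1 - w₀))]

theorem exp_neg_le_norm_inv (u : ℂ) (hu : ‖u‖ < 1) :
    Real.exp (-‖u‖) ≤ ‖(1 - u)⁻¹‖ := by
  have h1 : ‖1 - u‖ ≤ 1 + ‖u‖ := by
    calc ‖1 - u‖ ≤ ‖(1 : ℂ)‖ + ‖u‖ := norm_sub_le _ _
      _ = 1 + ‖u‖ := by rw [norm_one]
  have h2 : 0 < ‖1 - u‖ := by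
    rw [norm_pos_iff, sub_ne_zero]
    intro h
    rw [← h, norm_one] at hu
    exact lt_irrefl _ hu
  have h3 : ‖1 - u‖ ≤ Real.exp ‖u‖ := h1.trans (by linarith [Real.add_one_le_exp ‖u‖])
  rw [norm_inv, Real.exp_neg]
  exact inv_anti₀ h2 h3

theorem main (hν : ∀ x, 2 ≤ ν x) (s : ℂ) (hs : 0 < s.re)
    (hsum : Summable (fun x => (ν x : ℝ) ^ (-s.re))) :
    LSeriesSummable (fun n => (Nat.card {α : P →₀ ℕ // cnorm ν α = n} : ℂ)) s ∧
    LSeries (fun n => (Nat.card {α : P →₀ ℕ // cnorm ν α = n} : ℂ)) s ≠ 0 := by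
  classical
  set σ := s.re with hσ
  set u : P → ℂ := fun x => phi s (ν x) with hu
  set w : P → ℝ := fun x => (ν x : ℝ) ^ (-σ) with hw
  have hνpos : ∀ x, 0 < ν x := fun x => lt_of_lt_of_le two_pos (hν x)
  have hnorm_u : ∀ x, ‖u x‖ = w x := by
    intro x
    show ‖((ν x : ℕ) : ℂ) ^ (-s)‖ = _
    rw [Complex.norm_natCast_cpow_of_pos (hνpos x), Complex.neg_re]
  set w₀ : ℝ := (2 : ℝ) ^ (-σ) with hw₀
  have hw₀1 : w₀ < 1 := Real.rpow_lt_one_of_one_lt_of_neg one_lt_two (neg_lt_zero.2 hs)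
  have hw0 : ∀ x, 0 ≤ w x := fun x => Real.rpow_nonneg (Nat.cast_nonneg _) _
  have hwle : ∀ x, w x ≤ w₀ := fun x =>
    Real.rpow_le_rpow_of_nonpos two_pos (by exact_mod_cast hν x) (neg_nonpos.2 hs.le)
  have hw1 : ∀ x, w x < 1 := fun x => (hwle x).trans_lt hw₀1
  have hu1 : ∀ x, ‖u x‖ < 1 := fun x => by rw [hnorm_u]; exact hw1 x
  set T : (P →₀ ℕ) → ℂ := fun α => α.prod (fun x m => u x ^ m) with hT
  have hTphi : ∀ α, T α = phi s (cnorm ν α) := fun α => (phi_cnorm ν s α).symm
  have hTnorm : ∀ α, ‖T α‖ = α.prod (fun x m => w x ^ m) := by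
    intro α
    simp only [hT, Finsupp.prod, norm_prod, norm_pow, hnorm_u]
  have hprodnn : ∀ α : P →₀ ℕ, 0 ≤ α.prod (fun x m => w x ^ m) := fun α =>
    Finset.prod_nonneg fun x _ => pow_nonneg (hw0 x) _
  -- summability of the norms
  set B : ℝ := Real.exp ((∑' x, w x) / (1 - w₀)) with hB
  have hsumT : Summable (fun α => ‖T α‖) := by
    refine summable_of_sum_le (fun α => norm_nonneg _) (c := B) fun t => ?_
    set S : Finset P := t.biUnion Finsupp.support with hS
    obtain ⟨-, h2⟩ := hasSum_supported (𝕜 := ℝ) w S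
      (fun x _ => by rw [Real.norm_of_nonneg (hw0 x)]; exact hw1 x)
    have hmem : ∀ α ∈ t, α.support ⊆ S := fun α hα =>
      Finset.subset_biUnion_of_mem Finsupp.support hα
    have e1 : ∑ α ∈ t, ‖T α‖ =
        ∑ a ∈ t.subtype (fun α => α.support ⊆ S), a.1.prod (fun x m => w x ^ m) := by
      rw [Finset.sum_subtype_of_mem (fun α : P →₀ ℕ => α.prod (fun x m => w x ^ m)) hmem]
      exact Finset.sum_congr rfl fun α _ => hTnorm α
    rw [e1]
    have h3 : ∑ a ∈ t.subtype (fun α => α.support ⊆ S), a.1.prod (fun x m => w x ^ m) ≤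
        ∑' a : {α : P →₀ ℕ // α.support ⊆ S}, a.1.prod (fun x m => w x ^ m) :=
      h2.summable.sum_le_tsum _ (fun a _ => hprodnn a.1)
    refine h3.trans ?_
    rw [h2.tsum_eq]
    calc ∏ x ∈ S, (1 - w x)⁻¹ ≤ ∏ x ∈ S, Real.exp (w x / (1 - w₀)) :=
          Finset.prod_le_prod (fun x _ => inv_nonneg.2 (sub_nonneg.2 (hw1 x).le))
            (fun x _ => inv_le_exp (hw0 x) (hwle x) hw₀1)
      _ = Real.exp (∑ x ∈ S, w x / (1 - w₀)) := (Real.exp_sum _ _).symm
      _ ≤ B := Real.exp_le_exp.2 (by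
          rw [← Finset.sum_div]
          exact div_le_div_of_nonneg_right (hsum.sum_le_tsum S (fun x _ => hw0 x))
            (sub_pos.2 hw₀1).le)
  have hsummT : Summable T := hsumT.of_norm
  set L := ∑' α, T α with hL
  -- nonvanishing
  have hLne : L ≠ 0 := by
    set δ : ℝ := Real.exp (-(∑' x, w x)) with hδ
    have hδpos : 0 < δ := Real.exp_pos _
    obtain ⟨t₀, ht₀⟩ := hsumT.tsum_vanishing (Metric.ball_mem_nhds (0 : ℝ) (half_pos hδpos))
    set S : Finset P := t₀.biUnion Finsupp.support with hS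
    set A : Set (P →₀ ℕ) := {α | α.support ⊆ S} with hA
    have hdisj : Disjoint Aᶜ (↑t₀ : Set (P →₀ ℕ)) := by
      rw [Set.disjoint_left]
      intro α hα hαt
      exact hα (Finset.subset_biUnion_of_mem Finsupp.support hαt)
    have htail := ht₀ Aᶜ hdisj
    have htail' : ‖∑' b : ↥Aᶜ, T b‖ < δ / 2 := by
      have h1 : ‖∑' b : ↥Aᶜ, T b‖ ≤ ∑' b : ↥Aᶜ, ‖T b‖ :=
        norm_tsum_le_tsum_norm (hsumT.subtype _)
      have h2 : ∑' b : ↥Aᶜ, ‖T b‖ < δ / 2 := by
        have h := htail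
        rw [Metric.mem_ball, dist_zero_right,
          Real.norm_of_nonneg (tsum_nonneg fun _ => norm_nonneg _)] at h
        exact h
      exact h1.trans_lt h2
    have hsplit : (∑' b : ↥A, T b) + ∑' b : ↥Aᶜ, T b = L :=
      hsummT.tsum_subtype_add_tsum_subtype_compl A
    obtain ⟨-, h2⟩ := hasSum_supported (𝕜 := ℂ) u S (fun x _ => hu1 x)
    have hA_eq : ∑' b : ↥A, T b = ∏ x ∈ S, (1 - u x)⁻¹ := h2.tsum_eq
    have hlow : δ ≤ ‖∏ x ∈ S, (1 - u x)⁻¹‖ := by
      rw [norm_prod]
      calc δ ≤ Real.exp (-(∑ x ∈ S, w x)) :=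
            Real.exp_le_exp.2 (neg_le_neg (hsum.sum_le_tsum S (fun x _ => hw0 x)))
        _ = ∏ x ∈ S, Real.exp (-(w x)) := by rw [← Finset.sum_neg_distrib, Real.exp_sum]
        _ ≤ ∏ x ∈ S, ‖(1 - u x)⁻¹‖ :=
            Finset.prod_le_prod (fun x _ => (Real.exp_pos _).le) (fun x _ => by
              rw [← hnorm_u x]
              exact exp_neg_le_norm_inv (u x) (hu1 x))
    intro hL0
    have h5 : ‖∑' b : ↥A, T b‖ = ‖∑' b : ↥Aᶜ, T b‖ := by
      have h6 : (∑' b : ↥A, T b) = -(∑' b : ↥Aᶜ, T b) :=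
        eq_neg_of_add_eq_zero_left (hsplit.trans hL0)
      rw [h6, norm_neg]
    rw [hA_eq] at h5
    linarith
  -- regrouping along the norm
  set a : ℕ → ℂ := fun n => (Nat.card {α : P →₀ ℕ // cnorm ν α = n} : ℂ) with ha
  have hHS : HasSum T L := hsummT.hasSum
  have hσ' : HasSum (fun z : Σ n, {α : P →₀ ℕ // cnorm ν α = n} => T z.2.1) L :=
    ((Equiv.sigmaFiberEquiv (cnorm ν)).hasSum_iff (f := T) (a := L)).2 hHS
  have hfib : ∀ n, HasSum (fun c : {α : P →₀ ℕ // cnorm ν α = n} => T c.1)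
      (LSeries.term a s n) := by
    intro n
    have hconst : ∀ c : {α : P →₀ ℕ // cnorm ν α = n}, T c.1 = phi s n := fun c => by
      rw [hTphi, c.2]
    rcases Nat.eq_zero_or_pos n with rfl | hn
    · haveI : IsEmpty {α : P →₀ ℕ // cnorm ν α = 0} :=
        ⟨fun c => (cnorm_pos ν hν c.1).ne' c.2⟩
      rw [LSeries.term_def, if_pos rfl]
      exact hasSum_empty
    · have hphin : phi s n ≠ 0 := by
        rw [phi_apply, ← norm_ne_zero_iff, Complex.norm_natCast_cpow_of_pos hn]
        exact (Real.rpow_pos_of_pos (by exact_mod_cast hn) _).ne'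
      have hfin : Finite {α : P →₀ ℕ // cnorm ν α = n} := by
        by_contra hinf
        rw [not_finite_iff_infinite] at hinf
        have h1 : Summable (fun c : {α : P →₀ ℕ // cnorm ν α = n} => ‖T c.1‖) :=
          hsumT.subtype _
        have h2 : (fun c : {α : P →₀ ℕ // cnorm ν α = n} => ‖T c.1‖) =
            fun _ => ‖phi s n‖ := funext fun c => by rw [hconst]
        rw [h2, summable_const_iff] at h1
        exact hphin (norm_eq_zero.1 h1)
      haveI := Fintype.ofFinite {α : P →₀ ℕ // cnorm ν α = n}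
      have h3 := hasSum_fintype (fun c : {α : P →₀ ℕ // cnorm ν α = n} => T c.1)
      have h4 : ∑ c : {α : P →₀ ℕ // cnorm ν α = n}, T c.1 = LSeries.term a s n := by
        rw [Finset.sum_congr rfl (fun c _ => hconst c), Finset.sum_const, Finset.card_univ,
          nsmul_eq_mul, LSeries.term_def, if_neg hn.ne', ha]
        show _ = (Nat.card {α : P →₀ ℕ // cnorm ν α = n} : ℂ) / (n : ℂ) ^ s
        rw [Nat.card_eq_fintype_card, div_eq_mul_inv, ← Complex.cpow_neg, phi_apply]
      rw [h4] at h3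
      exact h3
  have hterm : HasSum (LSeries.term a s) L := hσ'.sigma hfib
  exact ⟨hterm.summable, by rw [LSeries, hterm.tsum_eq]; exact hLne⟩

end Main

end Groth.Agent.Lib.Helper33.EulerCycles
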