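import Mathlib.AlgebraicGeometry.Morphisms.FlatDescent
import Mathlib.AlgebraicGeometry.Morphisms.LocalFlatDescent

/-!
# Descent along jointly surjective flat, locally finitely presented families

`of_family_fppf`: if `P` is Zariski-local on the target and satisfies fppf descent, then `P f`
can be checked after base change along a jointly surjective family of flat, locally finitely
presented morphisms.
-/

set_option autoImplicit false
universe u
open CategoryTheory CategoryTheory.Limits AlgebraicGeometry

namespace Groth.Agent.Lib.Helper33.FamilyDescent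

theorem of_family_fppf (P : MorphismProperty Scheme.{u}) [IsZariskiLocalAtTarget P]
    [P.DescendsAlong (@Surjective ⊓ @Flat ⊓ @LocallyOfFinitePresentation)]
    {A B : Scheme.{u}} (f : A ⟶ B) {ι : Type u} (Bi Ai : ι → Scheme.{u}) (g : ∀ i, Bi i ⟶ B)
    (t : ∀ i, Ai i ⟶ A) (fi : ∀ i, Ai i ⟶ Bi i) (hpb : ∀ i, IsPullback (t i) (fi i) f (g i))
    (hflat : ∀ i, Flat (g i)) (hlfp : ∀ i, LocallyOfFinitePresentation (g i))
    (hsurj : ∀ b : B, ∃ i, b ∈ Set.range (g i)) (hP : ∀ i, P (fi i)) : P f := by
  have hS : Surjective (Sigma.desc g) := by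
    apply Surjective.sigmaDesc_of_union_range_eq_univ
    ext b
    simp only [Set.mem_iUnion, Set.mem_univ, iff_true]
    exact hsurj b
  have hF : Flat (Sigma.desc g) := inferInstance
  have hL : LocallyOfFinitePresentation (Sigma.desc g) :=
    IsZariskiLocalAtSource.sigmaDesc (fun i => hlfp i)
  refine MorphismProperty.of_isPullback_of_descendsAlong (P := P)
    (Q := @Surjective ⊓ @Flat ⊓ @LocallyOfFinitePresentation)
    (IsPullback.of_hasPullback (Sigma.desc g) f) ⟨⟨hS, hF⟩, hL⟩ ?_
  refine IsZariskiLocalAtTarget.of_openCover (P := P) (sigmaOpenCover Bi) fun i => ?_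
  change P (pullback.snd (pullback.fst (Sigma.desc g) f) (Sigma.ι Bi i))
  have sq1 := IsPullback.of_hasPullback (pullback.fst (Sigma.desc g) f) (Sigma.ι Bi i)
  have sq2 := IsPullback.of_hasPullback (Sigma.desc g) f
  have pasted : IsPullback
      (pullback.fst (pullback.fst (Sigma.desc g) f) (Sigma.ι Bi i) ≫ pullback.snd (Sigma.desc g) f)
      (pullback.snd (pullback.fst (Sigma.desc g) f) (Sigma.ι Bi i)) f (g i) := by
    have h := sq1.flip.paste_vert sq2
    rw [Sigma.ι_desc] at h
    exact h.flip
  have e : pullback.snd (pullback.fst (Sigma.desc g) f) (Sigma.ι Bi i) =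
      (pasted.isoIsPullback _ _ (hpb i)).hom ≫ fi i := by
    rw [IsPullback.isoIsPullback_hom_snd]
  rw [e, P.cancel_left_of_respectsIso]
  exact hP i

end Groth.Agent.Lib.Helper33.FamilyDescent
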