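import Groth.Agent.Lib.Helper33.GrModLib
import Groth.Prelude.Def_Omega4
import Mathlib.Topology.Sheaves.LocallySurjective
import Mathlib.CategoryTheory.Sites.EpiMono
set_option autoImplicit false
set_option linter.unusedSectionVars false
set_option linter.unusedVariables false
set_option linter.deprecated false
universe u
open CategoryTheory CategoryTheory.Limits AlgebraicGeometry TopologicalSpace Opposite

/-! helper33: local lifting of sections of `GrMod.tilde` (TN-surjective maps, exact sequences), epi / exactness of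
morphisms of modules from local lifting, and the chartwise transfer along an open immersion. -/

namespace Groth.Agent.Lib.Helper33.GrModEpi

open Groth.Agent.Lib.Helper33.GrModLib

section sheaf

variable {X : Scheme.{u}}

/-- a morphism of modules which is locally surjective on sections is an epimorphism
(same statement as helper48's `Conormal.epi_of_locally_surjective`, re-proved here to keep imports light). -/
theorem epi_of_locally_surjective {A B : X.Modules} (ψ : A ⟶ B)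
    (h : ∀ (U : X.Opens) (t : Γ(B, U)) (x : X), x ∈ U → ∃ (W : X.Opens) (hW : W ≤ U),
      x ∈ W ∧ ∃ a : Γ(A, W), (ψ.app W).hom a = (B.presheaf.map (homOfLE hW).op).hom t) :
    Epi ψ := by
  have h1 : Epi ((SheafOfModules.toSheaf _).map ψ) := by
    refine (CategoryTheory.Sheaf.isLocallySurjective_iff_epi'
      (J := Opens.grothendieckTopology X) AddCommGrpCat _).mp ?_
    refine (TopCat.Presheaf.isLocallySurjective_iff (X := X.toTopCat) _).mpr ?_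
    intro U t x hx
    obtain ⟨W, hW, hxW, a, ha⟩ := h U t x hx
    exact ⟨W, hW, ⟨a, ha⟩, hxW⟩
  exact Functor.epi_of_epi_map (SheafOfModules.toSheaf _) h1

theorem kernel_ι_comp_app {M N : X.Modules} (g : M ⟶ N) (U : X.Opens) (k : Γ(kernel g, U)) :
    g.app U ((kernel.ι g).app U k) = 0 := by
  have h0 := congrArg (fun ψ => Scheme.Modules.Hom.app ψ U) (kernel.condition g)
  simp only [Scheme.Modules.Hom.comp_app, Scheme.Modules.Hom.zero_app] at h0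
  exact congr($h0 k)

/-- a complex of modules is exact as soon as sections killed by the second map lift locally. -/
theorem exact_of_locally (S : ShortComplex X.Modules)
    (h : ∀ (U : X.Opens) (s : Γ(S.X₂, U)), S.g.app U s = 0 → ∀ x : X, x ∈ U →
      ∃ (W : X.Opens) (hW : W ≤ U), x ∈ W ∧ ∃ t : Γ(S.X₁, W),
        S.f.app W t = S.X₂.presheaf.map (homOfLE hW).op s) : S.Exact := by
  rw [ShortComplex.exact_iff_epi_kernel_lift]
  apply epi_of_locally_surjective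
  intro U k x hx
  have hk : S.g.app U ((kernel.ι S.g).app U k) = 0 := kernel_ι_comp_app S.g U k
  obtain ⟨W, hW, hxW, t, ht⟩ := h U _ hk x hx
  refine ⟨W, hW, hxW, t, ?_⟩
  apply OmegaSh.ι_app_injective S.g W
  have h1 : kernel.lift S.g S.f S.zero ≫ kernel.ι S.g = S.f := kernel.lift_ι _ _ _
  have h2 := congrArg (fun φ : S.X₁ ⟶ S.X₂ => φ.app W t) h1
  simp only [Scheme.Modules.Hom.comp_app] at h2
  refine h2.trans (ht.trans ?_)
  exact (hom_app_map (kernel.ι S.g) (homOfLE hW) k).symm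

theorem res_res (M : X.Modules) {U V W : X.Opens} (h1 : V ≤ U) (h2 : W ≤ V) (s : Γ(M, U)) :
    M.presheaf.map (homOfLE h2).op (M.presheaf.map (homOfLE h1).op s) =
      M.presheaf.map (homOfLE (h2.trans h1)).op s := by
  rw [← ConcreteCategory.comp_apply, ← Functor.map_comp]
  rfl

/-- transfer of a local lifting along an open immersion `e` with identifications `lam`, `lam'`. -/
theorem local_lift {Z P : Scheme.{u}} (e : Z ⟶ P) [IsOpenImmersion e]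
    {T T' : Z.Modules} {F G : P.Modules}
    (lam : F ⟶ (Scheme.Modules.pushforward e).obj T) (lam' : G ⟶ (Scheme.Modules.pushforward e).obj T')
    (hF : ∀ W : P.Opens, W ≤ e.opensRange → Function.Surjective (lam.app W))
    (hG : ∀ W : P.Opens, W ≤ e.opensRange → Function.Injective (lam'.app W))
    (ut : F ⟶ G) (φ : T ⟶ T') (hut : ut ≫ lam' = lam ≫ (Scheme.Modules.pushforward e).map φ)
    (W : P.Opens) (hW : W ≤ e.opensRange) (t : Γ(G, W)) (x₁ : Z)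
    (hloc : ∃ (V' : Z.Opens) (hV' : V' ≤ e ⁻¹ᵁ W), x₁ ∈ V' ∧ ∃ s : Γ(T, V'),
        φ.app V' s = T'.presheaf.map (homOfLE hV').op (lam'.app W t)) :
    ∃ (W₂ : P.Opens) (hW₂ : W₂ ≤ W), e.base x₁ ∈ W₂ ∧ ∃ a : Γ(F, W₂),
      ut.app W₂ a = G.presheaf.map (homOfLE hW₂).op t := by
  obtain ⟨V', hV', hxV', s, hs⟩ := hloc
  have hpre : e ⁻¹ᵁ (e ''ᵁ V') = V' := e.preimage_image_eq V'
  have hW₂W : e ''ᵁ V' ≤ W := by
    rintro _ ⟨v, hv, rfl⟩
    exact hV' hv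
  have hle : e ⁻¹ᵁ (e ''ᵁ V') ≤ V' := hpre.le
  obtain ⟨a, ha⟩ := hF (e ''ᵁ V') (hW₂W.trans hW) (T.presheaf.map (homOfLE hle).op s)
  refine ⟨e ''ᵁ V', hW₂W, ⟨x₁, hxV', rfl⟩, a, ?_⟩
  apply hG (e ''ᵁ V') (hW₂W.trans hW)
  have h2 := congrArg (fun ψ => (Scheme.Modules.Hom.app ψ (e ''ᵁ V')) a) hut
  simp only [Scheme.Modules.Hom.comp_app, ConcreteCategory.comp_apply] at h2
  rw [ha] at h2
  refine h2.trans ?_
  rw [hom_app_map lam' (homOfLE hW₂W) t]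
  have h3 : φ.app (e ⁻¹ᵁ (e ''ᵁ V')) (T.presheaf.map (homOfLE hle).op s) =
      T'.presheaf.map (homOfLE hle).op (φ.app V' s) := hom_app_map φ (homOfLE hle) s
  rw [hs] at h3
  refine h3.trans ?_
  rw [← ConcreteCategory.comp_apply, ← Functor.map_comp]
  rfl

end sheaf

section relproj

variable {Y P : Scheme.{u}} {𝒮 : RelProj.QCGrAlg Y} {p : P ⟶ Y}
  {chart : ∀ (U : Y.Opens) (hU : IsAffineOpen U),
    (((p ⁻¹ᵁ U : P.Opens) : Scheme.{u}) ≅ Proj (𝒮.deg U hU))}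

theorem opensRange_emb (U : Y.Opens) (hU : IsAffineOpen U) :
    (RelProj.emb p chart U hU).opensRange = p ⁻¹ᵁ U := by
  unfold RelProj.emb
  rw [Scheme.Hom.opensRange_comp_of_isIso, Scheme.Opens.opensRange_ι]

theorem exists_affine_mem (p : P ⟶ Y) (x : P) :
    ∃ (U : Y.Opens) (_ : IsAffineOpen U), x ∈ p ⁻¹ᵁ U := by
  obtain ⟨_, ⟨U, hU : IsAffineOpen U, rfl⟩, hxU, -⟩ :=
    (Y.isBasis_affineOpens).exists_subset_of_mem_open (Set.mem_univ (p x)) isOpen_univ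
  exact ⟨U, hU, hxU⟩

end relproj

section ring
variable {A σ : Type u} [CommRing A] [SetLike σ A] [AddSubgroupClass σ A] (𝒜 : ℕ → σ) [GradedRing 𝒜]
variable {M τ : Type u} [AddCommGroup M] [Module A M] [SetLike τ M] [AddSubgroupClass τ M] (ℳ : ℕ → τ)
  [SetLike.GradedSMul 𝒜 ℳ]
variable {N τ' : Type u} [AddCommGroup N] [Module A N] [SetLike τ' N] [AddSubgroupClass τ' N] (𝒩 : ℕ → τ')
  [SetLike.GradedSMul 𝒜 𝒩]

/-- the section `m / s` over an open on which `s` is nowhere in the prime. -/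
def fracSect (n : ℤ) (V : Opens (ProjectiveSpectrum.top 𝒜)) {i j : ℕ} (m : ℳ i) (s : 𝒜 j)
    (hij : (i : ℤ) = j + n) (nin : ∀ y : V, (s : A) ∉ y.1.asHomogeneousIdeal) :
    GrMod.sect 𝒜 ℳ n (op V) :=
  ⟨fun y => ⟨LocalizedModule.mk (m : M) ⟨(s : A), nin y⟩,
      Submodule.subset_span ⟨i, j, m, s, nin y, hij, rfl⟩⟩,
    fun y => ⟨V, y.2, 𝟙 V, i, j, m, s, nin, Or.inl hij, fun _ => rfl⟩⟩

theorem mk_cancel (x : ProjectiveSpectrum 𝒜) (g s₀ : A) (m : N)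
    (h1 : g * s₀ ∉ x.asHomogeneousIdeal) (h2 : s₀ ∉ x.asHomogeneousIdeal) :
    (LocalizedModule.mk (g • m) ⟨g * s₀, h1⟩ : GrMod.LocMod 𝒜 (M := N) x) =
      LocalizedModule.mk m ⟨s₀, h2⟩ := by
  rw [LocalizedModule.mk_eq]
  refine ⟨1, ?_⟩
  rw [one_smul, one_smul]
  show s₀ • (g • m) = (g * s₀) • m
  rw [smul_smul, mul_comm]

/-- TN-surjective maps lift sections locally. -/
theorem exists_local_lift (u : M →ₗ[A] N) (hu : ∀ (i : ℕ) (m : M), m ∈ ℳ i → u m ∈ 𝒩 i)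
    (n₀ : ℕ) (hsurj : ∀ k, n₀ ≤ k → ∀ m' ∈ 𝒩 k, ∃ m ∈ ℳ k, u m = m') (n : ℤ)
    (V : (Proj 𝒜).Opens) (t : Γ(GrMod.tilde 𝒜 𝒩 n, V)) (x₁ : Proj 𝒜) (hx₁ : x₁ ∈ V) :
    ∃ (V' : (Proj 𝒜).Opens) (hV' : V' ≤ V), x₁ ∈ V' ∧ ∃ s : Γ(GrMod.tilde 𝒜 ℳ n, V'),
      (GrMod.map 𝒜 (ℳ := ℳ) (𝒩 := 𝒩) u hu n).app V' s =
        (GrMod.tilde 𝒜 𝒩 n).presheaf.map (homOfLE hV').op t := by
  obtain ⟨Va, mem, ia, i, j, m', s₀, nin, c, w⟩ := (t : GrMod.sect 𝒜 𝒩 n (op V)).2 ⟨x₁, hx₁⟩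
  rcases c with hij | hm0
  · obtain ⟨d, hd, g, hg, hgx⟩ := exists_pos_not_mem 𝒜 x₁
    have hmem' : (g ^ n₀) • (m' : N) ∈ 𝒩 (n₀ • d + i) :=
      SetLike.GradedSMul.smul_mem (SetLike.pow_mem_graded n₀ hg) m'.2
    have hdeg : n₀ ≤ n₀ • d + i := by
      have : n₀ ≤ n₀ * d := Nat.le_mul_of_pos_right n₀ hd
      rw [smul_eq_mul]; omega
    obtain ⟨m₁, hm₁, hum₁⟩ := hsurj (n₀ • d + i) hdeg _ hmem'
    have hV' : Va ⊓ ProjectiveSpectrum.basicOpen 𝒜 g ≤ V := fun y hy => ia.le hy.1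
    have nin' : ∀ y : (Va ⊓ ProjectiveSpectrum.basicOpen 𝒜 g : Opens (ProjectiveSpectrum.top 𝒜)),
        g ^ n₀ * (s₀ : A) ∉ y.1.asHomogeneousIdeal := fun y h =>
      (y.1.isPrime.mem_or_mem h).elim (fun h' => y.2.2 (y.1.isPrime.mem_of_pow_mem n₀ h'))
        (nin ⟨y.1, y.2.1⟩)
    have hij' : ((n₀ • d + i : ℕ) : ℤ) = ((n₀ • d + j : ℕ) : ℤ) + n := by
      push_cast; linarith
    refine ⟨Va ⊓ ProjectiveSpectrum.basicOpen 𝒜 g, hV', ⟨mem, hgx⟩,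
      fracSect 𝒜 ℳ n _ ⟨m₁, hm₁⟩
        ⟨g ^ n₀ * (s₀ : A), SetLike.mul_mem_graded (SetLike.pow_mem_graded n₀ hg) s₀.2⟩ hij' nin', ?_⟩
    refine Subtype.ext (funext fun y => Subtype.ext ?_)
    have h1 : GrMod.locMap u y.1 (LocalizedModule.mk m₁ ⟨g ^ n₀ * (s₀ : A), nin' y⟩) =
        LocalizedModule.mk (u m₁) ⟨g ^ n₀ * (s₀ : A), nin' y⟩ := GrMod.locMap_mk u y.1 m₁ _
    have h2 := w ⟨y.1, y.2.1⟩
    refine h1.trans ?_
    rw [hum₁]
    refine (mk_cancel 𝒜 y.1 (g ^ n₀) (s₀ : A) (m' : N) (nin' y) (nin ⟨y.1, y.2.1⟩)).trans ?_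
    exact h2.symm
  · refine ⟨Va, ia.le, mem, 0, ?_⟩
    rw [map_zero]
    refine Subtype.ext (funext fun y => Subtype.ext ?_)
    have h2 := w y
    rw [hm0, LocalizedModule.zero_mk] at h2
    exact h2.symm

end ring

section ringexact
variable {A σ : Type u} [CommRing A] [SetLike σ A] [AddSubgroupClass σ A] (𝒜 : ℕ → σ) [GradedRing 𝒜]
variable {M₁ τ₁ : Type u} [AddCommGroup M₁] [Module A M₁] [SetLike τ₁ M₁] [AddSubgroupClass τ₁ M₁] (ℳ₁ : ℕ → τ₁)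
  [SetLike.GradedSMul 𝒜 ℳ₁] [DirectSum.Decomposition ℳ₁]
variable {M₂ τ₂ : Type u} [AddCommGroup M₂] [Module A M₂] [SetLike τ₂ M₂] [AddSubgroupClass τ₂ M₂] (ℳ₂ : ℕ → τ₂)
  [SetLike.GradedSMul 𝒜 ℳ₂] [DirectSum.Decomposition ℳ₂]
variable {M₃ τ₃ : Type u} [AddCommGroup M₃] [Module A M₃] [SetLike τ₃ M₃] [AddSubgroupClass τ₃ M₃] (ℳ₃ : ℕ → τ₃)
  [SetLike.GradedSMul 𝒜 ℳ₃] [DirectSum.Decomposition ℳ₃]

open DirectSum in
theorem decompose_map (u : M₁ →ₗ[A] M₂) (hu : ∀ (i : ℕ) (m : M₁), m ∈ ℳ₁ i → u m ∈ ℳ₂ i)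
    (z : M₁) (k : ℕ) :
    u ((decompose ℳ₁ z k : ℳ₁ k) : M₁) = ((decompose ℳ₂ (u z) k : ℳ₂ k) : M₂) := by
  classical
  induction z using DirectSum.Decomposition.inductionOn ℳ₁ with
  | zero => simp
  | @homogeneous i m =>
    by_cases h : i = k
    · subst h
      rw [DirectSum.decompose_of_mem_same ℳ₁ m.2, DirectSum.decompose_of_mem_same ℳ₂ (hu _ _ m.2)]
    · rw [DirectSum.decompose_of_mem_ne ℳ₁ m.2 h, DirectSum.decompose_of_mem_ne ℳ₂ (hu _ _ m.2) h,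
        map_zero]
  | add a b ha hb =>
    rw [DirectSum.decompose_add, map_add, DirectSum.decompose_add]
    simp only [DirectSum.add_apply, AddMemClass.coe_add, map_add, ha, hb]

/-- in an exact sequence of graded modules, sections of the middle `tilde` killed by the second map lift locally. -/
theorem exists_local_lift_exact (u : M₁ →ₗ[A] M₂) (hu : ∀ (i : ℕ) (m : M₁), m ∈ ℳ₁ i → u m ∈ ℳ₂ i)
    (v : M₂ →ₗ[A] M₃) (hv : ∀ (i : ℕ) (m : M₂), m ∈ ℳ₂ i → v m ∈ ℳ₃ i)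
    (hex : Function.Exact u v) (n : ℤ)
    (V : (Proj 𝒜).Opens) (t : Γ(GrMod.tilde 𝒜 ℳ₂ n, V))
    (ht : (GrMod.map 𝒜 (ℳ := ℳ₂) (𝒩 := ℳ₃) v hv n).app V t = 0) (x₁ : Proj 𝒜) (hx₁ : x₁ ∈ V) :
    ∃ (V' : (Proj 𝒜).Opens) (hV' : V' ≤ V), x₁ ∈ V' ∧ ∃ s : Γ(GrMod.tilde 𝒜 ℳ₁ n, V'),
      (GrMod.map 𝒜 (ℳ := ℳ₁) (𝒩 := ℳ₂) u hu n).app V' s =
        (GrMod.tilde 𝒜 ℳ₂ n).presheaf.map (homOfLE hV').op t := by
  obtain ⟨Va, mem, ia, i, j, m, s₀, nin, c, w⟩ := (t : GrMod.sect 𝒜 ℳ₂ n (op V)).2 ⟨x₁, hx₁⟩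
  rcases c with hij | hm0
  · have h0 : GrMod.locMap v x₁ ((t : GrMod.sect 𝒜 ℳ₂ n (op V)).1 ⟨x₁, hx₁⟩).1 = 0 := by
      have := congrArg (fun (z : GrMod.sect 𝒜 ℳ₃ n (op V)) =>
        ((z.1 ⟨x₁, hx₁⟩ : GrMod.tildeAt 𝒜 ℳ₃ n x₁) : GrMod.LocMod 𝒜 (M := M₃) x₁)) ht
      exact this
    have w1 : ((t : GrMod.sect 𝒜 ℳ₂ n (op V)).1 ⟨x₁, hx₁⟩).1 =
        LocalizedModule.mk (m : M₂) ⟨(s₀ : A), nin ⟨x₁, mem⟩⟩ := w ⟨x₁, mem⟩
    rw [w1, GrMod.locMap_mk] at h0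
    rw [← LocalizedModule.zero_mk (1 : x₁.asHomogeneousIdeal.toIdeal.primeCompl),
      LocalizedModule.mk_eq] at h0
    obtain ⟨⟨c, hc⟩, h0⟩ := h0
    rw [smul_zero, smul_zero, one_smul] at h0
    replace h0 : c • v m = 0 := h0
    obtain ⟨k, hk⟩ := exists_component_not_mem 𝒜 x₁ c hc
    have hck := homog_annihilator 𝒜 ℳ₃ (v m) (hv i m m.2) c h0 k
    set ck : A := ((DirectSum.decompose 𝒜 c k : 𝒜 k) : A) with hckdef
    have hckmem : ck ∈ 𝒜 k := (DirectSum.decompose 𝒜 c k).2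
    have hvz : v (ck • (m : M₂)) = 0 := by rw [map_smul, hck]
    obtain ⟨z, hz⟩ := (hex (ck • (m : M₂))).mp hvz
    have hmem2 : ck • (m : M₂) ∈ ℳ₂ (k + i) := SetLike.GradedSMul.smul_mem hckmem m.2
    have hum₁ : u ((DirectSum.decompose ℳ₁ z (k + i) : ℳ₁ (k + i)) : M₁) = ck • (m : M₂) := by
      rw [decompose_map ℳ₁ ℳ₂ u hu z (k + i), hz, DirectSum.decompose_of_mem_same ℳ₂ hmem2]
    have hV' : Va ⊓ ProjectiveSpectrum.basicOpen 𝒜 ck ≤ V := fun y hy => ia.le hy.1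
    have nin' : ∀ y : (Va ⊓ ProjectiveSpectrum.basicOpen 𝒜 ck : Opens (ProjectiveSpectrum.top 𝒜)),
        ck * (s₀ : A) ∉ y.1.asHomogeneousIdeal := fun y h =>
      (y.1.isPrime.mem_or_mem h).elim (fun h' => y.2.2 h') (nin ⟨y.1, y.2.1⟩)
    have hij' : ((k + i : ℕ) : ℤ) = ((k + j : ℕ) : ℤ) + n := by
      push_cast; linarith
    refine ⟨Va ⊓ ProjectiveSpectrum.basicOpen 𝒜 ck, hV', ⟨mem, hk⟩,
      fracSect 𝒜 ℳ₁ n _ (DirectSum.decompose ℳ₁ z (k + i))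
        ⟨ck * (s₀ : A), SetLike.mul_mem_graded hckmem s₀.2⟩ hij' nin', ?_⟩
    refine Subtype.ext (funext fun y => Subtype.ext ?_)
    have h1 : GrMod.locMap u y.1 (LocalizedModule.mk
        ((DirectSum.decompose ℳ₁ z (k + i) : ℳ₁ (k + i)) : M₁) ⟨ck * (s₀ : A), nin' y⟩) =
        LocalizedModule.mk (u ((DirectSum.decompose ℳ₁ z (k + i) : ℳ₁ (k + i)) : M₁))
          ⟨ck * (s₀ : A), nin' y⟩ := GrMod.locMap_mk u y.1 _ _
    have h2 := w ⟨y.1, y.2.1⟩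
    refine h1.trans ?_
    rw [hum₁]
    refine (mk_cancel 𝒜 y.1 ck (s₀ : A) (m : M₂) (nin' y) (nin ⟨y.1, y.2.1⟩)).trans ?_
    exact h2.symm
  · refine ⟨Va, ia.le, mem, 0, ?_⟩
    rw [map_zero]
    refine Subtype.ext (funext fun y => Subtype.ext ?_)
    have h2 := w y
    rw [hm0, LocalizedModule.zero_mk] at h2
    exact h2.symm

end ringexact

end Groth.Agent.Lib.Helper33.GrModEpi
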