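import Groth.Agent.Lib.Helper33.GrModEpi
import Groth.Agent.Lib.Helper78.ModStalk
set_option autoImplicit false
set_option linter.unusedSectionVars false
set_option linter.unusedVariables false
set_option linter.deprecated false
universe u
open CategoryTheory CategoryTheory.Limits AlgebraicGeometry TopologicalSpace Opposite

/-! helper33: ring-level generation of `GrMod.tilde 𝒜 ℳ 0` over `D₊(f)`, `f` of degree one, by the fractions
`x_l / f ^ d_l` for homogeneous generators `x_l` of the high-degree part of `M`; structure-sheaf sections from fractions. -/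

namespace Groth.Agent.Lib.Helper33.GrModFT

open Groth.Agent.Lib.Helper33.GrModLib Groth.Agent.Lib.Helper33.GrModEpi

section ring
variable {A σ : Type u} [CommRing A] [SetLike σ A] [AddSubgroupClass σ A] (𝒜 : ℕ → σ) [GradedRing 𝒜]
variable {M τ : Type u} [AddCommGroup M] [Module A M] [SetLike τ M] [AddSubgroupClass τ M] (ℳ : ℕ → τ)
  [SetLike.GradedSMul 𝒜 ℳ]

/-- evaluation of a section at a point, as an additive map. -/
def evalAt (n : ℤ) (V : Opens (ProjectiveSpectrum.top 𝒜)) (y : V) :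
    GrMod.sect 𝒜 ℳ n (op V) →+ GrMod.LocMod 𝒜 (M := M) y.1 where
  toFun t := ((t.1 y : GrMod.tildeAt 𝒜 ℳ n y.1) : GrMod.LocMod 𝒜 (M := M) y.1)
  map_zero' := rfl
  map_add' _ _ := rfl

theorem sect_ext {n : ℤ} {V : Opens (ProjectiveSpectrum.top 𝒜)} (a b : GrMod.sect 𝒜 ℳ n (op V))
    (h : ∀ y : V, evalAt 𝒜 ℳ n V y a = evalAt 𝒜 ℳ n V y b) : a = b :=
  Subtype.ext (funext fun y => Subtype.ext (h y))

theorem evalAt_sum_smul {n : ℤ} {V : Opens (ProjectiveSpectrum.top 𝒜)} {ι : Type*} (T : Finset ι)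
    (c : ι → GrTwist.O (𝒜 := 𝒜) (op V)) (t : ι → GrMod.sect 𝒜 ℳ n (op V)) (y : V) :
    evalAt 𝒜 ℳ n V y (∑ l ∈ T, c l • t l) =
      ∑ l ∈ T, ((c l).1 y).val • evalAt 𝒜 ℳ n V y (t l) := by
  rw [map_sum]
  exact Finset.sum_congr rfl fun l _ => GrMod.coe_smul_val n y.1 ((c l).1 y) ((t l).1 y)

/-- the section `r / s` of the structure sheaf over an open on which `s` is nowhere in the prime. -/
def fracO (V : Opens (ProjectiveSpectrum.top 𝒜)) {k : ℕ} (r s : 𝒜 k)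
    (nin : ∀ y : V, (s : A) ∉ y.1.asHomogeneousIdeal) : GrTwist.O (𝒜 := 𝒜) (op V) :=
  (⟨fun y => HomogeneousLocalization.mk ⟨k, r, s, nin y⟩,
    fun y => ⟨V, y.2, 𝟙 V, k, r, s, nin, fun _ => rfl⟩⟩ :
    (ProjectiveSpectrum.StructureSheaf.structureSheafInType 𝒜).1.obj (op V))

theorem fracO_val (V : Opens (ProjectiveSpectrum.top 𝒜)) {k : ℕ} (r s : 𝒜 k)
    (nin : ∀ y : V, (s : A) ∉ y.1.asHomogeneousIdeal) (y : V) :
    ((fracO 𝒜 V r s nin).1 y).val = Localization.mk (r : A) ⟨(s : A), nin y⟩ :=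
  HomogeneousLocalization.val_mk _

theorem mk_sum_same {ι : Type*} (x : ProjectiveSpectrum 𝒜)
    (s : x.asHomogeneousIdeal.toIdeal.primeCompl) (g : ι → M) (T : Finset ι) :
    (LocalizedModule.mk (∑ l ∈ T, g l) s : GrMod.LocMod 𝒜 (M := M) x) =
      ∑ l ∈ T, LocalizedModule.mk (g l) s := by
  classical
  induction T using Finset.induction_on with
  | empty => simp
  | insert a T ha ih =>
    rw [Finset.sum_insert ha, Finset.sum_insert ha, ← ih, LocalizedModule.mk_add_mk, ← smul_add,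
      LocalizedModule.mk_cancel_common_left]

theorem exists_degOne_not_mem
    (hgen : Subring.closure (((𝒜 0 : σ) : Set A) ∪ ((𝒜 1 : σ) : Set A)) = ⊤) (x : ProjectiveSpectrum 𝒜) :
    ∃ f ∈ 𝒜 1, f ∉ x.asHomogeneousIdeal := by
  classical
  by_contra hcon
  push Not at hcon
  apply x.not_irrelevant_le
  rw [HomogeneousIdeal.irrelevant_le]
  intro i hi g hg
  let R : Subring A :=
    { carrier := {a | ∃ b ∈ 𝒜 0, a - b ∈ x.asHomogeneousIdeal.toIdeal}
      mul_mem' := by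
        rintro a a' ⟨b, hb, h⟩ ⟨b', hb', h'⟩
        refine ⟨b * b', ?_, ?_⟩
        · have := SetLike.mul_mem_graded hb hb'
          rwa [add_zero] at this
        · have e : a * a' - b * b' = a * (a' - b') + (a - b) * b' := by ring
          rw [e]
          exact Ideal.add_mem _ (Ideal.mul_mem_left _ _ h') (Ideal.mul_mem_right _ _ h)
      one_mem' := ⟨1, SetLike.GradedOne.one_mem, by simp⟩
      add_mem' := by
        rintro a a' ⟨b, hb, h⟩ ⟨b', hb', h'⟩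
        refine ⟨b + b', add_mem hb hb', ?_⟩
        have e : a + a' - (b + b') = (a - b) + (a' - b') := by ring
        rw [e]
        exact Ideal.add_mem _ h h'
      zero_mem' := ⟨0, zero_mem _, by simp⟩
      neg_mem' := by
        rintro a ⟨b, hb, h⟩
        refine ⟨-b, neg_mem hb, ?_⟩
        have e : -a - -b = -(a - b) := by ring
        rw [e]
        exact Ideal.neg_mem_iff _ |>.mpr h }
  have hR : Subring.closure (((𝒜 0 : σ) : Set A) ∪ ((𝒜 1 : σ) : Set A)) ≤ R := by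
    rw [Subring.closure_le]
    rintro a (ha | ha)
    · exact ⟨a, ha, by simp⟩
    · exact ⟨0, zero_mem _, by simpa using hcon a ha⟩
  have hg' : g ∈ R := hR (hgen ▸ Subring.mem_top g)
  obtain ⟨b, hb, hgb⟩ := hg'
  have h1 := x.asHomogeneousIdeal.isHomogeneous i hgb
  rw [DirectSum.decompose_sub, DirectSum.sub_apply, AddSubgroupClass.coe_sub,
    DirectSum.decompose_of_mem_same 𝒜 hg, DirectSum.decompose_of_mem_ne 𝒜 hb (by omega), sub_zero] at h1
  exact h1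

theorem exists_homog_generators (n₁ : ℕ)
    (h : (Submodule.span A (⋃ k ∈ Set.Ici n₁, ((ℳ k : τ) : Set M))).FG) :
    ∃ (r : ℕ) (xg : Fin r → M) (dg : Fin r → ℕ), (∀ l, xg l ∈ ℳ (dg l)) ∧
      ∀ k, n₁ ≤ k → ∀ m ∈ ℳ k, m ∈ Submodule.span A (Set.range xg) := by
  classical
  obtain ⟨T, hTsub, hTspan⟩ := (Submodule.fg_span_iff_fg_span_finset_subset _).mp h
  have hdeg : ∀ t : T, ∃ d, (t : M) ∈ ℳ d := fun t => by
    have := hTsub t.2
    simp only [Set.mem_iUnion] at this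
    obtain ⟨k, -, hk⟩ := this
    exact ⟨k, hk⟩
  choose d hd using hdeg
  refine ⟨T.card, fun l => (T.equivFin.symm l : M), fun l => d (T.equivFin.symm l), fun l => hd _, ?_⟩
  intro k hk m hm
  have h1 : m ∈ Submodule.span A (⋃ k ∈ Set.Ici n₁, ((ℳ k : τ) : Set M)) :=
    Submodule.subset_span (Set.mem_iUnion₂.mpr ⟨k, hk, hm⟩)
  rw [hTspan] at h1
  refine Submodule.span_mono ?_ h1
  intro t ht
  exact ⟨T.equivFin ⟨t, ht⟩, by simp⟩

variable [DirectSum.Decomposition ℳ]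

open DirectSum in
theorem decompose_smul_of_mem' {d : ℕ} {t : M} (ht : t ∈ ℳ d) (a : A) (N : ℕ) :
    ((decompose ℳ (a • t) N : ℳ N) : M) =
      (if d ≤ N then ((decompose 𝒜 a (N - d) : 𝒜 (N - d)) : A) else 0) • t := by
  classical
  have hmem : ∀ l, ((decompose 𝒜 a l : 𝒜 l) : A) • t ∈ ℳ (l + d) := fun l =>
    SetLike.GradedSMul.smul_mem (decompose 𝒜 a l).2 ht
  have h1 : a • t = ∑ l ∈ (decompose 𝒜 a).support, ((decompose 𝒜 a l : 𝒜 l) : A) • t := by
    conv_lhs => rw [← DirectSum.sum_support_decompose 𝒜 a]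
    rw [Finset.sum_smul]
  have h2 : decompose ℳ (a • t) = ∑ l ∈ (decompose 𝒜 a).support,
      DirectSum.of (fun j => ℳ j) (l + d) ⟨((decompose 𝒜 a l : 𝒜 l) : A) • t, hmem l⟩ := by
    rw [h1, DirectSum.decompose_sum]
    refine Finset.sum_congr rfl fun l _ => ?_
    exact DirectSum.decompose_of_mem ℳ (hmem l)
  rw [h2, DFinsupp.finset_sum_apply, AddSubmonoidClass.coe_finset_sum]
  simp only [DirectSum.coe_of_apply]
  by_cases hd : d ≤ N
  · rw [if_pos hd, Finset.sum_eq_single (N - d)]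
    · rw [if_pos (by omega)]
    · intro l _ hl
      rw [if_neg (by omega)]
      rfl
    · intro hns
      rw [DFinsupp.notMem_support_iff] at hns
      rw [if_pos (by omega)]
      show ((decompose 𝒜 a (N - d) : 𝒜 (N - d)) : A) • t = 0
      rw [hns]
      simp
  · rw [if_neg hd, zero_smul]
    refine Finset.sum_eq_zero fun l _ => ?_
    rw [if_neg (by omega)]
    rfl

/-- local expression of a section of `M~` over an open of `D₊(f)` as a combination of the `x_l / f ^ d_l`. -/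
theorem exists_local_comb (f : A) (hf : f ∈ 𝒜 1) (n₁ : ℕ) {r : ℕ} (xg : Fin r → M) (dg : Fin r → ℕ)
    (hxg : ∀ l, xg l ∈ ℳ (dg l))
    (hspan : ∀ k, n₁ ≤ k → ∀ m ∈ ℳ k, m ∈ Submodule.span A (Set.range xg))
    (V : Opens (ProjectiveSpectrum.top 𝒜)) (hV : ∀ y ∈ V, f ∉ y.asHomogeneousIdeal)
    (s : GrMod.sect 𝒜 ℳ 0 (op V)) (x : V) :
    ∃ (Va : Opens (ProjectiveSpectrum.top 𝒜)), x.1 ∈ Va ∧
      ∀ (V'' : Opens (ProjectiveSpectrum.top 𝒜)) (h'' : V'' ≤ Va ⊓ V),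
      ∃ c : Fin r → GrTwist.O (𝒜 := 𝒜) (op V''), ∀ y : V'',
        ((s.1 ⟨y.1, (h'' y.2).2⟩ : GrMod.tildeAt 𝒜 ℳ 0 y.1) : GrMod.LocMod 𝒜 (M := M) y.1) =
          ∑ l, ((c l).1 y).val • (LocalizedModule.mk (xg l)
            ⟨f ^ dg l, fun h => hV y.1 (h'' y.2).2 (y.1.isPrime.mem_of_pow_mem _ h)⟩ :
              GrMod.LocMod 𝒜 (M := M) y.1) := by
  classical
  obtain ⟨Va, mem, ia, i, j, m, s₀, nin, c0, w⟩ := s.2 x
  refine ⟨Va, mem, fun V'' h'' => ?_⟩
  rcases c0 with hij | hm0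
  · have hij' : i = j := by omega
    subst hij'
    have hm' : f ^ n₁ • (m : M) ∈ ℳ (n₁ • 1 + i) :=
      SetLike.GradedSMul.smul_mem (SetLike.pow_mem_graded n₁ hf) m.2
    have hN : n₁ • 1 + i = n₁ + i := by rw [smul_eq_mul, mul_one]
    have hm'' : f ^ n₁ • (m : M) ∈ ℳ (n₁ + i) := hN ▸ hm'
    obtain ⟨a, ha⟩ := (Submodule.mem_span_range_iff_exists_fun A).mp
      (hspan (n₁ + i) (Nat.le_add_right _ _) _ hm'')
    let b : Fin r → A := fun l => if dg l ≤ n₁ + i then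
      ((DirectSum.decompose 𝒜 (a l) (n₁ + i - dg l) : 𝒜 (n₁ + i - dg l)) : A) else 0
    have hb : ∑ l, b l • xg l = f ^ n₁ • (m : M) := by
      have h1 := congrArg (fun z => ((DirectSum.decompose ℳ z (n₁ + i) : ℳ (n₁ + i)) : M)) ha
      simp only at h1
      rw [DirectSum.decompose_of_mem_same ℳ hm'', DirectSum.decompose_sum,
        DFinsupp.finset_sum_apply, AddSubmonoidClass.coe_finset_sum] at h1
      rw [← h1]
      refine Finset.sum_congr rfl fun l _ => ?_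
      exact (decompose_smul_of_mem' 𝒜 ℳ (hxg l) (a l) (n₁ + i)).symm
    have hnum : ∀ l, b l * f ^ dg l ∈ 𝒜 (n₁ + i) := by
      intro l
      by_cases h : dg l ≤ n₁ + i
      · have h1 : b l ∈ 𝒜 (n₁ + i - dg l) := by
          simp only [b, if_pos h]
          exact SetLike.coe_mem _
        have h2 := SetLike.mul_mem_graded h1 (SetLike.pow_mem_graded (dg l) hf)
        have h3 : n₁ + i - dg l + dg l • 1 = n₁ + i := by
          rw [smul_eq_mul, mul_one]; omega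
        rwa [h3] at h2
      · simp only [b, if_neg h, zero_mul]
        exact zero_mem _
    have hden : f ^ n₁ * (s₀ : A) ∈ 𝒜 (n₁ + i) := by
      have h2 := SetLike.mul_mem_graded (SetLike.pow_mem_graded n₁ hf) s₀.2
      rwa [hN] at h2
    have nin'' : ∀ y : V'', f ^ n₁ * (s₀ : A) ∉ y.1.asHomogeneousIdeal := fun y h =>
      (y.1.isPrime.mem_or_mem h).elim
        (fun h' => hV y.1 (h'' y.2).2 (y.1.isPrime.mem_of_pow_mem n₁ h')) (nin ⟨y.1, (h'' y.2).1⟩)
    refine ⟨fun l => fracO 𝒜 V'' ⟨b l * f ^ dg l, hnum l⟩ ⟨f ^ n₁ * (s₀ : A), hden⟩ nin'', fun y => ?_⟩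
    have w1 : (s.1 ⟨y.1, (h'' y.2).2⟩).1 =
        LocalizedModule.mk (m : M) ⟨(s₀ : A), nin ⟨y.1, (h'' y.2).1⟩⟩ := w ⟨y.1, (h'' y.2).1⟩
    rw [w1]
    have hterm : ∀ l, ((fracO 𝒜 V'' ⟨b l * f ^ dg l, hnum l⟩ ⟨f ^ n₁ * (s₀ : A), hden⟩ nin'').1 y).val •
        (LocalizedModule.mk (xg l)
          ⟨f ^ dg l, fun h => hV y.1 (h'' y.2).2 (y.1.isPrime.mem_of_pow_mem _ h)⟩ :
            GrMod.LocMod 𝒜 (M := M) y.1) =
        LocalizedModule.mk (b l • xg l) ⟨f ^ n₁ * (s₀ : A), nin'' y⟩ := by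
      intro l
      rw [fracO_val, LocalizedModule.mk_smul_mk, LocalizedModule.mk_eq]
      refine ⟨1, ?_⟩
      rw [one_smul, one_smul]
      show (f ^ n₁ * (s₀ : A)) • ((b l * f ^ dg l) • xg l) =
        ((f ^ n₁ * (s₀ : A)) * f ^ dg l) • (b l • xg l)
      rw [smul_smul, smul_smul]
      congr 1
      ring
    rw [Finset.sum_congr rfl fun l _ => hterm l, ← mk_sum_same, hb]
    exact (mk_cancel 𝒜 y.1 (f ^ n₁) (s₀ : A) (m : M) (nin'' y) _).symm
  · refine ⟨fun _ => 0, fun y => ?_⟩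
    have w1 := w ⟨y.1, (h'' y.2).1⟩
    rw [hm0, LocalizedModule.zero_mk] at w1
    refine Eq.trans w1 (Finset.sum_eq_zero fun l _ => ?_).symm
    show (0 : GrTwist.A0 𝒜 y.1).val • _ = 0
    rw [HomogeneousLocalization.val_zero, zero_smul]

end ring

section transfer

theorem pushforward_smul {X Y : Scheme.{u}} (f : X ⟶ Y) (M : X.Modules) (U : Y.Opens) (r : Γ(Y, U))
    (t : Γ((Scheme.Modules.pushforward f).obj M, U)) :
    r • t = (show Γ(M, f ⁻¹ᵁ U) from (f.app U r) • (show Γ(M, f ⁻¹ᵁ U) from t)) := rfl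

/-- coefficients over the chart lift to coefficients on `P`. -/
theorem span_transfer {Z P : Scheme.{u}} (e : Z ⟶ P) [IsOpenImmersion e] {T : Z.Modules} {F : P.Modules}
    (lam : F ⟶ (Scheme.Modules.pushforward e).obj T)
    (hF : ∀ W : P.Opens, W ≤ e.opensRange → Function.Injective (lam.app W))
    {r : ℕ} (W₂ : P.Opens) (hW₂R : W₂ ≤ e.opensRange)
    (σ₂ : Fin r → Γ(F, W₂)) (s₂ : Γ(F, W₂))
    (c : Fin r → Γ(Z, e ⁻¹ᵁ W₂))
    (hc : (show Γ(T, e ⁻¹ᵁ W₂) from lam.app W₂ s₂) =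
      ∑ l, c l • (show Γ(T, e ⁻¹ᵁ W₂) from lam.app W₂ (σ₂ l))) :
    ∃ ρ : Fin r → Γ(P, W₂), s₂ = ∑ l, ρ l • σ₂ l := by
  have hiso : IsIso (e.app W₂) := e.isIso_app W₂ hW₂R
  have hbij : Function.Bijective (e.app W₂) := ConcreteCategory.bijective_of_isIso _
  choose ρ hρ using fun l => hbij.2 (c l)
  refine ⟨ρ, hF W₂ hW₂R ?_⟩
  rw [map_sum]
  refine hc.trans (Finset.sum_congr rfl fun l _ => ?_)
  rw [Scheme.Modules.Hom.app_smul, pushforward_smul, hρ l]

theorem germ_mem_span {P : Scheme.{u}} (F : P.Modules) {r : ℕ} (W W₁ W₃ : P.Opens) (y : P)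
    (hyW : y ∈ W) (hyW₁ : y ∈ W₁) (hyW₃ : y ∈ W₃) (h₃₁ : W₃ ≤ W₁) (h₃ : W₃ ≤ W)
    (σ : Fin r → Γ(F, W)) (s : Γ(F, W₁)) (ρ : Fin r → Γ(P, W₃))
    (key : F.presheaf.map (homOfLE h₃₁).op s = ∑ l, ρ l • F.presheaf.map (homOfLE h₃).op (σ l)) :
    F.presheaf.germ W₁ y hyW₁ s ∈ Submodule.span (P.presheaf.stalk y)
      (Set.range fun i => F.presheaf.germ W y hyW (σ i)) := by
  have h1 : F.presheaf.germ W₁ y hyW₁ s = F.presheaf.germ W₃ y hyW₃
      (F.presheaf.map (homOfLE h₃₁).op s) :=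
    (TopCat.Presheaf.germ_res_apply F.presheaf (homOfLE h₃₁) y hyW₃ s).symm
  rw [h1, key, map_sum]
  refine Submodule.sum_mem _ fun l _ => ?_
  rw [Groth.Agent.Lib.Helper78.ModStalk.germ_smul,
    TopCat.Presheaf.germ_res_apply F.presheaf (homOfLE h₃) y hyW₃ (σ l)]
  exact Submodule.smul_mem _ _ (Submodule.subset_span ⟨l, rfl⟩)

end transfer

end Groth.Agent.Lib.Helper33.GrModFT
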