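import Groth.Agent.Lib.Helper33.GrModFT
set_option autoImplicit false
set_option linter.unusedSectionVars false
set_option linter.unusedVariables false
set_option linter.deprecated false
universe u
open CategoryTheory CategoryTheory.Limits AlgebraicGeometry TopologicalSpace Opposite

/-! helper33: generation of a module `F` on `P`, identified over an open chart `e : Proj 𝒜 ⟶ P` with
`GrMod.tilde 𝒜 ℳ 0`, by finitely many sections over `e(D₊(f))`, `f` of degree one. -/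

namespace Groth.Agent.Lib.Helper33.GrModFT

open Groth.Agent.Lib.Helper33.GrModLib Groth.Agent.Lib.Helper33.GrModEpi

section chart
variable {A σ : Type u} [CommRing A] [SetLike σ A] [AddSubgroupClass σ A] (𝒜 : ℕ → σ) [GradedRing 𝒜]
variable {M τ : Type u} [AddCommGroup M] [Module A M] [SetLike τ M] [AddSubgroupClass τ M] (ℳ : ℕ → τ)
  [SetLike.GradedSMul 𝒜 ℳ]

/-- naturality of `lam` w.r.t. restriction, evaluated at a point of the chart. -/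
theorem lam_res_eval {P : Scheme.{u}} (e : Proj 𝒜 ⟶ P) {F : P.Modules} (n : ℤ)
    (lam : F ⟶ (Scheme.Modules.pushforward e).obj (GrMod.tilde 𝒜 ℳ n))
    {W₂ W₃ : P.Opens} (h : W₃ ≤ W₂) (t : Γ(F, W₂)) (y : (e ⁻¹ᵁ W₃ : Opens (ProjectiveSpectrum.top 𝒜))) :
    evalAt 𝒜 ℳ n (e ⁻¹ᵁ W₃) y (lam.app W₃ (F.presheaf.map (homOfLE h).op t)) =
      evalAt 𝒜 ℳ n (e ⁻¹ᵁ W₂) ⟨y.1, h y.2⟩ (lam.app W₂ t) := by
  rw [hom_app_map lam (homOfLE h) t]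
  rfl

theorem lam_comb {P : Scheme.{u}} (e : Proj 𝒜 ⟶ P) {F : P.Modules}
    (lam : F ⟶ (Scheme.Modules.pushforward e).obj (GrMod.tilde 𝒜 ℳ 0))
    {r : ℕ} {W W₂ W₃ : P.Opens} (h₃₂ : W₃ ≤ W₂) (h₃ : W₃ ≤ W)
    (t : Γ(F, W₂)) (σ' : Fin r → Γ(F, W))
    (c : Fin r → GrTwist.O (𝒜 := 𝒜) (op (e ⁻¹ᵁ W₃)))
    (τ' : Fin r → GrMod.sect 𝒜 ℳ 0 (op (e ⁻¹ᵁ W)))
    (hσ : ∀ l, @id (GrMod.sect 𝒜 ℳ 0 (op (e ⁻¹ᵁ W))) (lam.app W (σ' l)) = τ' l)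
    (hc : ∀ y : (e ⁻¹ᵁ W₃ : Opens (ProjectiveSpectrum.top 𝒜)),
      evalAt 𝒜 ℳ 0 (e ⁻¹ᵁ W₂) ⟨y.1, h₃₂ y.2⟩ (lam.app W₂ t) =
        ∑ l, ((c l).1 y).val • evalAt 𝒜 ℳ 0 (e ⁻¹ᵁ W) ⟨y.1, h₃ y.2⟩ (τ' l)) :
    @id (GrMod.sect 𝒜 ℳ 0 (op (e ⁻¹ᵁ W₃))) (lam.app W₃ (F.presheaf.map (homOfLE h₃₂).op t)) =
      ∑ l, c l • @id (GrMod.sect 𝒜 ℳ 0 (op (e ⁻¹ᵁ W₃)))
        (lam.app W₃ (F.presheaf.map (homOfLE h₃).op (σ' l))) := by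
  refine sect_ext 𝒜 ℳ _ _ fun y => ?_
  refine Eq.trans ?_ (evalAt_sum_smul 𝒜 ℳ Finset.univ c (fun l =>
    @id (GrMod.sect 𝒜 ℳ 0 (op (e ⁻¹ᵁ W₃))) (lam.app W₃ (F.presheaf.map (homOfLE h₃).op (σ' l)))) y).symm
  refine (lam_res_eval 𝒜 ℳ e 0 lam h₃₂ t y).trans ((hc y).trans (Finset.sum_congr rfl fun l _ => ?_))
  refine congrArg (((c l).1 y).val • ·) ?_
  refine Eq.trans ?_ (lam_res_eval 𝒜 ℳ e 0 lam h₃ (σ' l) y).symm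
  exact congrArg (evalAt 𝒜 ℳ 0 (e ⁻¹ᵁ W) ⟨y.1, h₃ y.2⟩) (hσ l).symm

variable [DirectSum.Decomposition ℳ]

/-- over `e(D₊(f))`, `f` of degree one, `F` is generated on stalks by the sections lifting `x_l / f ^ d_l`. -/
theorem chart_generators {P : Scheme.{u}} (e : Proj 𝒜 ⟶ P) [IsOpenImmersion e] {F : P.Modules}
    (lam : F ⟶ (Scheme.Modules.pushforward e).obj (GrMod.tilde 𝒜 ℳ 0))
    (hbij : ∀ W : P.Opens, W ≤ e.opensRange → Function.Bijective (lam.app W))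
    (f : A) (hf : f ∈ 𝒜 1) (n₁ : ℕ) {r : ℕ} (xg : Fin r → M) (dg : Fin r → ℕ)
    (hxg : ∀ l, xg l ∈ ℳ (dg l))
    (hspan : ∀ k, n₁ ≤ k → ∀ m ∈ ℳ k, m ∈ Submodule.span A (Set.range xg)) :
    ∃ σ' : Fin r → Γ(F, e ''ᵁ (ProjectiveSpectrum.basicOpen 𝒜 f)),
      ∀ (y : P) (hy : y ∈ e ''ᵁ (ProjectiveSpectrum.basicOpen 𝒜 f)),
        Submodule.span (P.presheaf.stalk y) (Set.range fun i => F.presheaf.germ _ y hy (σ' i)) = ⊤ := by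
  classical
  generalize hWdef : e ''ᵁ (ProjectiveSpectrum.basicOpen 𝒜 f) = W
  have hpre : e ⁻¹ᵁ W = ProjectiveSpectrum.basicOpen 𝒜 f := hWdef ▸ e.preimage_image_eq _
  have hWR : W ≤ e.opensRange := hWdef ▸ e.image_le_opensRange _
  have hfW : ∀ y ∈ e ⁻¹ᵁ W, f ∉ y.asHomogeneousIdeal := fun y hy => by
    rw [hpre] at hy
    exact hy
  let τ' : Fin r → GrMod.sect 𝒜 ℳ 0 (op (e ⁻¹ᵁ W)) := fun l =>
    fracSect 𝒜 ℳ 0 _ ⟨xg l, hxg l⟩ ⟨f ^ dg l, SetLike.pow_mem_graded (dg l) hf⟩ (by simp)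
      (fun y h => hfW y.1 y.2 (y.1.isPrime.mem_of_pow_mem _ h))
  choose σ' hσ using fun l => (hbij W hWR).2 (τ' l)
  refine ⟨σ', ?_⟩
  intro y hyW
  rw [eq_top_iff]
  rintro z -
  obtain ⟨W₁, hyW₁, s, rfl⟩ := F.presheaf.exists_germ_eq (x := y) z
  obtain ⟨y₁, hy₁⟩ : ∃ y₁, e.base y₁ = y := hWR hyW
  have hy₁W₂ : y₁ ∈ e ⁻¹ᵁ (W₁ ⊓ W) := by
    show e.base y₁ ∈ W₁ ⊓ W
    rw [hy₁]
    exact ⟨hyW₁, hyW⟩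
  have hVf : ∀ y' ∈ e ⁻¹ᵁ (W₁ ⊓ W), f ∉ y'.asHomogeneousIdeal := fun y' hy' => hfW y' hy'.2
  obtain ⟨Va, hyVa, hcomb⟩ := exists_local_comb 𝒜 ℳ f hf n₁ xg dg hxg hspan (e ⁻¹ᵁ (W₁ ⊓ W)) hVf
    (lam.app (W₁ ⊓ W) (F.presheaf.map (homOfLE (inf_le_left : W₁ ⊓ W ≤ W₁)).op s)) ⟨y₁, hy₁W₂⟩
  generalize hW₃def : e ''ᵁ (Va ⊓ e ⁻¹ᵁ (W₁ ⊓ W)) = W₃
  have hpre₃ : e ⁻¹ᵁ W₃ = Va ⊓ e ⁻¹ᵁ (W₁ ⊓ W) := hW₃def ▸ e.preimage_image_eq _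
  obtain ⟨c, hc⟩ := hcomb (e ⁻¹ᵁ W₃) hpre₃.le
  have hW₃W₂ : W₃ ≤ W₁ ⊓ W := by
    rw [← hW₃def]
    rintro _ ⟨v, hv, rfl⟩
    exact hv.2
  have hW₃R : W₃ ≤ e.opensRange := hW₃def ▸ e.image_le_opensRange _
  have hyW₃ : y ∈ W₃ := hW₃def ▸ ⟨y₁, ⟨hyVa, hy₁W₂⟩, hy₁⟩
  have hcT := lam_comb 𝒜 ℳ e lam hW₃W₂ (hW₃W₂.trans inf_le_right)
    (F.presheaf.map (homOfLE (inf_le_left : W₁ ⊓ W ≤ W₁)).op s) σ' c τ' hσ (fun y' => hc y')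
  rw [res_res F inf_le_left hW₃W₂ s] at hcT
  obtain ⟨ρ, hρ⟩ := span_transfer e lam (fun W' hW' => (hbij W' hW').1) W₃ hW₃R
    (fun l => F.presheaf.map (homOfLE (hW₃W₂.trans inf_le_right)).op (σ' l))
    (F.presheaf.map (homOfLE (hW₃W₂.trans inf_le_left)).op s) c hcT
  exact germ_mem_span F W W₁ W₃ y hyW hyW₁ hyW₃ (hW₃W₂.trans inf_le_left)
    (hW₃W₂.trans inf_le_right) σ' s ρ hρ

end chart

end Groth.Agent.Lib.Helper33.GrModFT
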