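import Groth.Agent.Lib.Helper33.GrModTN
import Groth.Agent.Lib.Helper33.GrModFT2
set_option autoImplicit false
set_option linter.unusedSectionVars false
set_option linter.unusedVariables false
set_option linter.deprecated false
universe u
open CategoryTheory CategoryTheory.Limits AlgebraicGeometry TopologicalSpace Opposite

/-! helper33: generation of `GrMod.tilde 𝒜 ℳ n` over `D₊(f)`, `f` homogeneous of ANY positive degree `δ`, by the fractions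
`x_l / f ^ K_l`, for homogeneous generators `x_l` (of degrees `K_l δ + n`) of the part of `M` in degrees `≡ n` mod `δ`;
chart version for a module identified with `M(n)~` over an open chart. -/

namespace Groth.Agent.Lib.Helper33.GrModFTn

open Groth.Agent.Lib.Helper33.GrModLib Groth.Agent.Lib.Helper33.GrModEpi Groth.Agent.Lib.Helper33.GrModFT
  Groth.Agent.Lib.Helper33.GrModTN

section ring
variable {A σ : Type u} [CommRing A] [SetLike σ A] [AddSubgroupClass σ A] (𝒜 : ℕ → σ) [GradedRing 𝒜]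
variable {M τ : Type u} [AddCommGroup M] [Module A M] [SetLike τ M] [AddSubgroupClass τ M] (ℳ : ℕ → τ)
  [SetLike.GradedSMul 𝒜 ℳ]

/-- homogeneous generators, in degrees `≡ n` mod `δ`, of the part of a Noetherian graded module in those degrees. -/
theorem exists_homog_generators_mod [IsNoetherian A M] (δ : ℕ) (n : ℤ) :
    ∃ (r : ℕ) (xg : Fin r → M) (dg Kg : Fin r → ℕ), (∀ l, xg l ∈ ℳ (dg l)) ∧
      (∀ l, (dg l : ℤ) = ((Kg l * δ : ℕ) : ℤ) + n) ∧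
      ∀ (d K : ℕ), (d : ℤ) = ((K * δ : ℕ) : ℤ) + n → ∀ m ∈ ℳ d, m ∈ Submodule.span A (Set.range xg) := by
  classical
  have h : (Submodule.span A (⋃ p ∈ {p : ℕ × ℕ | (p.1 : ℤ) = ((p.2 * δ : ℕ) : ℤ) + n},
      ((ℳ p.1 : τ) : Set M))).FG := IsNoetherian.noetherian _
  obtain ⟨T, hTsub, hTspan⟩ := (Submodule.fg_span_iff_fg_span_finset_subset _).mp h
  have hdeg : ∀ t : T, ∃ p : ℕ × ℕ, (p.1 : ℤ) = ((p.2 * δ : ℕ) : ℤ) + n ∧ (t : M) ∈ ℳ p.1 := fun t => by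
    have := hTsub t.2
    simp only [Set.mem_iUnion] at this
    obtain ⟨p, hp, hk⟩ := this
    exact ⟨p, hp, hk⟩
  choose d hd1 hd2 using hdeg
  refine ⟨T.card, fun l => (T.equivFin.symm l : M), fun l => (d (T.equivFin.symm l)).1,
    fun l => (d (T.equivFin.symm l)).2, fun l => hd2 _, fun l => hd1 _, ?_⟩
  intro d' K hk m hm
  have h1 : m ∈ Submodule.span A (⋃ p ∈ {p : ℕ × ℕ | (p.1 : ℤ) = ((p.2 * δ : ℕ) : ℤ) + n},
      ((ℳ p.1 : τ) : Set M)) :=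
    Submodule.subset_span (Set.mem_iUnion₂.mpr ⟨(d', K), hk, hm⟩)
  rw [hTspan] at h1
  refine Submodule.span_mono ?_ h1
  intro t ht
  exact ⟨T.equivFin ⟨t, ht⟩, by simp⟩

variable [DirectSum.Decomposition ℳ]

/-- local expression of a section of `M(n)~` over an open of `D₊(f)` as a combination of the `x_l / f ^ K_l`. -/
theorem exists_local_comb_gen (f : A) {δ : ℕ} (hδ : 0 < δ) (hf : f ∈ 𝒜 δ) (n : ℤ) {r : ℕ}
    (xg : Fin r → M) (dg Kg : Fin r → ℕ)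
    (hxg : ∀ l, xg l ∈ ℳ (dg l)) (hdg : ∀ l, (dg l : ℤ) = ((Kg l * δ : ℕ) : ℤ) + n)
    (hspan : ∀ (d K : ℕ), (d : ℤ) = ((K * δ : ℕ) : ℤ) + n → ∀ m ∈ ℳ d, m ∈ Submodule.span A (Set.range xg))
    (V : Opens (ProjectiveSpectrum.top 𝒜)) (hV : ∀ y ∈ V, f ∉ y.asHomogeneousIdeal)
    (s : GrMod.sect 𝒜 ℳ n (op V)) (x : V) :
    ∃ (Va : Opens (ProjectiveSpectrum.top 𝒜)), x.1 ∈ Va ∧
      ∀ (V'' : Opens (ProjectiveSpectrum.top 𝒜)) (h'' : V'' ≤ Va ⊓ V),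
      ∃ c : Fin r → GrTwist.O (𝒜 := 𝒜) (op V''), ∀ y : V'',
        ((s.1 ⟨y.1, (h'' y.2).2⟩ : GrMod.tildeAt 𝒜 ℳ n y.1) : GrMod.LocMod 𝒜 (M := M) y.1) =
          ∑ l, ((c l).1 y).val • (LocalizedModule.mk (xg l)
            ⟨f ^ Kg l, fun h => hV y.1 (h'' y.2).2 (y.1.isPrime.mem_of_pow_mem _ h)⟩ :
              GrMod.LocMod 𝒜 (M := M) y.1) := by
  classical
  obtain ⟨Va, mem, ia, i, j, m, s₀, nin, c0, w⟩ := s.2 x
  refine ⟨Va, mem, fun V'' h'' => ?_⟩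
  rcases c0 with hij | hm0
  · obtain ⟨δ', rfl⟩ : ∃ δ', δ = δ' + 1 := ⟨δ - 1, by omega⟩
    have hm' : (s₀ : A) ^ δ' • (m : M) ∈ ℳ (δ' • j + i) :=
      SetLike.GradedSMul.smul_mem (SetLike.pow_mem_graded δ' s₀.2) m.2
    have hD : ((δ' • j + i : ℕ) : ℤ) = ((j * (δ' + 1) : ℕ) : ℤ) + n := by
      rw [smul_eq_mul]
      push_cast
      rw [hij]
      ring
    obtain ⟨a, ha⟩ := (Submodule.mem_span_range_iff_exists_fun A).mp
      (hspan (δ' • j + i) j hD _ hm')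
    have hb := homog_comb 𝒜 ℳ xg dg hxg a _ hm' ha
    have hden : (s₀ : A) ^ (δ' + 1) ∈ 𝒜 (j * (δ' + 1)) := by
      have := SetLike.pow_mem_graded (δ' + 1) s₀.2
      rwa [smul_eq_mul, mul_comm] at this
    have hnum : ∀ l, (if dg l ≤ δ' • j + i then
        ((DirectSum.decompose 𝒜 (a l) (δ' • j + i - dg l) : 𝒜 (δ' • j + i - dg l)) : A) else 0) *
          f ^ Kg l ∈ 𝒜 (j * (δ' + 1)) := by
      intro l
      by_cases h : dg l ≤ δ' • j + i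
      · rw [if_pos h]
        have h2 := SetLike.mul_mem_graded (SetLike.coe_mem (DirectSum.decompose 𝒜 (a l) (δ' • j + i - dg l)))
          (SetLike.pow_mem_graded (Kg l) hf)
        have h3 : δ' • j + i - dg l + Kg l • (δ' + 1) = j * (δ' + 1) := by
          have e1 := hdg l
          have e2 := hD
          rw [smul_eq_mul] at e2 ⊢
          rw [smul_eq_mul] at h ⊢
          push_cast at e1 e2
          zify [h]
          rw [e1, e2]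
          ring
        rwa [h3] at h2
      · rw [if_neg h, zero_mul]
        exact zero_mem _
    have nin'' : ∀ y : V'', (s₀ : A) ^ (δ' + 1) ∉ y.1.asHomogeneousIdeal := fun y h =>
      nin ⟨y.1, (h'' y.2).1⟩ (y.1.isPrime.mem_of_pow_mem _ h)
    refine ⟨fun l => fracO 𝒜 V'' ⟨_, hnum l⟩ ⟨(s₀ : A) ^ (δ' + 1), hden⟩ nin'', fun y => ?_⟩
    have w1 : (s.1 ⟨y.1, (h'' y.2).2⟩).1 =
        LocalizedModule.mk (m : M) ⟨(s₀ : A), nin ⟨y.1, (h'' y.2).1⟩⟩ := w ⟨y.1, (h'' y.2).1⟩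
    rw [w1]
    have hterm : ∀ l, ((fracO 𝒜 V'' ⟨_, hnum l⟩ ⟨(s₀ : A) ^ (δ' + 1), hden⟩ nin'').1 y).val •
        (LocalizedModule.mk (xg l)
          ⟨f ^ Kg l, fun h => hV y.1 (h'' y.2).2 (y.1.isPrime.mem_of_pow_mem _ h)⟩ :
            GrMod.LocMod 𝒜 (M := M) y.1) =
        LocalizedModule.mk ((if dg l ≤ δ' • j + i then
          ((DirectSum.decompose 𝒜 (a l) (δ' • j + i - dg l) : 𝒜 (δ' • j + i - dg l)) : A) else 0) • xg l)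
          ⟨(s₀ : A) ^ (δ' + 1), nin'' y⟩ := by
      intro l
      rw [fracO_val, LocalizedModule.mk_smul_mk, LocalizedModule.mk_eq]
      refine ⟨1, ?_⟩
      rw [one_smul, one_smul]
      show ((s₀ : A) ^ (δ' + 1)) • ((_ * f ^ Kg l) • xg l) =
        (((s₀ : A) ^ (δ' + 1)) * f ^ Kg l) • (_ • xg l)
      rw [smul_smul, smul_smul]
      congr 1
      ring
    rw [Finset.sum_congr rfl fun l _ => hterm l, ← mk_sum_same, hb]
    have hc := mk_cancel 𝒜 y.1 ((s₀ : A) ^ δ') (s₀ : A) (m : M)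
      (by rw [← pow_succ]; exact nin'' y) (nin ⟨y.1, (h'' y.2).1⟩)
    refine Eq.trans hc.symm ?_
    rw [LocalizedModule.mk_eq]
    refine ⟨1, ?_⟩
    rw [one_smul, one_smul]
    show ((s₀ : A) ^ (δ' + 1)) • ((s₀ : A) ^ δ' • (m : M)) = ((s₀ : A) ^ δ' * (s₀ : A)) • ((s₀ : A) ^ δ' • (m : M))
    rw [pow_succ]
  · refine ⟨fun _ => 0, fun y => ?_⟩
    have w1 := w ⟨y.1, (h'' y.2).1⟩
    rw [hm0, LocalizedModule.zero_mk] at w1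
    refine Eq.trans w1 (Finset.sum_eq_zero fun l _ => ?_).symm
    show (0 : GrTwist.A0 𝒜 y.1).val • _ = 0
    rw [HomogeneousLocalization.val_zero, zero_smul]

end ring

section chart
variable {A σ : Type u} [CommRing A] [SetLike σ A] [AddSubgroupClass σ A] (𝒜 : ℕ → σ) [GradedRing 𝒜]
variable {M τ : Type u} [AddCommGroup M] [Module A M] [SetLike τ M] [AddSubgroupClass τ M] (ℳ : ℕ → τ)
  [SetLike.GradedSMul 𝒜 ℳ]

theorem lam_comb_n {P : Scheme.{u}} (e : Proj 𝒜 ⟶ P) {F : P.Modules} (n : ℤ)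
    (lam : F ⟶ (Scheme.Modules.pushforward e).obj (GrMod.tilde 𝒜 ℳ n))
    {r : ℕ} {W W₂ W₃ : P.Opens} (h₃₂ : W₃ ≤ W₂) (h₃ : W₃ ≤ W)
    (t : Γ(F, W₂)) (σ' : Fin r → Γ(F, W))
    (c : Fin r → GrTwist.O (𝒜 := 𝒜) (op (e ⁻¹ᵁ W₃)))
    (τ' : Fin r → GrMod.sect 𝒜 ℳ n (op (e ⁻¹ᵁ W)))
    (hσ : ∀ l, @id (GrMod.sect 𝒜 ℳ n (op (e ⁻¹ᵁ W))) (lam.app W (σ' l)) = τ' l)
    (hc : ∀ y : (e ⁻¹ᵁ W₃ : Opens (ProjectiveSpectrum.top 𝒜)),
      evalAt 𝒜 ℳ n (e ⁻¹ᵁ W₂) ⟨y.1, h₃₂ y.2⟩ (lam.app W₂ t) =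
        ∑ l, ((c l).1 y).val • evalAt 𝒜 ℳ n (e ⁻¹ᵁ W) ⟨y.1, h₃ y.2⟩ (τ' l)) :
    @id (GrMod.sect 𝒜 ℳ n (op (e ⁻¹ᵁ W₃))) (lam.app W₃ (F.presheaf.map (homOfLE h₃₂).op t)) =
      ∑ l, c l • @id (GrMod.sect 𝒜 ℳ n (op (e ⁻¹ᵁ W₃)))
        (lam.app W₃ (F.presheaf.map (homOfLE h₃).op (σ' l))) := by
  refine sect_ext 𝒜 ℳ _ _ fun y => ?_
  refine Eq.trans ?_ (evalAt_sum_smul 𝒜 ℳ Finset.univ c (fun l =>
    @id (GrMod.sect 𝒜 ℳ n (op (e ⁻¹ᵁ W₃))) (lam.app W₃ (F.presheaf.map (homOfLE h₃).op (σ' l)))) y).symm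
  refine (lam_res_eval 𝒜 ℳ e n lam h₃₂ t y).trans ((hc y).trans (Finset.sum_congr rfl fun l _ => ?_))
  refine congrArg (((c l).1 y).val • ·) ?_
  refine Eq.trans ?_ (lam_res_eval 𝒜 ℳ e n lam h₃ (σ' l) y).symm
  exact congrArg (evalAt 𝒜 ℳ n (e ⁻¹ᵁ W) ⟨y.1, h₃ y.2⟩) (hσ l).symm

variable [DirectSum.Decomposition ℳ]

/-- over `e(D₊(f))`, `f` homogeneous of positive degree, `F ≃ M(n)~` is generated on stalks by the sections lifting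
`x_l / f ^ K_l`. -/
theorem chart_generators_n {P : Scheme.{u}} (e : Proj 𝒜 ⟶ P) [IsOpenImmersion e] {F : P.Modules} (n : ℤ)
    (lam : F ⟶ (Scheme.Modules.pushforward e).obj (GrMod.tilde 𝒜 ℳ n))
    (hbij : ∀ W : P.Opens, W ≤ e.opensRange → Function.Bijective (lam.app W))
    (f : A) {δ : ℕ} (hδ : 0 < δ) (hf : f ∈ 𝒜 δ) {r : ℕ} (xg : Fin r → M) (dg Kg : Fin r → ℕ)
    (hxg : ∀ l, xg l ∈ ℳ (dg l)) (hdg : ∀ l, (dg l : ℤ) = ((Kg l * δ : ℕ) : ℤ) + n)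
    (hspan : ∀ (d K : ℕ), (d : ℤ) = ((K * δ : ℕ) : ℤ) + n → ∀ m ∈ ℳ d, m ∈ Submodule.span A (Set.range xg)) :
    ∃ σ' : Fin r → Γ(F, e ''ᵁ (ProjectiveSpectrum.basicOpen 𝒜 f)),
      ∀ (y : P) (hy : y ∈ e ''ᵁ (ProjectiveSpectrum.basicOpen 𝒜 f)),
        Submodule.span (P.presheaf.stalk y) (Set.range fun i => F.presheaf.germ _ y hy (σ' i)) = ⊤ := by
  classical
  generalize hWdef : e ''ᵁ (ProjectiveSpectrum.basicOpen 𝒜 f) = W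
  have hpre : e ⁻¹ᵁ W = ProjectiveSpectrum.basicOpen 𝒜 f := hWdef ▸ e.preimage_image_eq _
  have hWR : W ≤ e.opensRange := hWdef ▸ e.image_le_opensRange _
  have hfW : ∀ y ∈ e ⁻¹ᵁ W, f ∉ y.asHomogeneousIdeal := fun y hy => by
    rw [hpre] at hy
    exact hy
  have hdg' : ∀ l, (dg l : ℤ) = ((Kg l • δ : ℕ) : ℤ) + n := fun l => by
    rw [smul_eq_mul]
    exact hdg l
  let τ' : Fin r → GrMod.sect 𝒜 ℳ n (op (e ⁻¹ᵁ W)) := fun l =>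
    fracSect 𝒜 ℳ n _ ⟨xg l, hxg l⟩ ⟨f ^ Kg l, SetLike.pow_mem_graded (Kg l) hf⟩ (hdg' l)
      (fun y h => hfW y.1 y.2 (y.1.isPrime.mem_of_pow_mem _ h))
  choose σ' hσ using fun l => (hbij W hWR).2 (τ' l)
  refine ⟨σ', ?_⟩
  intro y hyW
  rw [eq_top_iff]
  rintro z -
  obtain ⟨W₁, hyW₁, s, rfl⟩ := F.presheaf.exists_germ_eq (x := y) z
  obtain ⟨y₁, hy₁⟩ : ∃ y₁, e.base y₁ = y := hWR hyW
  have hy₁W₂ : y₁ ∈ e ⁻¹ᵁ (W₁ ⊓ W) := by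
    show e.base y₁ ∈ W₁ ⊓ W
    rw [hy₁]
    exact ⟨hyW₁, hyW⟩
  have hVf : ∀ y' ∈ e ⁻¹ᵁ (W₁ ⊓ W), f ∉ y'.asHomogeneousIdeal := fun y' hy' => hfW y' hy'.2
  obtain ⟨Va, hyVa, hcomb⟩ := exists_local_comb_gen 𝒜 ℳ f hδ hf n xg dg Kg hxg hdg hspan
    (e ⁻¹ᵁ (W₁ ⊓ W)) hVf
    (lam.app (W₁ ⊓ W) (F.presheaf.map (homOfLE (inf_le_left : W₁ ⊓ W ≤ W₁)).op s)) ⟨y₁, hy₁W₂⟩
  generalize hW₃def : e ''ᵁ (Va ⊓ e ⁻¹ᵁ (W₁ ⊓ W)) = W₃
  have hpre₃ : e ⁻¹ᵁ W₃ = Va ⊓ e ⁻¹ᵁ (W₁ ⊓ W) := hW₃def ▸ e.preimage_image_eq _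
  obtain ⟨c, hc⟩ := hcomb (e ⁻¹ᵁ W₃) hpre₃.le
  have hW₃W₂ : W₃ ≤ W₁ ⊓ W := by
    rw [← hW₃def]
    rintro _ ⟨v, hv, rfl⟩
    exact hv.2
  have hW₃R : W₃ ≤ e.opensRange := hW₃def ▸ e.image_le_opensRange _
  have hyW₃ : y ∈ W₃ := hW₃def ▸ ⟨y₁, ⟨hyVa, hy₁W₂⟩, hy₁⟩
  have hcT := lam_comb_n 𝒜 ℳ e n lam hW₃W₂ (hW₃W₂.trans inf_le_right)
    (F.presheaf.map (homOfLE (inf_le_left : W₁ ⊓ W ≤ W₁)).op s) σ' c τ' hσ (fun y' => hc y')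
  rw [res_res F inf_le_left hW₃W₂ s] at hcT
  obtain ⟨ρ, hρ⟩ := span_transfer e lam (fun W' hW' => (hbij W' hW').1) W₃ hW₃R
    (fun l => F.presheaf.map (homOfLE (hW₃W₂.trans inf_le_right)).op (σ' l))
    (F.presheaf.map (homOfLE (hW₃W₂.trans inf_le_left)).op s) c hcT
  exact germ_mem_span F W W₁ W₃ y hyW hyW₁ hyW₃ (hW₃W₂.trans inf_le_left)
    (hW₃W₂.trans inf_le_right) σ' s ρ hρ

end chart

section twist
variable {A σ : Type u} [CommRing A] [SetLike σ A] [AddSubgroupClass σ A] (𝒜 : ℕ → σ) [GradedRing 𝒜]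

/-- chart version for the twisting sheaf `O(n)` over a Noetherian graded ring: finitely many sections over `e(D₊(f))`
generating all stalks there. -/
theorem chart_generators_twist [IsNoetherianRing A] {P : Scheme.{u}} (e : Proj 𝒜 ⟶ P) [IsOpenImmersion e]
    {L : P.Modules} (n : ℤ)
    (lam : L ⟶ (Scheme.Modules.pushforward e).obj (GrTwist.twist 𝒜 n))
    (hbij : ∀ W : P.Opens, W ≤ e.opensRange → Function.Bijective (lam.app W))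
    (f : A) {δ : ℕ} (hδ : 0 < δ) (hf : f ∈ 𝒜 δ) :
    ∃ (r : ℕ) (σ' : Fin r → Γ(L, e ''ᵁ (ProjectiveSpectrum.basicOpen 𝒜 f))),
      ∀ (y : P) (hy : y ∈ e ''ᵁ (ProjectiveSpectrum.basicOpen 𝒜 f)),
        Submodule.span (P.presheaf.stalk y) (Set.range fun i => L.presheaf.germ _ y hy (σ' i)) = ⊤ := by
  obtain ⟨r, xg, dg, Kg, hxg, hdg, hspan⟩ := exists_homog_generators_mod (A := A) (M := A) 𝒜 δ n
  exact ⟨r, chart_generators_n 𝒜 𝒜 e n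
    (show L ⟶ (Scheme.Modules.pushforward e).obj (GrMod.tilde 𝒜 𝒜 n) from lam) hbij f hδ hf xg dg Kg hxg hdg hspan⟩

end twist

end Groth.Agent.Lib.Helper33.GrModFTn
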