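import Groth.Prelude.Def_RelProj3
import Mathlib.Tactic
set_option autoImplicit false
set_option linter.unusedSectionVars false
set_option linter.unusedVariables false
set_option linter.deprecated false
universe u
open CategoryTheory CategoryTheory.Limits AlgebraicGeometry TopologicalSpace Opposite

/-! helper33: ring-level lemmas on `GrMod.tilde` (TN ⇒ zero sections, TN-injective ⇒ injective on sections)
and sheaf-of-modules locality helpers on a relative Proj. -/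

namespace Groth.Agent.Lib.Helper33.GrModLib


section ringlevel
variable {A σ : Type u} [CommRing A] [SetLike σ A] [AddSubgroupClass σ A] (𝒜 : ℕ → σ) [GradedRing 𝒜]
variable {N τ' : Type u} [AddCommGroup N] [Module A N] [SetLike τ' N] [AddSubgroupClass τ' N] (𝒩 : ℕ → τ')
  [SetLike.GradedSMul 𝒜 𝒩] [DirectSum.Decomposition 𝒩]

open DirectSum in
theorem homog_annihilator {i : ℕ} (w : N) (hw : w ∈ 𝒩 i) (c : A) (hc : c • w = 0) (k : ℕ) :
    ((decompose 𝒜 c k : 𝒜 k) : A) • w = 0 := by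
  classical
  have hmem : ∀ k, ((decompose 𝒜 c k : 𝒜 k) : A) • w ∈ 𝒩 (k + i) := fun k =>
    SetLike.GradedSMul.smul_mem (decompose 𝒜 c k).2 hw
  have h1 : c • w = ∑ k ∈ (decompose 𝒜 c).support, ((decompose 𝒜 c k : 𝒜 k) : A) • w := by
    conv_lhs => rw [← DirectSum.sum_support_decompose 𝒜 c]
    rw [Finset.sum_smul]
  have h2 : decompose 𝒩 (c • w) = ∑ k ∈ (decompose 𝒜 c).support,
      DirectSum.of (fun j => 𝒩 j) (k + i) ⟨((decompose 𝒜 c k : 𝒜 k) : A) • w, hmem k⟩ := by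
    rw [h1, DirectSum.decompose_sum]
    refine Finset.sum_congr rfl fun k _ => ?_
    exact DirectSum.decompose_of_mem 𝒩 (hmem k)
  rw [hc, DirectSum.decompose_zero] at h2
  have h3 := congrArg (fun (z : ⨁ j, 𝒩 j) => ((z (k + i) : 𝒩 (k+i)) : N)) h2
  simp only [DirectSum.zero_apply, ZeroMemClass.coe_zero] at h3
  by_cases hk : k ∈ (decompose 𝒜 c).support
  · rw [DFinsupp.finset_sum_apply, Finset.sum_eq_single k] at h3
    · rw [DirectSum.of_eq_same] at h3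
      exact h3.symm
    · intro b _ hb
      rw [DirectSum.of_eq_of_ne]
      omega
    · intro h; exact absurd hk h
  · rw [DFinsupp.notMem_support_iff] at hk
    rw [hk]
    simp

end ringlevel

section ringlevel2
variable {A σ : Type u} [CommRing A] [SetLike σ A] [AddSubgroupClass σ A] (𝒜 : ℕ → σ) [GradedRing 𝒜]
variable {M τ : Type u} [AddCommGroup M] [Module A M] [SetLike τ M] [AddSubgroupClass τ M] (ℳ : ℕ → τ)
  [SetLike.GradedSMul 𝒜 ℳ]
variable {N τ' : Type u} [AddCommGroup N] [Module A N] [SetLike τ' N] [AddSubgroupClass τ' N] (𝒩 : ℕ → τ')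
  [SetLike.GradedSMul 𝒜 𝒩] [DirectSum.Decomposition 𝒩]

theorem exists_pos_not_mem (x : ProjectiveSpectrum 𝒜) :
    ∃ (d : ℕ) (_ : 0 < d) (g : A), g ∈ 𝒜 d ∧ g ∉ x.asHomogeneousIdeal := by
  by_contra hcon
  push Not at hcon
  apply x.not_irrelevant_le
  rw [HomogeneousIdeal.irrelevant_le]
  intro i hi g hg
  exact hcon i hi g hg

open DirectSum in
theorem exists_component_not_mem (x : ProjectiveSpectrum 𝒜) (c : A) (hc : c ∉ x.asHomogeneousIdeal) :
    ∃ k, ((decompose 𝒜 c k : 𝒜 k) : A) ∉ x.asHomogeneousIdeal := by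
  classical
  by_contra hcon
  push Not at hcon
  apply hc
  rw [← DirectSum.sum_support_decompose 𝒜 c]
  exact Ideal.sum_mem _ fun k _ => hcon k

theorem mk_eq_zero_of_map (u : M →ₗ[A] N) (hu : ∀ (i : ℕ) (m : M), m ∈ ℳ i → u m ∈ 𝒩 i)
    (n₀ : ℕ) (hinj : ∀ k, n₀ ≤ k → ∀ m ∈ ℳ k, u m = 0 → m = 0)
    (x : ProjectiveSpectrum 𝒜) {i : ℕ} (m : M) (hm : m ∈ ℳ i)
    (s : x.asHomogeneousIdeal.toIdeal.primeCompl)
    (h : (LocalizedModule.mk (u m) s : GrMod.LocMod 𝒜 (M := N) x) = 0) :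
    (LocalizedModule.mk m s : GrMod.LocMod 𝒜 (M := M) x) = 0 := by
  rw [← LocalizedModule.zero_mk (1 : x.asHomogeneousIdeal.toIdeal.primeCompl), LocalizedModule.mk_eq] at h
  obtain ⟨⟨c, hc⟩, h⟩ := h
  rw [smul_zero, smul_zero, one_smul] at h
  replace h : c • u m = 0 := h
  obtain ⟨k, hk⟩ := exists_component_not_mem 𝒜 x c hc
  have hck := homog_annihilator 𝒜 𝒩 (u m) (hu i m hm) c h k
  obtain ⟨d, hd, g, hg, hgx⟩ := exists_pos_not_mem 𝒜 x
  set ck : A := ((DirectSum.decompose 𝒜 c k : 𝒜 k) : A) with hckdef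
  have hckmem : ck ∈ 𝒜 k := (DirectSum.decompose 𝒜 c k).2
  have hgN : g ^ n₀ * ck ∉ x.asHomogeneousIdeal := fun h =>
    (x.isPrime.mem_or_mem h).elim (fun h' => hgx (x.isPrime.mem_of_pow_mem n₀ h')) hk
  have hmem : (g ^ n₀ * ck) • m ∈ ℳ (n₀ • d + k + i) :=
    SetLike.GradedSMul.smul_mem (SetLike.mul_mem_graded (SetLike.pow_mem_graded n₀ hg) hckmem) hm
  have h0 : (g ^ n₀ * ck) • m = 0 := by
    refine hinj _ ?_ _ hmem ?_
    · have : n₀ ≤ n₀ * d := Nat.le_mul_of_pos_right n₀ hd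
      rw [smul_eq_mul]; omega
    · rw [map_smul, mul_smul, hck, smul_zero]
  rw [← LocalizedModule.zero_mk (1 : x.asHomogeneousIdeal.toIdeal.primeCompl), LocalizedModule.mk_eq]
  refine ⟨⟨g ^ n₀ * ck, hgN⟩, ?_⟩
  rw [smul_zero, smul_zero, one_smul]
  exact h0

end ringlevel2

section ringlevel3
variable {A σ : Type u} [CommRing A] [SetLike σ A] [AddSubgroupClass σ A] (𝒜 : ℕ → σ) [GradedRing 𝒜]
variable {M τ : Type u} [AddCommGroup M] [Module A M] [SetLike τ M] [AddSubgroupClass τ M] (ℳ : ℕ → τ)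
  [SetLike.GradedSMul 𝒜 ℳ]
variable {N τ' : Type u} [AddCommGroup N] [Module A N] [SetLike τ' N] [AddSubgroupClass τ' N] (𝒩 : ℕ → τ')
  [SetLike.GradedSMul 𝒜 𝒩] [DirectSum.Decomposition 𝒩]

theorem map_app_injective (u : M →ₗ[A] N) (hu : ∀ (i : ℕ) (m : M), m ∈ ℳ i → u m ∈ 𝒩 i)
    (n₀ : ℕ) (hinj : ∀ k, n₀ ≤ k → ∀ m ∈ ℳ k, u m = 0 → m = 0) (n : ℤ) (V : (Proj 𝒜).Opens) :
    Function.Injective ((GrMod.map 𝒜 (ℳ := ℳ) (𝒩 := 𝒩) u hu n).app V) := by
  rw [injective_iff_map_eq_zero]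
  intro t ht
  have key : ∀ t : GrMod.sect 𝒜 ℳ n (op V), GrMod.mapApp (𝒩 := 𝒩) u hu n (op V) t = 0 → t = 0 := by
    intro t ht
    refine Subtype.ext (funext fun x => Subtype.ext ?_)
    obtain ⟨Va, mem, ia, i, j, m, s, nin, -, w⟩ := t.2 x
    have w1 : (t.1 x).1 = LocalizedModule.mk (m : M) ⟨(s : A), nin ⟨x.1, mem⟩⟩ := w ⟨x.1, mem⟩
    have h2 : GrMod.locMap u x.1 (t.1 x).1 = 0 := by
      have := congrArg (fun (z : GrMod.sect 𝒜 𝒩 n (op V)) => ((z.1 x : GrMod.tildeAt 𝒜 𝒩 n x.1) : GrMod.LocMod 𝒜 (M := N) x.1)) ht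
      exact this
    rw [w1, GrMod.locMap_mk] at h2
    rw [w1]
    exact mk_eq_zero_of_map 𝒜 ℳ 𝒩 u hu n₀ hinj x.1 m m.2 _ h2
  exact key t ht

end ringlevel3

theorem mono_of_injective {P : Scheme.{u}} {F G : P.Modules} (φ : F ⟶ G)
    (h : ∀ W : P.Opens, Function.Injective (φ.app W)) : Mono φ := by
  apply (Scheme.Modules.toPresheaf P).mono_of_mono_map
  have : ∀ W, Mono (((Scheme.Modules.toPresheaf P).map φ).app W) := fun W =>
    (AddCommGrpCat.mono_iff_injective _).mpr (h W.unop)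
  exact NatTrans.mono_of_mono_app _

theorem eq_zero_of_locally {Y P : Scheme.{u}} (p : P ⟶ Y) (F : P.Modules) (W : P.Opens) (s : Γ(F, W))
    (h : ∀ (U : Y.Opens) (hU : IsAffineOpen U),
      F.presheaf.map (homOfLE (inf_le_left : W ⊓ p ⁻¹ᵁ U ≤ W)).op s = 0) : s = 0 := by
  let ι := {U : Y.Opens // IsAffineOpen U}
  let Ucov : ι → P.Opens := fun U => W ⊓ p ⁻¹ᵁ U.1
  refine TopCat.Sheaf.eq_of_locally_eq' (⟨F.presheaf, F.isSheaf⟩ : TopCat.Sheaf Ab P) Ucov W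
    (fun U => homOfLE inf_le_left) ?_ s 0 ?_
  · intro x hx
    obtain ⟨_, ⟨U, hU, rfl⟩, hxU, -⟩ := Y.isBasis_affineOpens.exists_subset_of_mem_open
      (Set.mem_univ (p x)) isOpen_univ
    exact Opens.mem_iSup.mpr ⟨⟨U, hU⟩, hx, hxU⟩
  · intro U
    rw [map_zero]
    exact h U.1 U.2

theorem hom_app_map {X : Scheme.{u}} {M M' : X.Modules} (φ : M ⟶ M') {U V : X.Opens} (i : V ⟶ U) (x : Γ(M, U)) :
    φ.app V (M.presheaf.map i.op x) = M'.presheaf.map i.op (φ.app U x) :=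
  congr($((Scheme.Modules.Hom.mapPresheaf φ).naturality i.op) x)


end Groth.Agent.Lib.Helper33.GrModLib
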