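import Groth.Agent.Lib.Helper33.GrModFT
set_option autoImplicit false
set_option linter.unusedSectionVars false
set_option linter.unusedVariables false
set_option linter.deprecated false
universe u
open CategoryTheory CategoryTheory.Limits AlgebraicGeometry TopologicalSpace Opposite

/-! helper33: ring-level (TN) from vanishing of `M~`: if `A` is generated by `A_1` over `A_0`, `A_1` is spanned over `A_0`
by a finite set, the high-degree part of `M` is finitely generated and all fractions `x / f ^ d` vanish in the localizations at the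
points of `D₊(f)`, then `M_k = 0` for `k` large. -/

namespace Groth.Agent.Lib.Helper33.GrModTN

open Groth.Agent.Lib.Helper33.GrModLib Groth.Agent.Lib.Helper33.GrModEpi Groth.Agent.Lib.Helper33.GrModFT

section ring
variable {A σ : Type u} [CommRing A] [SetLike σ A] [AddSubgroupClass σ A] (𝒜 : ℕ → σ) [GradedRing 𝒜]
variable {M τ : Type u} [AddCommGroup M] [Module A M] [SetLike τ M] [AddSubgroupClass τ M] (ℳ : ℕ → τ)
  [SetLike.GradedSMul 𝒜 ℳ] [DirectSum.Decomposition ℳ]

theorem isHomogeneous_torsionOf {d : ℕ} (x : M) (hx : x ∈ ℳ d) :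
    (Ideal.torsionOf A M x).IsHomogeneous 𝒜 := by
  intro i a ha
  rw [Ideal.mem_torsionOf_iff] at ha ⊢
  exact homog_annihilator 𝒜 ℳ x hx a ha i

/-- if `x / f ^ d` vanishes at every point of `D₊(f)` (`f` of degree one) then a power of `f` kills `x`. -/
theorem exists_pow_smul_eq_zero (f : A) (hf : f ∈ 𝒜 1) {d : ℕ} (x : M) (hx : x ∈ ℳ d)
    (h : ∀ (y : ProjectiveSpectrum 𝒜) (hy : f ^ d ∉ y.asHomogeneousIdeal),
      (LocalizedModule.mk x ⟨f ^ d, hy⟩ : GrMod.LocMod 𝒜 (M := M) y) = 0) :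
    ∃ N : ℕ, f ^ N • x = 0 := by
  classical
  by_contra hcon
  push Not at hcon
  have hI := isHomogeneous_torsionOf 𝒜 ℳ x hx
  have hfr : f ∉ (Ideal.torsionOf A M x).radical := by
    rintro ⟨N, hN⟩
    exact hcon N ((Ideal.mem_torsionOf_iff _ _).mp hN)
  rw [hI.radical_eq, Ideal.mem_sInf] at hfr
  push Not at hfr
  obtain ⟨q, ⟨hqh, hIq, hqp⟩, hfq⟩ := hfr
  have hirr : ¬ HomogeneousIdeal.irrelevant 𝒜 ≤ (⟨q, hqh⟩ : HomogeneousIdeal 𝒜) := by
    intro hle
    exact hfq (hle (HomogeneousIdeal.mem_irrelevant_of_mem _ Nat.zero_lt_one hf))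
  let y : ProjectiveSpectrum 𝒜 := ⟨⟨q, hqh⟩, hqp, hirr⟩
  have hy : f ^ d ∉ y.asHomogeneousIdeal := fun h' => hfq (hqp.mem_of_pow_mem _ h')
  have h0 := h y hy
  rw [← LocalizedModule.zero_mk (1 : y.asHomogeneousIdeal.toIdeal.primeCompl), LocalizedModule.mk_eq] at h0
  obtain ⟨⟨c, hc⟩, h0⟩ := h0
  rw [smul_zero, smul_zero, one_smul] at h0
  have : c ∈ Ideal.torsionOf A M x := (Ideal.mem_torsionOf_iff _ _).mpr h0
  exact hc (hIq this)

/-- generation in degrees `0, 1`: `A_j ⊆ J ^ j` for any ideal `J ⊇ A_1`. -/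
theorem mem_pow_of_mem_deg
    (hgen : Subring.closure (((𝒜 0 : σ) : Set A) ∪ ((𝒜 1 : σ) : Set A)) = ⊤)
    (J : Ideal A) (hJ : ∀ a ∈ 𝒜 1, a ∈ J) : ∀ (j : ℕ) (a : A), a ∈ 𝒜 j → a ∈ J ^ j := by
  classical
  have key : ∀ a : A, ∀ j, ((DirectSum.decompose 𝒜 a j : 𝒜 j) : A) ∈ J ^ j := by
    intro a
    have ha : a ∈ Subring.closure (((𝒜 0 : σ) : Set A) ∪ ((𝒜 1 : σ) : Set A)) := hgen ▸ Subring.mem_top a
    induction ha using Subring.closure_induction with
    | mem b hb =>
      intro j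
      rcases hb with hb | hb
      · by_cases h : j = 0
        · subst h
          rw [pow_zero, Ideal.one_eq_top]
          exact Submodule.mem_top
        · rw [DirectSum.decompose_of_mem_ne 𝒜 hb (Ne.symm h)]
          exact zero_mem _
      · by_cases h : j = 1
        · subst h
          rw [DirectSum.decompose_of_mem_same 𝒜 hb, pow_one]
          exact hJ b hb
        · rw [DirectSum.decompose_of_mem_ne 𝒜 hb (Ne.symm h)]
          exact zero_mem _
    | zero =>
      intro j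
      rw [DirectSum.decompose_zero, DirectSum.zero_apply]
      exact zero_mem _
    | one =>
      intro j
      by_cases h : j = 0
      · subst h
        rw [pow_zero, Ideal.one_eq_top]
        exact Submodule.mem_top
      · rw [DirectSum.decompose_of_mem_ne 𝒜 (SetLike.GradedOne.one_mem : (1 : A) ∈ 𝒜 0) (Ne.symm h)]
        exact zero_mem _
    | add b c _ _ hb hc =>
      intro j
      rw [DirectSum.decompose_add, DirectSum.add_apply, AddMemClass.coe_add]
      exact add_mem (hb j) (hc j)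
    | neg b _ hb =>
      intro j
      rw [DirectSum.decompose_neg]
      erw [DFinsupp.neg_apply]
      rw [NegMemClass.coe_neg]
      exact neg_mem (hb j)
    | mul b c _ _ hb hc =>
      intro j
      rw [DirectSum.decompose_mul, DirectSum.coe_mul_apply]
      refine Ideal.sum_mem _ fun ij hij => ?_
      rw [Finset.mem_filter] at hij
      rw [← hij.2, pow_add]
      exact Ideal.mul_mem_mul (hb _) (hc _)
  intro j a ha
  have := key a j
  rwa [DirectSum.decompose_of_mem_same 𝒜 ha] at this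

open DirectSum in
/-- a homogeneous element which is a combination of homogeneous elements is a combination with homogeneous
coefficients. -/
theorem homog_comb {r : ℕ} (xg : Fin r → M) (dg : Fin r → ℕ) (hxg : ∀ l, xg l ∈ ℳ (dg l))
    (a : Fin r → A) {N : ℕ} (m : M) (hm : m ∈ ℳ N) (ha : ∑ l, a l • xg l = m) :
    ∑ l, (if dg l ≤ N then ((decompose 𝒜 (a l) (N - dg l) : 𝒜 (N - dg l)) : A) else 0) • xg l = m := by
  classical
  have h1 := congrArg (fun z => ((decompose ℳ z N : ℳ N) : M)) ha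
  simp only at h1
  rw [DirectSum.decompose_of_mem_same ℳ hm, DirectSum.decompose_sum,
    DFinsupp.finset_sum_apply, AddSubmonoidClass.coe_finset_sum] at h1
  rw [← h1]
  refine Finset.sum_congr rfl fun l _ => ?_
  exact (decompose_smul_of_mem' 𝒜 ℳ (hxg l) (a l) N).symm

/-- ring-level (TN) from pointwise vanishing of the fractions `x / f ^ d`. -/
theorem exists_bound
    (hgen : Subring.closure (((𝒜 0 : σ) : Set A) ∪ ((𝒜 1 : σ) : Set A)) = ⊤)
    (T : Finset A) (hT1 : ∀ t ∈ T, t ∈ 𝒜 1)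
    (hT : ∀ x ∈ 𝒜 1, x ∈ Ideal.span (T : Set A))
    (n₁ : ℕ) (hfg : (Submodule.span A (⋃ k ∈ Set.Ici n₁, ((ℳ k : τ) : Set M))).FG)
    (hz : ∀ (f : A) (hf : f ∈ 𝒜 1) (d : ℕ) (x : M) (hx : x ∈ ℳ d) (y : ProjectiveSpectrum 𝒜)
      (hy : f ^ d ∉ y.asHomogeneousIdeal),
      (LocalizedModule.mk x ⟨f ^ d, hy⟩ : GrMod.LocMod 𝒜 (M := M) y) = 0) :
    ∃ n : ℕ, ∀ k, n ≤ k → ∀ m ∈ ℳ k, m = 0 := by
  classical
  obtain ⟨r, xg, dg, hxg, hspan⟩ := exists_homog_generators (A := A) ℳ n₁ hfg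
  have hJ : ∀ l, ∃ K : ℕ, (Ideal.span (T : Set A)) ^ K ≤ Ideal.torsionOf A M (xg l) := by
    intro l
    refine Ideal.exists_pow_le_of_le_radical_of_fg ?_ ⟨T, rfl⟩
    rw [Ideal.span_le]
    intro t ht
    obtain ⟨N, hN⟩ := exists_pow_smul_eq_zero 𝒜 ℳ t (hT1 t ht) (xg l) (hxg l)
      (fun y hy => hz t (hT1 t ht) (dg l) (xg l) (hxg l) y hy)
    exact ⟨N, (Ideal.mem_torsionOf_iff _ _).mpr hN⟩
  choose K hK using hJ
  refine ⟨max n₁ (Finset.univ.sup dg + Finset.univ.sup K), fun k hk m hm => ?_⟩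
  have hk1 : n₁ ≤ k := le_trans (le_max_left _ _) hk
  have hk2 : Finset.univ.sup dg + Finset.univ.sup K ≤ k := le_trans (le_max_right _ _) hk
  obtain ⟨a, ha⟩ := (Submodule.mem_span_range_iff_exists_fun A).mp (hspan k hk1 m hm)
  rw [← homog_comb 𝒜 ℳ xg dg hxg a m hm ha]
  refine Finset.sum_eq_zero fun l _ => ?_
  have hdl : dg l ≤ Finset.univ.sup dg := Finset.le_sup (Finset.mem_univ l)
  have hKl : K l ≤ Finset.univ.sup K := Finset.le_sup (Finset.mem_univ l)
  rw [if_pos (by omega)]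
  have h1 : ((DirectSum.decompose 𝒜 (a l) (k - dg l) : 𝒜 (k - dg l)) : A) ∈
      (Ideal.span (T : Set A)) ^ (k - dg l) :=
    mem_pow_of_mem_deg 𝒜 hgen _ hT _ _ (SetLike.coe_mem _)
  have h2 : (Ideal.span (T : Set A)) ^ (k - dg l) ≤ (Ideal.span (T : Set A)) ^ (K l) :=
    Ideal.pow_le_pow_right (by omega)
  exact (Ideal.mem_torsionOf_iff _ _).mp (hK l (h2 h1))

end ring

end Groth.Agent.Lib.Helper33.GrModTN
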