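import Mathlib.AlgebraicGeometry.IdealSheaf.Functorial
import Mathlib.AlgebraicGeometry.Limits
import Mathlib.AlgebraicGeometry.Morphisms.ClosedImmersion

set_option autoImplicit false
universe u
open CategoryTheory CategoryTheory.Limits AlgebraicGeometry TopologicalSpace
open AlgebraicGeometry.Scheme AlgebraicGeometry.Scheme.IdealSheafData

namespace Groth.Agent.Lib.Helper33.IdealSigma

variable {X A B : Scheme.{u}}

/-- `≤` of ideal sheaves can be checked after restricting along a jointly surjective family of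
open immersions. -/
theorem le_of_comap_le {ι : Type*} {A : ι → Scheme.{u}} (a : ∀ i, A i ⟶ X)
    [∀ i, IsOpenImmersion (a i)] (hcov : ∀ x : X, ∃ i, x ∈ Set.range (a i))
    {I K : X.IdealSheafData} (H : ∀ i, I.comap (a i) ≤ K.comap (a i)) : I ≤ K := by
  refine le_of_iSup_eq_top (ι := Σ i, (A i).affineOpens)
    (fun p => ⟨a p.1 ''ᵁ p.2.1, p.2.2.image_of_isOpenImmersion _⟩) ?_ ?_
  · rw [eq_top_iff]
    intro x _
    obtain ⟨i, y, rfl⟩ := hcov x
    obtain ⟨_, ⟨W, hW, rfl⟩, hyW, -⟩ :=
      (A i).isBasis_affineOpens.exists_subset_of_mem_open (Set.mem_univ y) isOpen_univ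
    exact Opens.mem_iSup.mpr ⟨⟨i, ⟨W, hW⟩⟩, ⟨y, hyW, rfl⟩⟩
  · rintro ⟨i, W⟩
    have h := H i W
    rw [ideal_comap_of_isOpenImmersion, ideal_comap_of_isOpenImmersion] at h
    refine (Ideal.comap_le_comap_iff_of_surjective _ ?_ _ _).mp h
    exact (ConcreteCategory.bijective_of_isIso ((a i).appIso W).inv).2

/-- Pulling back along an open immersion commutes with binary infima. -/
theorem comap_inf (a : A ⟶ X) [IsOpenImmersion a] (M N : X.IdealSheafData) :
    (M ⊓ N).comap a = M.comap a ⊓ N.comap a := by
  ext W : 2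
  simp only [ideal_comap_of_isOpenImmersion, ideal_inf, Pi.inf_apply, Ideal.comap_inf]

/-- `(K.map a).comap a = K` for a quasi-compact open immersion `a`. -/
theorem comap_map_self (a : A ⟶ X) [IsOpenImmersion a] [QuasiCompact a] (K : A.IdealSheafData) :
    (K.map a).comap a = K := by
  ext W : 2
  rw [ideal_comap_of_isOpenImmersion]
  have hpb : IsPullback K.subschemeι (𝟙 _) a (K.subschemeι ≫ a) := by
    have h1 : IsPullback (𝟙 A) (𝟙 A) a a := IsPullback.of_isLimit (PullbackCone.isLimitMkIdId a)
    have h2 : IsPullback K.subschemeι (𝟙 _) (𝟙 A) K.subschemeι := IsPullback.of_vert_isIso ⟨by simp⟩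
    simpa using h2.paste_horiz h1
  have := ker_ideal_of_isPullback_of_isOpenImmersion (K.subschemeι ≫ a) K.subschemeι (𝟙 _) a hpb W
  rw [ker_subschemeι] at this
  exact this.symm

/-- An open immersion with closed range is quasi-compact. -/
theorem quasiCompact_of_isClosed_range (a : A ⟶ X) [IsOpenImmersion a]
    (h : IsClosed (Set.range a)) : QuasiCompact a := by
  rw [quasiCompact_iff_isSpectralMap]
  exact (Topology.IsClosedEmbedding.mk a.isOpenEmbedding.isEmbedding h).isProperMap.isSpectralMap

/-- If `a`, `b` are open immersions with disjoint ranges and `b` has closed range, then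
`(L.map b).comap a = ⊤`. -/
theorem comap_map_of_disjoint (a : A ⟶ X) (b : B ⟶ X) [IsOpenImmersion b]
    (hb : IsClosed (Set.range b)) (hab : Disjoint (Set.range a) (Set.range b))
    (L : B.IdealSheafData) : (L.map b).comap a = ⊤ := by
  have := quasiCompact_of_isClosed_range b hb
  rw [← support_eq_bot_iff]
  ext x
  simp only [support_comap, support_map]
  constructor
  · intro hx
    exfalso
    have h1 : a x ∈ closure (b '' (L.support : Set B)) := hx
    have h2 : closure (b '' (L.support : Set B)) ⊆ Set.range b :=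
      closure_minimal (Set.image_subset_range _ _) hb
    exact Set.disjoint_left.mp hab ⟨x, rfl⟩ (h2 h1)
  · intro hx
    exact absurd hx (by simp)

section Sigma

variable {σ : Type u} (g : σ → Scheme.{u})

theorem exists_sigmaι_eq (x : (∐ g : Scheme.{u})) : ∃ i, x ∈ Set.range (Sigma.ι g i) := by
  obtain ⟨y, hy⟩ := (sigmaOpenCover g).covers x
  exact ⟨_, y, hy⟩

theorem disjoint_range_sigmaι {i j : σ} (h : i ≠ j) :
    Disjoint (Set.range (Sigma.ι g i)) (Set.range (Sigma.ι g j)) := by
  have := disjoint_opensRange_sigmaι g i j h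
  rw [Set.disjoint_left]
  rintro _ ⟨x, rfl⟩ ⟨y, hy⟩
  obtain ⟨rfl⟩ := (sigmaι_eq_iff _ _ _ _ _).mp hy.symm
  exact h rfl

/-- The complementary open of the `i`-th summand. -/
noncomputable def compl (i : σ) : (∐ g : Scheme.{u}).Opens :=
  ⨆ j : {j // j ≠ i}, (Sigma.ι g j.1).opensRange

theorem coe_compl (i : σ) : (compl g i : Set (∐ g : Scheme.{u})) = (Set.range (Sigma.ι g i))ᶜ := by
  ext x
  simp only [compl, Opens.coe_iSup, Set.mem_iUnion, Set.mem_compl_iff]
  constructor
  · rintro ⟨⟨j, hj⟩, hx⟩ hx'
    exact Set.disjoint_left.mp (disjoint_range_sigmaι g hj) hx hx'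
  · intro hx
    obtain ⟨j, hj⟩ := exists_sigmaι_eq g x
    refine ⟨⟨j, ?_⟩, hj⟩
    rintro rfl
    exact hx hj

theorem isClosed_range_sigmaι (i : σ) : IsClosed (Set.range (Sigma.ι g i)) := by
  rw [← isOpen_compl_iff, ← coe_compl]
  exact (compl g i).isOpen

theorem isClosed_compl (i : σ) : IsClosed (compl g i : Set (∐ g : Scheme.{u})) := by
  rw [coe_compl, isClosed_compl_iff]
  exact (Sigma.ι g i).isOpenEmbedding.isOpen_range

instance (i : σ) : QuasiCompact (Sigma.ι g i) :=
  quasiCompact_of_isClosed_range _ (isClosed_range_sigmaι g i)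

/-- Extension by zero of an ideal sheaf on the `i`-th summand of a coproduct. -/
noncomputable def extZero (i : σ) (K : (g i).IdealSheafData) :
    (∐ g : Scheme.{u}).IdealSheafData :=
  K.map (Sigma.ι g i) ⊓ (compl g i).ι.ker

theorem comap_extZero_self (i : σ) (K : (g i).IdealSheafData) :
    (extZero g i K).comap (Sigma.ι g i) = K := by
  rw [extZero, comap_inf, comap_map_self, ← map_bot, comap_map_of_disjoint, inf_top_eq]
  · rw [Scheme.Opens.range_ι]; exact isClosed_compl g i
  · rw [Scheme.Opens.range_ι, coe_compl]; exact disjoint_compl_right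

theorem extZero_le_map {i j : σ} (h : j ≠ i) (K : (g i).IdealSheafData)
    (L : (g j).IdealSheafData) : extZero g i K ≤ L.map (Sigma.ι g j) := by
  refine inf_le_right.trans ?_
  have hr : Set.range (Sigma.ι g j) ⊆ Set.range (compl g i).ι := by
    rw [Scheme.Opens.range_ι, coe_compl]
    exact (disjoint_range_sigmaι g h).subset_compl_right
  have ht : IsOpenImmersion.lift (compl g i).ι (Sigma.ι g j) hr ≫ (compl g i).ι = Sigma.ι g j :=
    IsOpenImmersion.lift_fac _ _ _
  rw [map, ← ht, ← Category.assoc]
  exact Hom.le_ker_comp _ _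

/-- The ideal sheaf on a coproduct with prescribed restrictions to the summands. -/
noncomputable def glue (K : ∀ i, (g i).IdealSheafData) : (∐ g : Scheme.{u}).IdealSheafData :=
  ⨆ i, extZero g i (K i)

theorem comap_glue (K : ∀ i, (g i).IdealSheafData) (i : σ) :
    (glue g K).comap (Sigma.ι g i) = K i := by
  apply le_antisymm
  · rw [← le_map_iff_comap_le]
    refine iSup_le fun j => ?_
    by_cases h : j = i
    · subst h; exact inf_le_left
    · exact extZero_le_map g (Ne.symm h) _ _
  · calc K i = (extZero g i (K i)).comap (Sigma.ι g i) := (comap_extZero_self g i (K i)).symm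
      _ ≤ _ := comap_mono _ (le_iSup (fun i => extZero g i (K i)) i)

theorem glue_le {K : ∀ i, (g i).IdealSheafData} {J : (∐ g : Scheme.{u}).IdealSheafData}
    (H : ∀ i, K i ≤ J.comap (Sigma.ι g i)) : glue g K ≤ J := by
  refine le_of_comap_le (Sigma.ι g) (exists_sigmaι_eq g) fun i => ?_
  rw [comap_glue]
  exact H i

end Sigma

end Groth.Agent.Lib.Helper33.IdealSigma
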