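import Mathlib.Analysis.InnerProductSpace.Basic
import Mathlib.Analysis.InnerProductSpace.EuclideanDist
import Mathlib.Analysis.Normed.Module.FiniteDimension
import Mathlib.Topology.Order.Lattice
import Mathlib.Topology.Algebra.Order.Archimedean
import Mathlib.Topology.Algebra.Module.FiniteDimension
import Mathlib.Order.Filter.Finite
import Mathlib.LinearAlgebra.Dual.Lemmas

set_option autoImplicit false
set_option linter.style.haveILetI false
set_option linter.unusedSectionVars false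
open Filter Topology

namespace Groth.Agent.Lib.Helper33.KempfA

variable {E : Type*} [NormedAddCommGroup E] [InnerProductSpace ℝ E]

section inf
variable (S : Finset (Module.Dual ℝ E)) (hS : S.Nonempty)

/-- minimum of a finite family of functionals -/
noncomputable def mn (v : E) : ℝ := S.inf' hS (fun f => f v)

lemma mn_le {f : Module.Dual ℝ E} (hf : f ∈ S) (v : E) : mn S hS v ≤ f v :=
  Finset.inf'_le (fun f => f v) hf

lemma le_mn_iff {a : ℝ} {v : E} : a ≤ mn S hS v ↔ ∀ f ∈ S, a ≤ f v :=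
  Finset.le_inf'_iff hS _

lemma exists_mn (v : E) : ∃ f ∈ S, mn S hS v = f v :=
  Finset.exists_mem_eq_inf' hS _

lemma mn_smul {c : ℝ} (hc : 0 ≤ c) (v : E) : mn S hS (c • v) = c * mn S hS v := by
  apply le_antisymm
  · obtain ⟨f, hf, hfv⟩ := exists_mn S hS v
    calc mn S hS (c • v) ≤ f (c • v) := mn_le S hS hf _
      _ = c * f v := by rw [map_smul, smul_eq_mul]
      _ = c * mn S hS v := by rw [hfv]
  · rw [le_mn_iff]
    intro f hf
    rw [map_smul, smul_eq_mul]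
    exact mul_le_mul_of_nonneg_left (mn_le S hS hf v) hc

lemma mn_add (v w : E) : mn S hS v + mn S hS w ≤ mn S hS (v + w) := by
  rw [le_mn_iff]
  intro f hf
  rw [map_add]
  exact add_le_add (mn_le S hS hf v) (mn_le S hS hf w)

lemma mn_neg_le (v : E) : mn S hS (-v) ≤ - mn S hS v := by
  obtain ⟨f, hf, hfv⟩ := exists_mn S hS v
  calc mn S hS (-v) ≤ f (-v) := mn_le S hS hf _
    _ = - f v := map_neg _ _
    _ = - mn S hS v := by rw [hfv]

lemma mn_zero_le : mn S hS 0 ≤ 0 := by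
  obtain ⟨f, hf⟩ := hS
  calc mn S ⟨f, hf⟩ 0 ≤ f 0 := mn_le S _ hf _
    _ = 0 := map_zero _

lemma continuous_mn [FiniteDimensional ℝ E] : Continuous (mn S hS) := by
  unfold mn
  exact Continuous.finset_inf'_apply hS (fun f _ => LinearMap.continuous_of_finiteDimensional f)

end inf

section max

variable [FiniteDimensional ℝ E] (F G : Finset (Module.Dual ℝ E)) (hF : F.Nonempty)
  (hG : G.Nonempty)

lemma normalize_facts (S : Finset (Module.Dual ℝ E)) (hS : S.Nonempty) (v : E) (hv : v ≠ 0) :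
    ‖‖v‖⁻¹ • v‖ = 1 ∧ mn S hS (‖v‖⁻¹ • v) = mn S hS v / ‖v‖ := by
  have hn : 0 < ‖v‖ := norm_pos_iff.2 hv
  refine ⟨?_, ?_⟩
  · rw [norm_smul, norm_inv, norm_norm, inv_mul_cancel₀ hn.ne']
  · rw [mn_smul S hS (inv_nonneg.2 hn.le), inv_mul_eq_div]

theorem exists_max (hpos : ∃ v, 0 ≤ mn F hF v ∧ 0 < mn G hG v) :
    ∃ u : E, ‖u‖ = 1 ∧ 0 ≤ mn F hF u ∧ 0 < mn G hG u ∧
      (∀ v : E, v ≠ 0 → 0 ≤ mn F hF v → mn G hG v / ‖v‖ ≤ mn G hG u) ∧
      (∀ v : E, v ≠ 0 → 0 ≤ mn F hF v → mn G hG v / ‖v‖ = mn G hG u → v = ‖v‖ • u) := by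
  obtain ⟨v₁, hv₁F, hv₁G⟩ := hpos
  have hv₁ : v₁ ≠ 0 := by
    rintro rfl
    exact absurd (mn_zero_le G hG) (not_le.2 hv₁G)
  set S : Set E := Metric.sphere (0 : E) 1 ∩ {v | 0 ≤ mn F hF v} with hSdef
  have hScomp : IsCompact S :=
    (isCompact_sphere (0 : E) 1).inter_right (isClosed_le continuous_const (continuous_mn F hF))
  obtain ⟨hn1, hF1⟩ := normalize_facts F hF v₁ hv₁
  obtain ⟨-, hG1⟩ := normalize_facts G hG v₁ hv₁
  have hv₁n : 0 < ‖v₁‖ := norm_pos_iff.2 hv₁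
  have hSne : S.Nonempty := ⟨‖v₁‖⁻¹ • v₁, by
    refine ⟨mem_sphere_zero_iff_norm.2 hn1, ?_⟩
    show 0 ≤ mn F hF (‖v₁‖⁻¹ • v₁)
    rw [hF1]
    exact div_nonneg hv₁F hv₁n.le⟩
  obtain ⟨u, huS, humax⟩ := hScomp.exists_isMaxOn hSne (continuous_mn G hG).continuousOn
  have hu1 : ‖u‖ = 1 := mem_sphere_zero_iff_norm.1 huS.1
  have huF : 0 ≤ mn F hF u := huS.2
  have hmaxS : ∀ v ∈ S, mn G hG v ≤ mn G hG u := fun v hv => humax hv
  have huG : 0 < mn G hG u := by
    have h1 : mn G hG (‖v₁‖⁻¹ • v₁) ≤ mn G hG u := hmaxS _ hSne.some_mem |> fun _ => hmaxS _ (by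
      refine ⟨mem_sphere_zero_iff_norm.2 hn1, ?_⟩
      show 0 ≤ mn F hF (‖v₁‖⁻¹ • v₁)
      rw [hF1]
      exact div_nonneg hv₁F hv₁n.le)
    rw [hG1] at h1
    exact lt_of_lt_of_le (div_pos hv₁G hv₁n) h1
  have hmax : ∀ v : E, v ≠ 0 → 0 ≤ mn F hF v → mn G hG v / ‖v‖ ≤ mn G hG u := by
    intro v hv hvF
    obtain ⟨hn, hFv⟩ := normalize_facts F hF v hv
    obtain ⟨-, hGv⟩ := normalize_facts G hG v hv
    rw [← hGv]
    refine hmaxS _ ⟨mem_sphere_zero_iff_norm.2 hn, ?_⟩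
    show 0 ≤ mn F hF (‖v‖⁻¹ • v)
    rw [hFv]
    exact div_nonneg hvF (norm_nonneg _)
  refine ⟨u, hu1, huF, huG, hmax, ?_⟩
  intro v hv hvF hvM
  have hvn : 0 < ‖v‖ := norm_pos_iff.2 hv
  obtain ⟨hn, hFv⟩ := normalize_facts F hF v hv
  obtain ⟨-, hGv⟩ := normalize_facts G hG v hv
  set v' := ‖v‖⁻¹ • v with hv'def
  have hv'F : 0 ≤ mn F hF v' := by
    rw [hFv]
    exact div_nonneg hvF hvn.le
  have hv'G : mn G hG v' = mn G hG u := by rw [hGv, hvM]
  -- the sum
  have hmF : 0 ≤ mn F hF (u + v') := (add_nonneg huF hv'F).trans (mn_add F hF u v')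
  have hmG : 2 * mn G hG u ≤ mn G hG (u + v') := by
    have := mn_add G hG u v'
    rw [hv'G] at this
    linarith
  have hm0 : u + v' ≠ 0 := by
    intro h0
    rw [h0] at hmG
    have := mn_zero_le G hG
    linarith
  have hmn : 0 < ‖u + v'‖ := norm_pos_iff.2 hm0
  have h2 : 2 ≤ ‖u + v'‖ := by
    have h3 := hmax (u + v') hm0 hmF
    rw [div_le_iff₀ hmn] at h3
    have h4 : 2 * mn G hG u ≤ mn G hG u * ‖u + v'‖ := hmG.trans h3
    have h5 : mn G hG u * 2 ≤ mn G hG u * ‖u + v'‖ := by linarith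
    exact le_of_mul_le_mul_left h5 huG
  have hsq : (4 : ℝ) ≤ ‖u + v'‖ ^ 2 := by nlinarith
  have e1 := norm_add_sq_real u v'
  have e2 := norm_sub_sq_real u v'
  rw [hu1, hn] at e1 e2
  have h6 : ‖u - v'‖ ^ 2 ≤ 0 := by nlinarith
  have h7 : ‖u - v'‖ = 0 := by
    have := sq_nonneg ‖u - v'‖
    have h8 : ‖u - v'‖ ^ 2 = 0 := le_antisymm h6 this
    exact pow_eq_zero_iff (two_ne_zero) |>.1 h8
  have h9 : u = v' := sub_eq_zero.1 (norm_eq_zero.1 h7)
  rw [h9, hv'def, smul_smul, mul_inv_cancel₀ hvn.ne', one_smul]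

end max

section firstorder

lemma lin_coeff_zero (a b : ℝ) (h : ∀ᶠ t in 𝓝 (0 : ℝ), 0 ≤ a * t + b * t ^ 2) : a = 0 := by
  by_contra ha
  obtain ⟨ε, hε, hball⟩ := Metric.eventually_nhds_iff.1 h
  have habs : 0 < |a| := abs_pos.2 ha
  have hden : 0 < 2 * (|b| + 1) := by positivity
  set s := min (ε / 2) (|a| / (2 * (|b| + 1))) with hsdef
  have hs : 0 < s := lt_min (half_pos hε) (div_pos habs hden)
  have hsε : s < ε := (min_le_left _ _).trans_lt (half_lt_self hε)
  have hsb : s * (2 * (|b| + 1)) ≤ |a| := by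
    rw [← le_div_iff₀ hden]
    exact min_le_right _ _
  have hexp : s * (2 * (|b| + 1)) = 2 * (|b| * s) + 2 * s := by ring
  have hbs : 0 ≤ |b| * s := mul_nonneg (abs_nonneg b) hs.le
  have hb : ∀ t : ℝ, b * t ^ 2 ≤ |b| * t ^ 2 := fun t =>
    mul_le_mul_of_nonneg_right (le_abs_self b) (sq_nonneg t)
  rcases lt_or_gt_of_ne ha with hneg | hpos
  · have h0 := hball (y := s) (by rw [Real.dist_eq, sub_zero, abs_of_pos hs]; exact hsε)
    have h1 : 0 ≤ s * (a + |b| * s) := by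
      have : s * (a + |b| * s) = a * s + |b| * s ^ 2 := by ring
      rw [this]
      linarith [hb s]
    have h2 : 0 ≤ a + |b| * s := (mul_nonneg_iff_of_pos_left hs).1 h1
    rw [abs_of_neg hneg] at hsb
    linarith
  · have h0 := hball (y := -s) (by
      rw [Real.dist_eq, sub_zero, abs_neg, abs_of_pos hs]; exact hsε)
    have h1 : 0 ≤ s * (-a + |b| * s) := by
      have : s * (-a + |b| * s) = a * (-s) + |b| * (-s) ^ 2 := by ring
      rw [this]
      linarith [hb (-s)]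
    have h2 : 0 ≤ -a + |b| * s := (mul_nonneg_iff_of_pos_left hs).1 h1
    rw [abs_of_pos hpos] at hsb
    linarith

variable [FiniteDimensional ℝ E] (F G : Finset (Module.Dual ℝ E)) (hF : F.Nonempty)
  (hG : G.Nonempty)

theorem first_order (u : E) (hu1 : ‖u‖ = 1) (hfu : 0 ≤ mn F hF u) (hM : 0 < mn G hG u)
    (hmax : ∀ v : E, v ≠ 0 → 0 ≤ mn F hF v → mn G hG v / ‖v‖ ≤ mn G hG u)
    (g₀ : Module.Dual ℝ E) (hg₀ : g₀ ∈ G) (hg₀u : g₀ u = mn G hG u)
    (w : E) (hwF : ∀ f ∈ F, f u = 0 → f w = 0)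
    (hwG : ∀ g ∈ G, g u = mn G hG u → g w = g₀ w) :
    g₀ w = mn G hG u * inner ℝ u w := by
  set M := mn G hG u with hMdef
  set c := g₀ w with hcdef
  set p : ℝ := inner ℝ u w with hpdef
  have e1 : ∀ᶠ t in 𝓝 (0 : ℝ), ∀ f ∈ F, 0 ≤ f (u + t • w) := by
    rw [eventually_all_finset]
    intro f hf
    by_cases hfu0 : f u = 0
    · refine Eventually.of_forall fun t => ?_
      rw [map_add, map_smul, hfu0, hwF f hf hfu0, smul_zero, add_zero]
    · have hfpos : 0 < f u := lt_of_le_of_ne (hfu.trans (mn_le F hF hf u)) (Ne.symm hfu0)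
      have hc : Continuous fun t : ℝ => f u + t * f w := by continuity
      have hev := (hc.tendsto 0).eventually (lt_mem_nhds (show (0 : ℝ) < f u + 0 * f w by
        rw [zero_mul, add_zero]; exact hfpos))
      refine hev.mono fun t ht => ?_
      rw [map_add, map_smul, smul_eq_mul]
      exact ht.le
  have e2 : ∀ᶠ t in 𝓝 (0 : ℝ), ∀ g ∈ G, g₀ (u + t • w) ≤ g (u + t • w) := by
    rw [eventually_all_finset]
    intro g hg
    by_cases hgu : g u = M
    · refine Eventually.of_forall fun t => ?_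
      rw [map_add, map_smul, map_add, map_smul, hgu, hwG g hg hgu, hg₀u]
    · have hgpos : 0 < g u - M := by
        have := mn_le G hG hg u
        exact sub_pos.2 (lt_of_le_of_ne this (Ne.symm hgu))
      have hc : Continuous fun t : ℝ => (g u - M) + t * (g w - c) := by continuity
      have hev := (hc.tendsto 0).eventually (lt_mem_nhds
        (show (0 : ℝ) < (g u - M) + 0 * (g w - c) by rw [zero_mul, add_zero]; exact hgpos))
      refine hev.mono fun t ht => ?_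
      rw [map_add, map_smul, map_add, map_smul, smul_eq_mul, smul_eq_mul, hg₀u]
      linarith
  have e3 : ∀ᶠ t in 𝓝 (0 : ℝ), 0 < M + t * c := by
    have hc : Continuous fun t : ℝ => M + t * c := by continuity
    exact (hc.tendsto 0).eventually (lt_mem_nhds
      (show (0 : ℝ) < M + 0 * c by rw [zero_mul, add_zero]; exact hM))
  have key : ∀ᶠ t in 𝓝 (0 : ℝ),
      0 ≤ (2 * M * (M * p - c)) * t + (M ^ 2 * ‖w‖ ^ 2 - c ^ 2) * t ^ 2 := by
    filter_upwards [e1, e2, e3] with t h1 h2 h3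
    set v := u + t • w with hvdef
    have hvF : 0 ≤ mn F hF v := (le_mn_iff F hF).2 h1
    have hg₀v : g₀ v = M + t * c := by
      rw [hvdef, map_add, map_smul, smul_eq_mul, hg₀u]
    have hvG : mn G hG v = M + t * c := by
      rw [← hg₀v]
      exact le_antisymm (mn_le G hG hg₀ v) ((le_mn_iff G hG).2 h2)
    have hv0 : v ≠ 0 := by
      intro h0
      have := mn_zero_le G hG
      rw [h0] at hvG
      linarith
    have hvn : 0 < ‖v‖ := norm_pos_iff.2 hv0
    have h4 := hmax v hv0 hvF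
    rw [hvG, div_le_iff₀ hvn] at h4
    have h5 : (M + t * c) ^ 2 ≤ (M * ‖v‖) ^ 2 := pow_le_pow_left₀ h3.le h4 2
    have h6 : ‖v‖ ^ 2 = 1 + 2 * t * p + t ^ 2 * ‖w‖ ^ 2 := by
      rw [hvdef, norm_add_sq_real, hu1, inner_smul_right, norm_smul, mul_pow, Real.norm_eq_abs,
        sq_abs]
      ring
    have h7 : (M * ‖v‖) ^ 2 = M ^ 2 * (1 + 2 * t * p + t ^ 2 * ‖w‖ ^ 2) := by
      rw [mul_pow, h6]
    rw [h7] at h5
    nlinarith
  have h8 := lin_coeff_zero _ _ key
  have h9 : M * p - c = 0 := by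
    rcases mul_eq_zero.1 h8 with h | h
    · exact absurd h (by positivity)
    · exact h
  linarith

end firstorder

section generator

theorem exists_generator (L : Submodule ℤ E) [DiscreteTopology L] (u : E) (hu : ‖u‖ = 1)
    (h : ∃ t : ℝ, 0 < t ∧ t • u ∈ L) :
    ∃ a : ℝ, 0 < a ∧ a • u ∈ L ∧ ∀ t : ℝ, t • u ∈ L → ∃ n : ℤ, t = n • a := by
  obtain ⟨t₁, ht₁, ht₁L⟩ := h
  let H : AddSubgroup ℝ :=
    { carrier := {t | t • u ∈ L}
      zero_mem' := by simp
      add_mem' := by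
        intro a b ha hb
        simp only [Set.mem_ofPred_eq, add_smul] at *
        exact L.add_mem ha hb
      neg_mem' := by
        intro a ha
        simp only [Set.mem_ofPred_eq, neg_smul] at *
        exact L.neg_mem ha }
  have hHmem : ∀ t : ℝ, t ∈ H ↔ t • u ∈ L := fun t => Iff.rfl
  -- discreteness
  have hopen : IsOpen ({0} : Set L) := isOpen_discrete _
  obtain ⟨U, hUo, hU⟩ := isOpen_induced_iff.1 hopen
  have h0U : (0 : E) ∈ U := by
    have : (0 : L) ∈ Subtype.val ⁻¹' U := by rw [hU]; rfl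
    exact this
  obtain ⟨ε, hε, hball⟩ := Metric.isOpen_iff.1 hUo 0 h0U
  have hsmall : ∀ x ∈ L, ‖x‖ < ε → x = 0 := by
    intro x hx hxε
    have h1 : (⟨x, hx⟩ : L) ∈ Subtype.val ⁻¹' U := hball (by
      rw [Metric.mem_ball, dist_zero_right]; exact hxε)
    rw [hU] at h1
    exact congrArg Subtype.val (Set.mem_singleton_iff.1 h1)
  rcases H.dense_or_cyclic with hd | ⟨a, ha⟩
  · exfalso
    obtain ⟨t, htH, htI⟩ := hd.exists_mem_open isOpen_Ioo (⟨ε / 2, half_pos hε, half_lt_self hε⟩ :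
      (Set.Ioo (0 : ℝ) ε).Nonempty)
    have h1 : t • u ∈ L := (hHmem t).1 htH
    have h2 : ‖t • u‖ < ε := by
      rw [norm_smul, hu, mul_one, Real.norm_eq_abs, abs_of_pos htI.1]
      exact htI.2
    have h3 := hsmall _ h1 h2
    have h4 : ‖t • u‖ = 0 := by rw [h3, norm_zero]
    rw [norm_smul, hu, mul_one, Real.norm_eq_abs, abs_of_pos htI.1] at h4
    exact htI.1.ne' h4
  · have haH : a ∈ H := by rw [ha]; exact AddSubgroup.mem_closure_singleton_self a
    have hmem : ∀ t : ℝ, t • u ∈ L → ∃ n : ℤ, n • a = t := by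
      intro t ht
      have : t ∈ H := (hHmem t).2 ht
      rw [ha] at this
      exact AddSubgroup.mem_closure_singleton.1 this
    have ha0 : a ≠ 0 := by
      rintro rfl
      obtain ⟨n, hn⟩ := hmem t₁ ht₁L
      rw [smul_zero] at hn
      exact ht₁.ne hn
    rcases lt_or_gt_of_ne ha0 with hneg | hpos
    · refine ⟨-a, neg_pos.2 hneg, ?_, ?_⟩
      · rw [neg_smul]
        exact L.neg_mem ((hHmem a).1 haH)
      · intro t ht
        obtain ⟨n, hn⟩ := hmem t ht
        exact ⟨-n, by rw [← hn, neg_smul, smul_neg, neg_neg]⟩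
    · refine ⟨a, hpos, (hHmem a).1 haH, ?_⟩
      intro t ht
      obtain ⟨n, hn⟩ := hmem t ht
      exact ⟨n, hn.symm⟩

end generator

end Groth.Agent.Lib.Helper33.KempfA
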