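import Groth.Prelude.Def_Lef
import Groth.Agent.Lib.Helper58.SchemeIdem

/-!
# Sections of `O_W ⟶ M`, `ClSub.toSubscheme` / `Lef.quotMap` on global sections, and the
connectedness consequences of `Lef.HomToFormalBijective` for `D = O_W` (helper33).
-/

set_option autoImplicit false
universe u
open CategoryTheory CategoryTheory.Limits AlgebraicGeometry
open Lef

namespace Groth.Agent.Lib.Helper33.LefSec
open Opposite Groth.Agent.Lib.Helper58

variable {W : Scheme.{u}}

noncomputable def sectionsTopEquiv (M : W.Modules) : M.sections ≃ M.presheaf.obj (op ⊤) where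
  toFun s := s.val (op ⊤)
  invFun a := ⟨fun U => (M.presheaf.map (homOfLE (le_top : U.unop ≤ ⊤)).op).hom a, by
    intro U V i
    change (M.presheaf.map i).hom ((M.presheaf.map (homOfLE (le_top : U.unop ≤ ⊤)).op).hom a) = _
    rw [← AddCommGrpCat.comp_apply, ← M.presheaf.map_comp]
    rfl⟩
  left_inv s := by
    apply Subtype.ext
    funext U
    exact s.property (homOfLE (le_top : U.unop ≤ ⊤)).op
  right_inv a := by
    change (M.presheaf.map (homOfLE (le_top : (⊤ : W.Opens) ≤ ⊤)).op).hom a = a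
    have : (homOfLE (le_top : (⊤ : W.Opens) ≤ ⊤)).op = 𝟙 _ := rfl
    rw [this, M.presheaf.map_id]
    rfl

noncomputable def secHom (M : W.Modules) (s : Γ(M, ⊤)) : Coh.structureModule W ⟶ M :=
  M.unitHomEquiv.symm ((sectionsTopEquiv M).symm s)

theorem secHom_app_top_one (M : W.Modules) (s : Γ(M, ⊤)) :
    ((secHom M s).app ⊤).hom (1 : Γ(W, ⊤)) = s := by
  have h := SheafOfModules.unitHomEquiv_apply_coe M (secHom M s) (op ⊤)
  rw [secHom, Equiv.apply_symm_apply] at h
  exact h.symm.trans ((sectionsTopEquiv M).apply_symm_apply s)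

theorem hom_ext_top {M : W.Modules} (α β : Coh.structureModule W ⟶ M)
    (h : (α.app ⊤).hom (1 : Γ(W, ⊤)) = (β.app ⊤).hom (1 : Γ(W, ⊤))) : α = β := by
  apply M.unitHomEquiv.injective
  apply (sectionsTopEquiv M).injective
  exact h

/-- value of `toSubscheme` on global sections -/
theorem toSubscheme_app_top (𝓚 : W.IdealSheafData) (r : Γ(W, ⊤)) :
    ((ClSub.toSubscheme 𝓚).app ⊤).hom r = 𝓚.subschemeι.appTop.hom r := rfl

theorem secHom_toSubscheme (𝓚 : W.IdealSheafData) (r : Γ(W, ⊤)) :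
    ((secHom (Coh.structureModule W) r ≫ ClSub.toSubscheme 𝓚).app ⊤).hom (1 : Γ(W, ⊤)) =
      𝓚.subschemeι.appTop.hom r := by
  have h1 := secHom_app_top_one (Coh.structureModule W) r
  exact congrArg ((ClSub.toSubscheme 𝓚).app ⊤).hom h1

theorem map_eqToHom_apply {V : Scheme.{u}} (M : V.Modules) (A : V.Opens) (p : A = A)
    (y : Γ(M, A)) : (M.presheaf.map (eqToHom p).op).hom y = y := by
  have : (eqToHom p).op = 𝟙 (op A) := rfl
  rw [this, M.presheaf.map_id]
  rfl

theorem quotMap_app_top {I J : W.IdealSheafData} (h : I ≤ J) (x : Γ(I.subscheme, ⊤)) :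
    ((Lef.quotMap h).app ⊤).hom x = (Scheme.IdealSheafData.inclusion h).appTop.hom x := by
  have e1 : ((Lef.quotMap h).app ⊤).hom x =
      ((Coh.structureModule J.subscheme).presheaf.map
        (eqToHom (show (Scheme.IdealSheafData.inclusion h ≫ I.subschemeι) ⁻¹ᵁ ⊤ =
          J.subschemeι ⁻¹ᵁ ⊤ from rfl)).op).hom
        ((Scheme.IdealSheafData.inclusion h).appTop.hom x) := rfl
  exact e1.trans (map_eqToHom_apply _ _ _ _)

theorem secHom_quotMap {I J : W.IdealSheafData} (h : I ≤ J) (a : Γ(I.subscheme, ⊤)) :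
    secHom (ClSub.quotMod I) a ≫ Lef.quotMap h =
      secHom (ClSub.quotMod J) ((Scheme.IdealSheafData.inclusion h).appTop.hom a) := by
  apply hom_ext_top
  have h1 : ((secHom (ClSub.quotMod I) a).app ⊤).hom (1 : Γ(W, ⊤)) = a :=
    secHom_app_top_one _ _
  have h2 := secHom_app_top_one (ClSub.quotMod J)
    ((Scheme.IdealSheafData.inclusion h).appTop.hom a)
  exact ((congrArg ((Lef.quotMap h).app ⊤).hom h1).trans (quotMap_app_top h a)).trans h2.symm

theorem basicOpen_appTop_coe {A B : Scheme.{u}} (f : A ⟶ B) (e : Γ(B, ⊤)) :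
    (A.basicOpen (f.appTop.hom e) : Set A) = f ⁻¹' (B.basicOpen e : Set B) := by
  have h := Scheme.preimage_basicOpen_top f e
  have h2 := congrArg (fun U : A.Opens => (U : Set A)) h
  exact h2.symm

theorem range_pow (𝓙 : W.IdealSheafData) (n : ℕ) :
    Set.range (𝓙 ^ (n + 1)).subschemeι = (𝓙.support : Set W) := by
  rw [Scheme.IdealSheafData.range_subschemeι, Scheme.IdealSheafData.support_pow_succ]

theorem eq_of_secHom_eq {r r' : Γ(W, ⊤)}
    (h0 : secHom (Coh.structureModule W) r = secHom (Coh.structureModule W) r') : r = r' :=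
  (secHom_app_top_one (Coh.structureModule W) r).symm.trans
    ((congrArg (fun φ : Coh.structureModule W ⟶ Coh.structureModule W =>
      (φ.app ⊤).hom (1 : Γ(W, ⊤))) h0).trans (secHom_app_top_one (Coh.structureModule W) r'))

theorem secHom_eq_of_forall (𝓙 : W.IdealSheafData)
    (HB : Lef.HomToFormalBijective 𝓙 (Coh.structureModule W)) {r r' : Γ(W, ⊤)}
    (hr : ∀ n : ℕ, (𝓙 ^ (n + 1)).subschemeι.appTop.hom r = (𝓙 ^ (n + 1)).subschemeι.appTop.hom r') :
    r = r' := by
  apply eq_of_secHom_eq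
  refine HB.1 _ _ (fun n => hom_ext_top _ _ ?_)
  exact (secHom_toSubscheme _ r).trans ((hr n).trans (secHom_toSubscheme _ r').symm)

theorem connectedSpace_of_support (𝓙 : W.IdealSheafData)
    (HB : Lef.HomToFormalBijective 𝓙 (Coh.structureModule W))
    (hY : _root_.IsConnected (𝓙.support : Set W)) : ConnectedSpace W := by
  have key : ∀ Z : Set W, IsClopen Z → Disjoint Z (𝓙.support : Set W) → Z = ∅ := by
    intro Z hZ hdisj
    obtain ⟨e, he, heZ⟩ := SchemeIdem.exists_idem_basicOpen_eq Z hZ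
    have e0 : e = 0 := by
      refine secHom_eq_of_forall 𝓙 HB (fun n => ?_)
      rw [map_zero]
      refine SchemeIdem.eq_zero_of_basicOpen_eq_bot _ (he.map _) ?_
      apply TopologicalSpace.Opens.ext
      rw [basicOpen_appTop_coe, heZ, TopologicalSpace.Opens.coe_bot, Set.eq_empty_iff_forall_notMem]
      intro v hv
      exact Set.disjoint_left.mp hdisj hv (range_pow 𝓙 n ▸ ⟨v, rfl⟩)
    rw [← heZ, e0, Scheme.basicOpen_zero]
    rfl
  obtain ⟨y, hy⟩ := hY.nonempty
  rw [connectedSpace_iff_clopen]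
  refine ⟨⟨y⟩, fun Z hZ => ?_⟩
  by_cases hne : ((𝓙.support : Set W) ∩ Z).Nonempty
  · right
    have hsub := hY.isPreconnected.subset_isClopen hZ hne
    have := key Zᶜ hZ.compl (Set.disjoint_left.mpr fun z hz hzY => hz (hsub hzY))
    exact Set.compl_empty_iff.mp this
  · left
    exact key Z hZ (Set.disjoint_left.mpr fun z hz hzY => hne ⟨z, hzY, hz⟩)

theorem isConnected_support (𝓙 : W.IdealSheafData)
    (HB : Lef.HomToFormalBijective 𝓙 (Coh.structureModule W)) [ConnectedSpace W] :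
    _root_.IsConnected (𝓙.support : Set W) := by
  have hne : (𝓙.support : Set W).Nonempty := by
    by_contra hemp
    rw [Set.not_nonempty_iff_eq_empty] at hemp
    have h10 : (1 : Γ(W, ⊤)) = 0 := by
      refine secHom_eq_of_forall 𝓙 HB (fun n => ?_)
      have hV : IsEmpty ↥((𝓙 ^ (n + 1)).subscheme) := ⟨fun v => by
        have hv : (𝓙 ^ (n + 1)).subschemeι v ∈ (𝓙.support : Set W) := range_pow 𝓙 n ▸ ⟨v, rfl⟩
        rw [hemp] at hv
        exact hv⟩
      have : Subsingleton Γ((𝓙 ^ (n + 1)).subscheme, ⊤) :=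
        SchemeIdem.subsingleton_of_eq_bot (by ext v; exact (hV.false v).elim)
      exact Subsingleton.elim _ _
    obtain ⟨w⟩ := (inferInstance : Nonempty W)
    have hb : W.basicOpen (1 : Γ(W, ⊤)) = ⊤ := Scheme.basicOpen_one W
    rw [h10, Scheme.basicOpen_zero] at hb
    have hw : w ∈ (⊥ : W.Opens) := hb ▸ trivial
    exact hw
  refine ⟨hne, ?_⟩
  rw [isPreconnected_closed_iff]
  intro t t' ht ht' hcov hA hB
  by_contra hAB
  have hsplit : ∀ w ∈ (𝓙.support : Set W), (w ∈ t ↔ w ∉ t') := by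
    intro w hw
    constructor
    · intro h1 h2; exact hAB ⟨w, hw, h1, h2⟩
    · intro h2; exact (hcov hw).resolve_right h2
  have hC : ∀ n : ℕ, IsClopen ((𝓙 ^ (n + 1)).subschemeι ⁻¹' t) := by
    intro n
    refine ⟨ht.preimage (𝓙 ^ (n + 1)).subschemeι.continuous, ?_⟩
    have : (𝓙 ^ (n + 1)).subschemeι ⁻¹' t = ((𝓙 ^ (n + 1)).subschemeι ⁻¹' t')ᶜ := by
      ext v
      simp only [Set.mem_preimage, Set.mem_compl_iff]
      exact hsplit _ (range_pow 𝓙 n ▸ ⟨v, rfl⟩)
    rw [this]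
    exact (ht'.preimage (𝓙 ^ (n + 1)).subschemeι.continuous).isOpen_compl
  choose e he heC using fun n => SchemeIdem.exists_idem_basicOpen_eq _ (hC n)
  have hcompat : ∀ n : ℕ,
      (Scheme.IdealSheafData.inclusion (Lef.pow_succ_le 𝓙 n)).appTop.hom (e (n + 1)) = e n := by
    intro n
    refine SchemeIdem.eq_of_basicOpen_eq ((he (n + 1)).map _) (he n) ?_
    apply TopologicalSpace.Opens.ext
    rw [basicOpen_appTop_coe, heC, heC, ← Set.preimage_comp]
    congr 1
    funext v
    have := Scheme.IdealSheafData.inclusion_subschemeι (Lef.pow_succ_le 𝓙 n)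
    rw [Function.comp_apply, ← Scheme.Hom.comp_apply]
    exact congrArg (fun g => g v) (congrArg (fun g : _ ⟶ W => (g : _ → W)) this)
  let y : ∀ n : ℕ, Coh.structureModule W ⟶ ClSub.quotMod (𝓙 ^ (n + 1)) :=
    fun n => secHom _ (e n)
  have hy : Lef.IsFormalHom 𝓙 (Coh.structureModule W) y := by
    intro n
    exact (secHom_quotMap (Lef.pow_succ_le 𝓙 n) (e (n + 1))).trans
      (congrArg (secHom (ClSub.quotMod (𝓙 ^ (n + 1)))) (hcompat n))
  obtain ⟨φ, hφ⟩ := HB.2 y hy
  let r : Γ(W, ⊤) := (φ.app ⊤).hom (1 : Γ(W, ⊤))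
  have hr : ∀ n, (𝓙 ^ (n + 1)).subschemeι.appTop.hom r = e n := by
    intro n
    have h1 : ((φ ≫ ClSub.toSubscheme (𝓙 ^ (n + 1))).app ⊤).hom (1 : Γ(W, ⊤)) =
        ((y n).app ⊤).hom (1 : Γ(W, ⊤)) := by rw [hφ n]
    exact h1.trans (secHom_app_top_one _ _)
  have hidem : IsIdempotentElem r := by
    refine secHom_eq_of_forall 𝓙 HB (fun n => ?_)
    rw [map_mul, hr n]
    exact he n
  have hcl := SchemeIdem.isClopen_basicOpen r hidem
  rcases isClopen_iff.mp hcl with h0 | h1
  · have hr0 : r = 0 := SchemeIdem.eq_zero_of_basicOpen_eq_bot r hidem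
      (TopologicalSpace.Opens.ext (by rw [h0]; rfl))
    obtain ⟨a, haY, hat⟩ := hA
    obtain ⟨v, rfl⟩ : a ∈ Set.range (𝓙 ^ (0 + 1)).subschemeι := (range_pow 𝓙 0).symm ▸ haY
    have hv : v ∈ ((𝓙 ^ (0 + 1)).subscheme.basicOpen (e 0) : Set _) := by rw [heC]; exact hat
    have he0 : e 0 = 0 := by rw [← hr 0, hr0, map_zero]
    rw [he0, Scheme.basicOpen_zero] at hv
    exact hv
  · have hr1 : r = 1 := SchemeIdem.eq_of_basicOpen_eq hidem IsIdempotentElem.one
      (by rw [Scheme.basicOpen_one]; exact TopologicalSpace.Opens.ext (by rw [h1]; rfl))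
    obtain ⟨b, hbY, hbt'⟩ := hB
    obtain ⟨v, rfl⟩ : b ∈ Set.range (𝓙 ^ (0 + 1)).subschemeι := (range_pow 𝓙 0).symm ▸ hbY
    have he1 : e 0 = 1 := by rw [← hr 0, hr1, map_one]
    have hv : v ∈ ((𝓙 ^ (0 + 1)).subscheme.basicOpen (e 0) : Set _) := by
      rw [he1, Scheme.basicOpen_one]; trivial
    rw [heC] at hv
    exact hAB ⟨_, hbY, hv, hbt'⟩

theorem isFinLocFree_structureModule (W : Scheme.{u}) :
    FlatMod.IsFinLocFree (Coh.structureModule W) := by
  intro x
  refine ⟨⊤, 1, trivial, ⟨?_⟩⟩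
  exact (Scheme.Modules.restrictUnitIso _) ≪≫
    (coproductUniqueIso (fun _ : Fin 1 => Coh.structureModule _)).symm



end Groth.Agent.Lib.Helper33.LefSec
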