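import Groth.Agent.Lib.Helper33.ZetaArithDir

set_option autoImplicit false
set_option linter.style.haveILetI false
universe u
open CategoryTheory AlgebraicGeometry

namespace Groth.Agent.Lib.Helper33.MassL2

/-- L2 of S19566 (msg 3496): a quasi-compact scheme locally of finite type over a finite field
has finitely many rational points. -/
theorem finite_pts {F : Type u} [Field F] [Finite F] (X : Over (Spec (CommRingCat.of F)))
    [LocallyOfFiniteType X.hom] [QuasiCompact X.hom] :
    Finite (Over.mk (𝟙 (Spec (CommRingCat.of F))) ⟶ X) := by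
  let φ : ULift.{u} ℤ →+* F :=
    (Int.castRingHom F).comp (ULift.ringEquiv : ULift.{u} ℤ ≃+* ℤ).toRingHom
  haveI h1 : LocallyOfFiniteType (Spec.map (CommRingCat.ofHom φ)) := by
    rw [HasRingHomProperty.Spec_iff (P := @LocallyOfFiniteType)]
    show φ.FiniteType
    apply RingHom.FiniteType.of_finite
    letI := φ.toAlgebra
    have hfin : (algebraMap (ULift.{u} ℤ) F).Finite :=
      RingHom.finite_algebraMap.2
        (@Module.Finite.of_finite (ULift.{u} ℤ) F _ _ Algebra.toModule _)
    exact hfin
  haveI h2 : QuasiCompact (Spec.map (CommRingCat.ofHom φ)) := inferInstance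
  haveI h3 : Finite (Spec (CommRingCat.of F) ⟶ X.left) :=
    Groth.Agent.Lib.Helper33.ZetaArithDir.finite_hom
      (X.hom ≫ Spec.map (CommRingCat.ofHom φ)) F
  exact @Finite.of_injective _ (Spec (CommRingCat.of F) ⟶ X.left) h3
    (fun m : Over.mk (𝟙 (Spec (CommRingCat.of F))) ⟶ X => m.left)
    (fun m m' h => Over.OverMorphism.ext h)

end Groth.Agent.Lib.Helper33.MassL2
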