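import Groth.Agent.Lib.Helper53.OverSite

universe u

open CategoryTheory Opposite Limits Functor

namespace Groth.Agent.Lib.Helper33.OverMapInj

open Groth.Agent.Lib.Helper53

variable {C : Type u} [SmallCategory C] {X Y : C} (f : X ⟶ Y)

/-- the terminal objects of the components of the costructured arrows of `(Over.map f).op` -/
def tObj (V : Over Y) (φ : {φ : V.left ⟶ X // φ ≫ f = V.hom}) :
    CostructuredArrow (Over.map f).op (op V) :=
  CostructuredArrow.mk (S := (Over.map f).op) (Y := op (Over.mk φ.1))
    ((Over.homMk (U := V) (V := (Over.map f).obj (Over.mk φ.1)) (𝟙 _) (by simp [φ.2])).op)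

lemma aux_w (V : Over Y) (a : CostructuredArrow (Over.map f).op (op V)) :
    (a.hom.unop.left ≫ a.left.unop.hom) ≫ f = V.hom := by
  have := Over.w a.hom.unop
  simpa using this

/-- the canonical arrow to the terminal object of the component -/
def toT (V : Over Y) (a : CostructuredArrow (Over.map f).op (op V)) :
    a ⟶ tObj f V ⟨a.hom.unop.left ≫ a.left.unop.hom, aux_w f V a⟩ :=
  CostructuredArrow.homMk (Over.homMk (U := Over.mk (a.hom.unop.left ≫ a.left.unop.hom))
    (V := a.left.unop) a.hom.unop.left rfl).op (by
      apply Quiver.Hom.unop_inj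
      apply Over.OverMorphism.ext
      simp [tObj])

lemma sigma_eq (V : Over Y) (a : CostructuredArrow (Over.map f).op (op V))
    (p : Σ φ : {φ : V.left ⟶ X // φ ≫ f = V.hom}, a ⟶ tObj f V φ) :
    p = ⟨⟨a.hom.unop.left ≫ a.left.unop.hom, aux_w f V a⟩, toT f V a⟩ := by
  rcases p with ⟨⟨ψ, hψ⟩, m⟩
  have h1 : m.left.unop.left = a.hom.unop.left := by
    have := CostructuredArrow.w m
    have h2 := congrArg Quiver.Hom.unop this
    have h4 := congrArg CommaMorphism.left h2
    simp [tObj] at h4
    exact h4
  have h3 : ψ = a.hom.unop.left ≫ a.left.unop.hom := by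
    have := Over.w m.left.unop
    rw [h1] at this
    exact this.symm
  subst h3
  congr 1
  apply CostructuredArrow.hom_ext
  apply Quiver.Hom.unop_inj
  apply Over.OverMorphism.ext
  exact h1

/-- uniqueness of the arrow to the terminal objects -/
@[instance_reducible]
def uniqT (V : Over Y) (a : CostructuredArrow (Over.map f).op (op V)) :
    Unique (Σ φ : {φ : V.left ⟶ X // φ ≫ f = V.hom}, a ⟶ tObj f V φ) where
  default := ⟨_, toT f V a⟩
  uniq p := sigma_eq f V a p

/-- left Kan extension along `Over.map f` on presheaves preserves monomorphisms -/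
instance lan_overMap_preservesMonomorphisms :
    ((Over.map f).op.lan : ((Over X)ᵒᵖ ⥤ AddCommGrpCat.{u}) ⥤
      ((Over Y)ᵒᵖ ⥤ AddCommGrpCat.{u})).PreservesMonomorphisms where
  preserves φ _ := LanMono.lan_map_mono_of_terminals.{u} (Over.map f).op
    (fun V => ⟨{φ : V.unop.left ⟶ X // φ ≫ f = V.unop.hom}, tObj f V.unop,
      ⟨fun a => uniqT f V.unop a⟩⟩) φ

variable (J : GrothendieckTopology C)

/-- restriction from `C/Y` to `C/X` -/
noncomputable abbrev overMapRestr :
    Sheaf (J.over Y) AddCommGrpCat.{u} ⥤ Sheaf (J.over X) AddCommGrpCat.{u} :=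
  (Over.map f).sheafPushforwardContinuous AddCommGrpCat.{u} (J.over X) (J.over Y)

/-- the left adjoint of the restriction -/
noncomputable abbrev overMapExt :
    Sheaf (J.over X) AddCommGrpCat.{u} ⥤ Sheaf (J.over Y) AddCommGrpCat.{u} :=
  Functor.sheafPullbackConstruction.sheafPullback (Over.map f) AddCommGrpCat.{u}
    (J.over X) (J.over Y)

/-- the adjunction -/
noncomputable def overMapAdj : overMapExt f J ⊣ overMapRestr f J :=
  Functor.sheafPullbackConstruction.sheafAdjunctionContinuous (Over.map f) AddCommGrpCat.{u}
    (J.over X) (J.over Y)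

instance overMapExt_preservesMonomorphisms : (overMapExt f J).PreservesMonomorphisms := by
  unfold overMapExt Functor.sheafPullbackConstruction.sheafPullback
  have h1 : (sheafToPresheaf (J.over X) AddCommGrpCat.{u}).PreservesMonomorphisms :=
    preservesMonomorphisms_of_preservesLimitsOfShape _
  have h3 : (presheafToSheaf (J.over Y) AddCommGrpCat.{u}).PreservesMonomorphisms :=
    preservesMonomorphisms_of_preservesLimitsOfShape _
  infer_instance

/-- the restriction of an injective abelian sheaf along `Over.map f` is injective -/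
instance injective_overMapRestr (I : Sheaf (J.over Y) AddCommGrpCat.{u}) [Injective I] :
    Injective ((overMapRestr f J).obj I) :=
  Injective.injective_of_adjoint (overMapAdj f J) I

/-- restriction of abelian sheaves from `C/Y` to `C/X` preserves injectives -/
instance preservesInjectiveObjects_overMapRestr {C : Type u} [SmallCategory C]
    (J : GrothendieckTopology C) {X Y : C} (f : X ⟶ Y) :
    ((Over.map f).sheafPushforwardContinuous AddCommGrpCat.{u} (J.over X)
      (J.over Y)).PreservesInjectiveObjects :=
  ⟨fun {I} _ => injective_overMapRestr f J I⟩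

end Groth.Agent.Lib.Helper33.OverMapInj
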