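import Groth.Prelude.Def_OmegaPn
import Mathlib.Tactic
set_option autoImplicit false
universe u
open CategoryTheory CategoryTheory.Limits AlgebraicGeometry TopologicalSpace Opposite

namespace Groth.Agent.Lib.Helper33.PPLib

variable {N N' X : Scheme.{u}}

/-- unit of composite pullback -/
theorem unit_comp_eq (j : N ⟶ N') (p : N' ⟶ X) (F : X.Modules) :
    (Scheme.Modules.pullbackPushforwardAdjunction (j ≫ p)).unit.app F =
      (Scheme.Modules.pullbackPushforwardAdjunction p).unit.app F ≫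
        (Scheme.Modules.pushforward p).map
          ((Scheme.Modules.pullbackPushforwardAdjunction j).unit.app ((Scheme.Modules.pullback p).obj F)) ≫
        (Scheme.Modules.pushforwardComp j p).hom.app _ ≫
        (Scheme.Modules.pushforward (j ≫ p)).map ((Scheme.Modules.pullbackComp j p).hom.app F) := by
  have h := unit_conjugateEquiv
    ((Scheme.Modules.pullbackPushforwardAdjunction p).comp (Scheme.Modules.pullbackPushforwardAdjunction j))
    (Scheme.Modules.pullbackPushforwardAdjunction (j ≫ p)) (Scheme.Modules.pullbackComp j p).inv F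
  rw [Scheme.Modules.conjugateEquiv_pullbackComp_inv] at h
  rw [Adjunction.comp_unit_app] at h
  simp only [Category.assoc] at h ⊢
  rw [reassoc_of% h]
  rw [← Functor.map_comp, Iso.inv_hom_id_app]
  simp

/-- pullSect of a composite. -/
theorem pullSect_comp (j : N ⟶ N') (p : N' ⟶ X) (F : X.Modules) (U : X.Opens) (t : Γ(F, U)) :
    OmegaSh.pullSect (j ≫ p) F U t =
      ((Scheme.Modules.pullbackComp j p).hom.app F).app ((j ≫ p) ⁻¹ᵁ U)
        (OmegaSh.pullSect j ((Scheme.Modules.pullback p).obj F) (p ⁻¹ᵁ U) (OmegaSh.pullSect p F U t)) := by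
  have h := congrArg (fun φ => (Scheme.Modules.Hom.app φ U) t) (unit_comp_eq j p F)
  exact h

/-- The comparison map. -/
noncomputable def tau (j : N ⟶ N') (p1 p2 : N' ⟶ X) (F : X.Modules) :
    (Scheme.Modules.pushforward p1).obj ((Scheme.Modules.pullback p2).obj F) ⟶
      (Scheme.Modules.pushforward (j ≫ p1)).obj ((Scheme.Modules.pullback (j ≫ p2)).obj F) :=
  (Scheme.Modules.pushforward p1).map
      ((Scheme.Modules.pullbackPushforwardAdjunction j).unit.app ((Scheme.Modules.pullback p2).obj F)) ≫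
    (Scheme.Modules.pushforwardComp j p1).hom.app _ ≫
    (Scheme.Modules.pushforward (j ≫ p1)).map ((Scheme.Modules.pullbackComp j p2).hom.app F)

theorem tau_app (j : N ⟶ N') (p1 p2 : N' ⟶ X) (F : X.Modules) (U : X.Opens)
    (x : Γ((Scheme.Modules.pullback p2).obj F, p1 ⁻¹ᵁ U)) :
    (tau j p1 p2 F).app U x =
      ((Scheme.Modules.pullbackComp j p2).hom.app F).app ((j ≫ p1) ⁻¹ᵁ U)
        (OmegaSh.pullSect j ((Scheme.Modules.pullback p2).obj F) (p1 ⁻¹ᵁ U) x) := rfl

theorem hom_app_map {M M' : X.Modules} (φ : M ⟶ M') {U V : X.Opens} (i : V ⟶ U) (x : Γ(M, U)) :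
    φ.app V (M.presheaf.map i.op x) = M'.presheaf.map i.op (φ.app U x) :=
  congr($((Scheme.Modules.Hom.mapPresheaf φ).naturality i.op) x)

theorem tau_pullSect (j : N ⟶ N') (p1 p2 : N' ⟶ X) (F : X.Modules) (U : X.Opens)
    (e : p1 ⁻¹ᵁ U ≤ p2 ⁻¹ᵁ U) (e' : (j ≫ p1) ⁻¹ᵁ U ≤ (j ≫ p2) ⁻¹ᵁ U) (t : Γ(F, U)) :
    (tau j p1 p2 F).app U
        (((Scheme.Modules.pullback p2).obj F).presheaf.map (homOfLE e).op (OmegaSh.pullSect p2 F U t)) =
      ((Scheme.Modules.pullback (j ≫ p2)).obj F).presheaf.map (homOfLE e').op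
        (OmegaSh.pullSect (j ≫ p2) F U t) := by
  rw [tau_app, OmegaSh.pullSect_map, pullSect_comp]
  exact hom_app_map ((Scheme.Modules.pullbackComp j p2).hom.app F) (homOfLE e') _


theorem exists_tau {N N' X : Scheme.{u}} (j : N ⟶ N') (p1 p2 : N ⟶ X) (p1' p2' : N' ⟶ X)
    (h1 : j ≫ p1' = p1) (h2 : j ≫ p2' = p2) (F : X.Modules) :
    ∃ τ : (Scheme.Modules.pushforward p1').obj ((Scheme.Modules.pullback p2').obj F) ⟶
        (Scheme.Modules.pushforward p1).obj ((Scheme.Modules.pullback p2).obj F),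
      ∀ (U : X.Opens) (e : p1' ⁻¹ᵁ U ≤ p2' ⁻¹ᵁ U) (e' : p1 ⁻¹ᵁ U ≤ p2 ⁻¹ᵁ U) (t : Γ(F, U)),
        τ.app U (((Scheme.Modules.pullback p2').obj F).presheaf.map (homOfLE e).op
            (OmegaSh.pullSect p2' F U t)) =
          ((Scheme.Modules.pullback p2).obj F).presheaf.map (homOfLE e').op
            (OmegaSh.pullSect p2 F U t) := by
  subst h1 h2
  exact ⟨tau j p1' p2' F, fun U e e' t => tau_pullSect j p1' p2' F U e e' t⟩

end Groth.Agent.Lib.Helper33.PPLib
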