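import Mathlib.CategoryTheory.Limits.Shapes.Pullback.IsPullback.Basic
import Mathlib.CategoryTheory.Monoidal.Cartesian.Grp

/-!
# Principal bundles: base change of the map `Ψ = (act, pr)` and the trivial bundle

Part A (any category with pullbacks): if `P' = P ×_Q Q'` equivariantly, then `Ψ'` is the base change
of `Ψ` along `P' ×_{Q'} P' ⟶ P ×_Q P`, and the latter is the base change of `Q' ⟶ Q`.

Part B (cartesian monoidal category, group object `G`): the trivial bundle `T ⊗ G ⟶ T` with
`G` acting by left multiplication on the second factor is principal.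
-/

set_option autoImplicit false
universe v u
open CategoryTheory CategoryTheory.Limits

namespace Groth.Agent.Lib.Helper33.PrincipalDescent

section A

variable {C : Type u} [Category.{v} C] [HasPullbacks C]
  {P Q P' Q' : C} {q : P ⟶ Q} {q' : P' ⟶ Q'} {φ : P' ⟶ P} {c : Q' ⟶ Q}

/-- The induced map `P' ×_{Q'} P' ⟶ P ×_Q P`. -/
noncomputable abbrev mapSq (K : IsPullback φ q' q c) : pullback q' q' ⟶ pullback q q :=
  pullback.map q' q' q q φ φ c K.w.symm K.w.symm

@[reassoc]
theorem mapSq_fst (K : IsPullback φ q' q c) :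
    mapSq K ≫ pullback.fst q q = pullback.fst q' q' ≫ φ := pullback.lift_fst _ _ _

@[reassoc]
theorem mapSq_snd (K : IsPullback φ q' q c) :
    mapSq K ≫ pullback.snd q q = pullback.snd q' q' ≫ φ := pullback.lift_snd _ _ _

theorem isPullback_snd_mapSq (K : IsPullback φ q' q c) :
    IsPullback (pullback.snd q' q') (mapSq K) φ (pullback.snd q q) := by
  refine ⟨⟨(mapSq_snd K).symm⟩, ⟨PullbackCone.IsLimit.mk _
    (fun s => pullback.lift (K.lift (s.snd ≫ pullback.fst q q) (s.fst ≫ q')
      (by rw [Category.assoc, pullback.condition, ← Category.assoc, ← s.condition, Category.assoc,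
        K.w, Category.assoc])) s.fst (by rw [K.lift_snd])) ?_ ?_ ?_⟩⟩
  · intro s
    exact pullback.lift_snd _ _ _
  · intro s
    apply pullback.hom_ext
    · rw [Category.assoc, mapSq_fst, pullback.lift_fst_assoc, K.lift_fst]
    · rw [Category.assoc, mapSq_snd, pullback.lift_snd_assoc, s.condition]
  · intro s m h1 h2
    apply pullback.hom_ext
    · apply K.hom_ext
      · rw [pullback.lift_fst, K.lift_fst, ← h2, Category.assoc, Category.assoc, mapSq_fst]
      · rw [pullback.lift_fst, K.lift_snd, ← h1, Category.assoc, Category.assoc,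
          pullback.condition]
    · rw [pullback.lift_snd, h1]

theorem isPullback_mapSq_base (K : IsPullback φ q' q c) :
    IsPullback (mapSq K) (pullback.fst q' q' ≫ q') (pullback.fst q q ≫ q) c := by
  refine ⟨⟨by rw [mapSq_fst_assoc, K.w, Category.assoc]⟩, ⟨PullbackCone.IsLimit.mk _
    (fun s => pullback.lift (K.lift (s.fst ≫ pullback.fst q q) s.snd
        (by rw [Category.assoc, s.condition]))
      (K.lift (s.fst ≫ pullback.snd q q) s.snd
        (by rw [Category.assoc, ← pullback.condition, s.condition]))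
      (by rw [K.lift_snd, K.lift_snd])) ?_ ?_ ?_⟩⟩
  · intro s
    apply pullback.hom_ext
    · rw [Category.assoc, mapSq_fst, pullback.lift_fst_assoc, K.lift_fst]
    · rw [Category.assoc, mapSq_snd, pullback.lift_snd_assoc, K.lift_fst]
  · intro s
    rw [pullback.lift_fst_assoc, K.lift_snd]
  · intro s m h1 h2
    apply pullback.hom_ext
    · apply K.hom_ext
      · rw [pullback.lift_fst, K.lift_fst, ← h1, Category.assoc, Category.assoc, mapSq_fst]
      · rw [pullback.lift_fst, K.lift_snd, ← h2, Category.assoc]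
    · apply K.hom_ext
      · rw [pullback.lift_snd, K.lift_fst, ← h1, Category.assoc, Category.assoc, mapSq_snd]
      · rw [pullback.lift_snd, K.lift_snd, ← h2, Category.assoc]
        exact congrArg (m ≫ ·) pullback.condition.symm

/-- `Ψ'` is the base change of `Ψ`. -/
theorem isPullback_Psi {HP HP' : C} (act pr : HP ⟶ P) (hq : act ≫ q = pr ≫ q)
    (act' pr' : HP' ⟶ P') (hq' : act' ≫ q' = pr' ≫ q') (Hφ : HP' ⟶ HP)
    (h1 : Hφ ≫ act = act' ≫ φ) (hC : IsPullback Hφ pr' pr φ) (K : IsPullback φ q' q c) :
    IsPullback Hφ (pullback.lift act' pr' hq') (pullback.lift act pr hq) (mapSq K) := by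
  have comm : pullback.lift act' pr' hq' ≫ mapSq K = Hφ ≫ pullback.lift act pr hq := by
    apply pullback.hom_ext
    · rw [Category.assoc, mapSq_fst, pullback.lift_fst_assoc, Category.assoc, pullback.lift_fst,
        h1]
    · rw [Category.assoc, mapSq_snd, pullback.lift_snd_assoc, Category.assoc, pullback.lift_snd,
        hC.w]
  refine (IsPullback.of_right ?_ comm (isPullback_snd_mapSq K)).flip
  rw [pullback.lift_snd, pullback.lift_snd]
  exact hC.flip

end A

section B

open MonoidalCategory CartesianMonoidalCategory MonObj GrpObj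

variable {C : Type u} [Category.{v} C] [CartesianMonoidalCategory C] (G T : C) [GrpObj G]

/-- Left multiplication on the second factor of `T ⊗ G`. -/
def trivAct : G ⊗ (T ⊗ G) ⟶ T ⊗ G :=
  lift (snd G (T ⊗ G) ≫ fst T G) (fst G (T ⊗ G) * (snd G (T ⊗ G) ≫ snd T G))

lemma lift_trivAct {Z : C} (g : Z ⟶ G) (t : Z ⟶ T) (g' : Z ⟶ G) :
    lift g (lift t g') ≫ trivAct G T = lift t (g * g') := by
  unfold trivAct
  apply CartesianMonoidalCategory.hom_ext
  · simp
  · rw [Category.assoc, lift_snd, lift_snd, MonObj.comp_mul, lift_fst, lift_snd_assoc, lift_snd]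

lemma trivAct_fst : trivAct G T ≫ fst T G = snd G (T ⊗ G) ≫ fst T G := by
  unfold trivAct; simp

lemma eq_lift_lift {Z : C} (m : Z ⟶ G ⊗ (T ⊗ G)) :
    m = lift (m ≫ fst _ _) (lift (m ≫ snd _ _ ≫ fst _ _) (m ≫ snd _ _ ≫ snd _ _)) := by
  apply CartesianMonoidalCategory.hom_ext
  · simp
  · apply CartesianMonoidalCategory.hom_ext <;> simp

/-- The trivial bundle `T ⊗ G ⟶ T` is principal. -/
theorem isPullback_trivAct :
    IsPullback (trivAct G T) (snd G (T ⊗ G)) (fst T G) (fst T G) := by
  refine ⟨⟨trivAct_fst G T⟩, ⟨PullbackCone.IsLimit.mk _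
    (fun s => lift ((s.fst ≫ snd T G) * (s.snd ≫ snd T G)⁻¹) s.snd) ?_ ?_ ?_⟩⟩
  · intro s
    have hs : s.snd = lift (s.snd ≫ fst T G) (s.snd ≫ snd T G) := by
      apply CartesianMonoidalCategory.hom_ext <;> simp
    rw [hs, lift_trivAct, ← hs, inv_mul_cancel_right, ← s.condition]
    apply CartesianMonoidalCategory.hom_ext <;> simp
  · intro s
    exact lift_snd _ _
  · intro s m h1 h2
    have hm := eq_lift_lift G T m
    have h3 : (m ≫ fst _ _) * (s.snd ≫ snd T G) = s.fst ≫ snd T G := by
      rw [← h1, hm, lift_trivAct, lift_snd, ← h2]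
      simp
    apply CartesianMonoidalCategory.hom_ext
    · rw [lift_fst, ← h3, mul_inv_cancel_right]
    · rw [lift_snd, h2]

end B

end Groth.Agent.Lib.Helper33.PrincipalDescent
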