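import Mathlib
import Groth.Prelude.Def_Wider
import Groth.Prelude.Def_CAlg
import Groth.Agent.Lib.Helper64.HartogsRel
import Groth.Agent.Lib.Helper67.Depth

set_option autoImplicit false
set_option linter.style.haveILetI false
universe u
open CategoryTheory AlgebraicGeometry Opposite

namespace Groth.Agent.Lib.Helper33.PuncNoeth

open Groth.Agent.Lib.Helper64.HartogsRel Groth.Agent.Lib.Helper64.HartogsRing
  RingTheory.Sequence IsLocalRing

/-- regular pairs at the points of `V(I)` when `depth_I B ≥ 2` -/
theorem hasRegPair_stalk_of_mem_zeroLocus (B : Type u) [CommRing B] (I : Ideal B)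
    (hI : (2 : ℕ∞) ≤ LocCoh.idealDepth I B) (x : Spec (CommRingCat.of B))
    (hxI : I ≤ x.asIdeal) :
    HasRegPair ((Spec (CommRingCat.of B)).presheaf.stalk x) := by
  haveI hxp : x.asIdeal.IsPrime := x.isPrime
  rcases (Groth.Agent.Lib.Helper67.le_idealDepth_iff I B 2).1 hI with
    htop | ⟨rs, hlen, hregs, hmem⟩
  · exfalso
    have h1 : (1 : B) ∈ I • (⊤ : Submodule B B) := by
      rw [htop]
      exact Submodule.mem_top
    have h2 : I • (⊤ : Submodule B B) ≤ I := by
      rw [Submodule.smul_le]
      intro r hr n _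
      exact Ideal.mul_mem_right _ _ hr
    exact x.isPrime.ne_top ((Ideal.eq_top_iff_one _).2 (hxI (h2 h1)))
  · apply HasWRegPair.hasRegPair
    match rs, hlen with
    | [a, b], _ =>
      letI k : Algebra B ((Spec (CommRingCat.of B)).presheaf.stalk x) :=
        StructureSheaf.stalkAlgebra B x
      haveI hloc : IsLocalization.AtPrime ((Spec (CommRingCat.of B)).presheaf.stalk x)
          x.asIdeal := StructureSheaf.IsLocalization.to_stalk B x
      haveI : Module.Flat B ((Spec (CommRingCat.of B)).presheaf.stalk x) :=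
        IsLocalization.flat _ x.asIdeal.primeCompl
      have hmax : ∀ c ∈ I, algebraMap B ((Spec (CommRingCat.of B)).presheaf.stalk x) c ∈
          maximalIdeal ((Spec (CommRingCat.of B)).presheaf.stalk x) := by
        intro c hc
        exact (IsLocalization.AtPrime.to_map_mem_maximal_iff _ x.asIdeal c).2 (hxI hc)
      refine ⟨algebraMap B _ a, hmax a (hmem a (by simp)), algebraMap B _ b,
        hmax b (hmem b (by simp)), ?_⟩
      exact IsWeaklyRegular.of_flat (S := (Spec (CommRingCat.of B)).presheaf.stalk x) hregs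

/-- HA of S11969 (msg 3432). -/
theorem isNoetherianRing_sections (B : Type u) [CommRing B] [IsNoetherianRing B] (I : Ideal B)
    (hI : (2 : ℕ∞) ≤ LocCoh.idealDepth I B) :
    IsNoetherianRing Γ((↑(LocCoh.puncturedOpen B I) : Scheme.{u}), ⊤) := by
  have hreg : ∀ x : Spec (CommRingCat.of B), x ∉ Set.range (LocCoh.puncturedOpen B I).ι →
      HasRegPair ((Spec (CommRingCat.of B)).presheaf.stalk x) := by
    intro x hx
    apply hasRegPair_stalk_of_mem_zeroLocus B I hI x
    rw [Scheme.Opens.range_ι] at hx
    have : x ∈ PrimeSpectrum.zeroLocus (I : Set B) := by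
      by_contra h
      exact hx h
    exact (PrimeSpectrum.mem_zeroLocus _ _).1 this
  have hbij := bijective_appTop_of_isOpenImmersion (LocCoh.puncturedOpen B I).ι hreg
  let e1 : Γ(Spec (CommRingCat.of B), ⊤) ≃+* Γ((↑(LocCoh.puncturedOpen B I) : Scheme.{u}), ⊤) :=
    RingEquiv.ofBijective (LocCoh.puncturedOpen B I).ι.appTop.hom hbij
  let e2 : Γ(Spec (CommRingCat.of B), ⊤) ≃+* B :=
    (Scheme.ΓSpecIso (CommRingCat.of B)).commRingCatIsoToRingEquiv
  haveI : IsNoetherianRing Γ(Spec (CommRingCat.of B), ⊤) :=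
    isNoetherianRing_of_ringEquiv B e2.symm
  exact isNoetherianRing_of_ringEquiv _ e1

end Groth.Agent.Lib.Helper33.PuncNoeth
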