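import Groth.Agent.Lib.Helper33.GrModTN
import Groth.Agent.Lib.Helper33.GrModFT2
import Groth.Agent.Lib.Lead.QCohAff
import Groth.Prelude.Def_RelProj3
set_option autoImplicit false
set_option linter.unusedSectionVars false
set_option linter.unusedVariables false
set_option linter.deprecated false
universe u
open CategoryTheory CategoryTheory.Limits AlgebraicGeometry TopologicalSpace Opposite

/-! helper33: scheme-level pieces for "`ℳ~ = 0` and (TF) imply (TN)" on a relative Proj. -/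

namespace Groth.Agent.Lib.Helper33.RelTN

open Groth.Agent.Lib.Helper33.GrModLib Groth.Agent.Lib.Helper33.GrModEpi Groth.Agent.Lib.Helper33.GrModFT

theorem section_eq_zero_of_isZero {P : Scheme.{u}} {F : P.Modules} (h : IsZero F) (W : P.Opens)
    (s : Γ(F, W)) : s = 0 := by
  have h1 : (𝟙 F : F ⟶ F) = 0 := h.eq_of_src _ _
  have h2 : (𝟙 F : F ⟶ F).app W s = (0 : F ⟶ F).app W s := by rw [h1]
  exact h2

section ring
variable {A σ : Type u} [CommRing A] [SetLike σ A] [AddSubgroupClass σ A] (𝒜 : ℕ → σ) [GradedRing 𝒜]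
variable {M τ : Type u} [AddCommGroup M] [Module A M] [SetLike τ M] [AddSubgroupClass τ M] (ℳ : ℕ → τ)
  [SetLike.GradedSMul 𝒜 ℳ]

/-- if `F = 0` is identified over the chart `e` with `M~`, the fractions `x / f ^ d` vanish pointwise. -/
theorem chart_zero {P : Scheme.{u}} (e : Proj 𝒜 ⟶ P) [IsOpenImmersion e] {F : P.Modules}
    (lam : F ⟶ (Scheme.Modules.pushforward e).obj (GrMod.tilde 𝒜 ℳ 0))
    (hsurj : ∀ W : P.Opens, W ≤ e.opensRange → Function.Surjective (lam.app W))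
    (hF0 : ∀ (W : P.Opens) (s : Γ(F, W)), s = 0)
    (f : A) (hf : f ∈ 𝒜 1) (d : ℕ) (x : M) (hx : x ∈ ℳ d) (y : ProjectiveSpectrum 𝒜)
    (hy : f ^ d ∉ y.asHomogeneousIdeal) :
    (LocalizedModule.mk x ⟨f ^ d, hy⟩ : GrMod.LocMod 𝒜 (M := M) y) = 0 := by
  classical
  generalize hWdef : e ''ᵁ (ProjectiveSpectrum.basicOpen 𝒜 (f ^ d)) = W
  have hpre : e ⁻¹ᵁ W = ProjectiveSpectrum.basicOpen 𝒜 (f ^ d) := hWdef ▸ e.preimage_image_eq _
  have hWR : W ≤ e.opensRange := hWdef ▸ e.image_le_opensRange _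
  have hfW : ∀ y' ∈ e ⁻¹ᵁ W, f ^ d ∉ y'.asHomogeneousIdeal := fun y' hy' => by
    rw [hpre] at hy'
    exact hy'
  obtain ⟨s, hs⟩ := hsurj W hWR (fracSect 𝒜 ℳ 0 (e ⁻¹ᵁ W) ⟨x, hx⟩ ⟨f ^ d, SetLike.pow_mem_graded d hf⟩ (by simp)
      (fun y' => hfW y'.1 y'.2))
  have hyW : y ∈ e ⁻¹ᵁ W := by
    rw [hpre]
    exact hy
  have h0 : fracSect 𝒜 ℳ 0 (e ⁻¹ᵁ W) ⟨x, hx⟩ ⟨f ^ d, SetLike.pow_mem_graded d hf⟩ (by simp)
      (fun y' => hfW y'.1 y'.2) = 0 := by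
    rw [← hs, hF0 W s, map_zero]
    rfl
  exact congrArg (evalAt 𝒜 ℳ 0 (e ⁻¹ᵁ W) ⟨y, hyW⟩) h0

variable {M₂ τ₂ : Type u} [AddCommGroup M₂] [SetLike τ₂ M₂] [AddSubgroupClass τ₂ M₂] (ℳ₂ : ℕ → τ₂)
variable [DirectSum.Decomposition ℳ] [DirectSum.Decomposition ℳ₂]

open DirectSum in
theorem decompose_map_add (v : M →+ M₂) (hv : ∀ (i : ℕ) (m : M), m ∈ ℳ i → v m ∈ ℳ₂ i)
    (z : M) (k : ℕ) :
    v ((decompose ℳ z k : ℳ k) : M) = ((decompose ℳ₂ (v z) k : ℳ₂ k) : M₂) := by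
  classical
  induction z using DirectSum.Decomposition.inductionOn ℳ with
  | zero => simp
  | @homogeneous i m =>
    by_cases h : i = k
    · subst h
      rw [DirectSum.decompose_of_mem_same ℳ m.2, DirectSum.decompose_of_mem_same ℳ₂ (hv _ _ m.2)]
    · rw [DirectSum.decompose_of_mem_ne ℳ m.2 h, DirectSum.decompose_of_mem_ne ℳ₂ (hv _ _ m.2) h,
        map_zero]
  | add a b ha hb =>
    rw [DirectSum.decompose_add, DirectSum.add_apply, AddMemClass.coe_add, map_add, ha, hb, map_add,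
      DirectSum.decompose_add, DirectSum.add_apply, AddMemClass.coe_add]

end ring

section scheme

variable {Y : Scheme.{u}} (𝒮 : RelProj.QCGrAlg Y) (ℳ : RelProj.GrModule 𝒮)

theorem isUnit_res_str (U : Y.Opens) (hU : IsAffineOpen U) (r : Γ(Y, U)) :
    IsUnit (𝒮.res hU (hU.basicOpen r) (Y.basicOpen_le r) ((𝒮.str.app (op U)).hom r)) := by
  let _inst := (𝒮.presheaf.map (homOfLE (Y.basicOpen_le r)).op).hom.toAlgebra
  have hloc : IsLocalization.Away ((𝒮.str.app (op U)).hom r)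
      (𝒮.presheaf.obj (op (Y.basicOpen r))) := 𝒮.isQC U hU r
  exact IsLocalization.map_units (M := Submonoid.powers ((𝒮.str.app (op U)).hom r))
    (𝒮.presheaf.obj (op (Y.basicOpen r))) ⟨_, 1, pow_one _⟩

/-- (after helper74 `isLocalizing_of_isQCoh`) sections over `D(r)` times a power of `r` extend. -/
theorem exists_res_eq (hℳ : Coh.IsQCoh ((AMod.toOS 𝒮.toQCAlg).obj ℳ.mod))
    (U : Y.Opens) (hU : IsAffineOpen U) (r : Γ(Y, U)) (t : ℳ.mod.val.obj (op (Y.basicOpen r))) :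
    ∃ (k : ℕ) (m : ℳ.mod.val.obj (op U)),
      ℳ.res hU (hU.basicOpen r) (Y.basicOpen_le r) m =
        (𝒮.res hU (hU.basicOpen r) (Y.basicOpen_le r) ((𝒮.str.app (op U)).hom r)) ^ k • t := by
  have : ((AMod.toOS 𝒮.toQCAlg).obj ℳ.mod).IsQuasicoherent := hℳ
  have hL := Groth.Agent.Lib.Lead.QCohAff.LocOn.of_isQuasicoherent
    ((AMod.toOS 𝒮.toQCAlg).obj ℳ.mod) hU
  obtain ⟨k, m, hm⟩ := hL.2 r t
  refine ⟨k, m, ?_⟩
  refine hm.trans ?_
  have hnat : (𝒮.str.app (op (Y.basicOpen r))).hom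
      ((Y.presheaf.map (homOfLE (Y.basicOpen_le r)).op).hom r) =
      𝒮.res hU (hU.basicOpen r) (Y.basicOpen_le r) ((𝒮.str.app (op U)).hom r) :=
    congr($(𝒮.str.naturality (homOfLE (Y.basicOpen_le r)).op) r)
  rw [← hnat, ← map_pow (𝒮.str.app (op (Y.basicOpen r))).hom]
  rfl

/-- vanishing of the degree `k` piece passes to basic opens (for quasi-coherent `ℳ`). -/
theorem deg_zero_basicOpen (hℳ : Coh.IsQCoh ((AMod.toOS 𝒮.toQCAlg).obj ℳ.mod))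
    (U : Y.Opens) (hU : IsAffineOpen U) (r : Γ(Y, U)) (k : ℕ)
    (hk : ∀ m ∈ ℳ.deg U hU k, m = 0) (x : ℳ.mod.val.obj (op (Y.basicOpen r)))
    (hx : x ∈ ℳ.deg (Y.basicOpen r) (hU.basicOpen r) k) : x = 0 := by
  classical
  obtain ⟨j, m', hm'⟩ := exists_res_eq 𝒮 ℳ hℳ U hU r x
  have hc0 : 𝒮.res hU (hU.basicOpen r) (Y.basicOpen_le r) ((𝒮.str.app (op U)).hom r) ∈
      𝒮.deg (Y.basicOpen r) (hU.basicOpen r) 0 :=
    (𝒮.res hU (hU.basicOpen r) (Y.basicOpen_le r)).map_mem (𝒮.str_mem U hU r)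
  have hcj : (𝒮.res hU (hU.basicOpen r) (Y.basicOpen_le r) ((𝒮.str.app (op U)).hom r)) ^ j ∈
      𝒮.deg (Y.basicOpen r) (hU.basicOpen r) 0 := by
    have := SetLike.pow_mem_graded j hc0
    rwa [smul_zero] at this
  have hmem : (𝒮.res hU (hU.basicOpen r) (Y.basicOpen_le r) ((𝒮.str.app (op U)).hom r)) ^ j • x ∈
      ℳ.deg (Y.basicOpen r) (hU.basicOpen r) k := by
    have := (ℳ.gradedSMul (Y.basicOpen r) (hU.basicOpen r)).smul_mem hcj hx
    rwa [zero_vadd] at this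
  have h1 := decompose_map_add (ℳ.deg U hU) (ℳ.deg (Y.basicOpen r) (hU.basicOpen r))
    (ℳ.res hU (hU.basicOpen r) (Y.basicOpen_le r)).toAddMonoidHom
    (fun i m hm => ℳ.res_mem hU (hU.basicOpen r) (Y.basicOpen_le r) i m hm) m' k
  have h2 : ((DirectSum.decompose (ℳ.deg U hU) m' k : ℳ.deg U hU k) : ℳ.mod.val.obj (op U)) = 0 :=
    hk _ (SetLike.coe_mem _)
  rw [h2, map_zero] at h1
  have h3 : (ℳ.res hU (hU.basicOpen r) (Y.basicOpen_le r)).toAddMonoidHom m' =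
      (𝒮.res hU (hU.basicOpen r) (Y.basicOpen_le r) ((𝒮.str.app (op U)).hom r)) ^ j • x := hm'
  rw [h3, DirectSum.decompose_of_mem_same _ hmem] at h1
  exact ((isUnit_res_str 𝒮 U hU r).pow j).smul_eq_zero.mp h1.symm

theorem deg_zero_of_eq (k : ℕ) {D D' : Y.Opens} (e : D = D') (hD : IsAffineOpen D) (hD' : IsAffineOpen D')
    (h : ∀ x ∈ ℳ.deg D' hD' k, x = 0) : ∀ x ∈ ℳ.deg D hD k, x = 0 := by
  subst e
  exact h

/-- vanishing of the degree `k` piece on an affine cover gives vanishing on every affine open. -/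
theorem deg_zero_of_cover (hℳ : Coh.IsQCoh ((AMod.toOS 𝒮.toQCAlg).obj ℳ.mod)) (k : ℕ)
    {ι : Type*} (Uc : ι → Y.Opens) (hUc : ∀ i, IsAffineOpen (Uc i)) (hcov : ∀ y : Y, ∃ i, y ∈ Uc i)
    (hk : ∀ i, ∀ m ∈ ℳ.deg (Uc i) (hUc i) k, m = 0)
    (U : Y.Opens) (hU : IsAffineOpen U) (m : ℳ.mod.val.obj (op U)) (hm : m ∈ ℳ.deg U hU k) : m = 0 := by
  have hloc : ∀ y ∈ U, ∃ (W' : Y.Opens) (hW' : W' ≤ U), y ∈ W' ∧
      ((AMod.toOS 𝒮.toQCAlg).obj ℳ.mod).presheaf.map (homOfLE hW').op m =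
        ((AMod.toOS 𝒮.toQCAlg).obj ℳ.mod).presheaf.map (homOfLE hW').op 0 := by
    intro y hyU
    obtain ⟨i, hyi⟩ := hcov y
    obtain ⟨f, g, efg, hyf⟩ := exists_basicOpen_le_affine_inter hU (hUc i) y ⟨hyU, hyi⟩
    refine ⟨Y.basicOpen f, Y.basicOpen_le f, hyf, ?_⟩
    rw [map_zero]
    have h0 := deg_zero_of_eq 𝒮 ℳ k efg (hU.basicOpen f) ((hUc i).basicOpen g)
      (deg_zero_basicOpen 𝒮 ℳ hℳ (Uc i) (hUc i) g k (hk i))
    exact h0 _ (ℳ.res_mem hU (hU.basicOpen f) (Y.basicOpen_le f) k m hm)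
  choose W' hW' hx hst using hloc
  let F : TopCat.Sheaf Ab Y := ⟨((AMod.toOS 𝒮.toQCAlg).obj ℳ.mod).presheaf,
    ((AMod.toOS 𝒮.toQCAlg).obj ℳ.mod).isSheaf⟩
  refine F.eq_of_locally_eq' (fun x : U => W' x.1 x.2) U (fun x => homOfLE (hW' x.1 x.2)) ?_ m 0
    (fun x => hst x.1 x.2)
  intro x hxU
  exact Opens.mem_iSup.mpr ⟨⟨x, hxU⟩, hx x hxU⟩

end scheme

end Groth.Agent.Lib.Helper33.RelTN
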