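import Mathlib
import Groth.Agent.S4875
set_option autoImplicit false
universe u
open CategoryTheory CategoryTheory.Limits AlgebraicGeometry TensorProduct

namespace Groth.Agent.Lib.Helper33.SDFRC

theorem exists_lift_sub {k : Type u} [Field k] {A R : Type u} [CommRing A] [Algebra k A]
    [CommRing R] [Algebra k R] (x : A ⊗[k] R) (R₀ : Subalgebra k R) (s : Finset (A × R))
    (hx : x = s.sum fun i => i.1 ⊗ₜ[k] i.2) (h : ∀ i ∈ s, i.2 ∈ R₀) :
    ∃ x₀ : A ⊗[k] R₀, Algebra.TensorProduct.map (AlgHom.id A A) R₀.val x₀ = x := by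
  refine ⟨s.attach.sum fun i => i.1.1 ⊗ₜ[k] (⟨i.1.2, h i.1 i.2⟩ : R₀), ?_⟩
  rw [map_sum, hx]
  simp only [Algebra.TensorProduct.map_tmul, AlgHom.coe_id, id_eq, Subalgebra.coe_val]
  exact Finset.sum_attach s (fun i => i.1 ⊗ₜ[k] i.2)

theorem map_val_injective {k : Type u} [Field k] (A R : Type u) [CommRing A] [Algebra k A]
    [CommRing R] [Algebra k R] (R₀ : Subalgebra k R) :
    Function.Injective (Algebra.TensorProduct.map (AlgHom.id A A) R₀.val) := by
  have h := Module.Flat.lTensor_preserves_injective_linearMap (M := A) R₀.val.toLinearMap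
    Subtype.val_injective
  have e : ∀ x, Algebra.TensorProduct.map (AlgHom.id A A) R₀.val x =
      LinearMap.lTensor A R₀.val.toLinearMap x := by
    intro x
    induction x using TensorProduct.induction_on with
    | zero => simp
    | tmul a r => simp
    | add x y hx hy => rw [map_add, map_add, hx, hy]
  intro x y hxy
  apply h
  rw [← e, ← e, hxy]

theorem RC {k : Type u} [Field k] {A R : Type u} [CommRing A] [Algebra k A] [CommRing R]
    [Algebra k R] (b τ : A ⊗[k] R) {Λ : Type u} (C : Λ → Type u) [∀ i, CommRing (C i)]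
    [∀ i, Algebra k (C i)] (ψ : ∀ i, A →ₐ[k] C i)
    (hSL : ∀ (g x : A), (∀ i, ∃ m : ℕ, ψ i g ^ m * ψ i x = 0) → ∃ m : ℕ, g ^ m * x = 0)
    (hvan : ∀ i, ∃ m : ℕ, (Algebra.TensorProduct.map (ψ i) (AlgHom.id k R) b) ^ m *
      Algebra.TensorProduct.map (ψ i) (AlgHom.id k R) τ = 0) : ∃ m : ℕ, b ^ m * τ = 0 := by
  classical
  obtain ⟨sb, hsb⟩ := TensorProduct.exists_finset b
  obtain ⟨sτ, hsτ⟩ := TensorProduct.exists_finset τ
  let F : Finset R := (sb ∪ sτ).image Prod.snd
  let R₀ : Subalgebra k R := Algebra.adjoin k (F : Set R)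
  have hmem : ∀ i ∈ sb ∪ sτ, i.2 ∈ R₀ := fun i hi =>
    Algebra.subset_adjoin (Finset.mem_coe.2 (Finset.mem_image_of_mem Prod.snd hi))
  obtain ⟨b₀, hb₀⟩ := exists_lift_sub b R₀ sb hsb
    (fun i hi => hmem i (Finset.mem_union_left _ hi))
  obtain ⟨τ₀, hτ₀⟩ := exists_lift_sub τ R₀ sτ hsτ
    (fun i hi => hmem i (Finset.mem_union_right _ hi))
  have hft : Algebra.FiniteType k R₀ :=
    (Subalgebra.fg_iff_finiteType _).1 (Subalgebra.fg_adjoin_finset F)
  have hfp : Algebra.FinitePresentation k R₀ := Algebra.FinitePresentation.of_finiteType.1 hft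
  -- the localization
  have hfp1 : Algebra.FinitePresentation A (A ⊗[k] R₀) := inferInstance
  have hfp2 : Algebra.FinitePresentation (A ⊗[k] R₀) (Localization.Away b₀) :=
    IsLocalization.Away.finitePresentation b₀
  have hfp3 : Algebra.FinitePresentation A (Localization.Away b₀) :=
    Algebra.FinitePresentation.trans A (A ⊗[k] R₀) (Localization.Away b₀)
  have hfl1 : Module.Flat A (A ⊗[k] R₀) := inferInstance
  have hfl2 : Module.Flat (A ⊗[k] R₀) (Localization.Away b₀) :=
    IsLocalization.flat _ (Submonoid.powers b₀)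
  have hfl3 : Module.Flat A (Localization.Away b₀) :=
    Module.Flat.trans A (A ⊗[k] R₀) (Localization.Away b₀)
  obtain ⟨l, hl, hfree⟩ := Groth.Agent.S2591.result (A := A) (B := Localization.Away b₀)
    (Localization.Away b₀)
  have ht0 : algebraMap (A ⊗[k] R₀) (Localization.Away b₀) τ₀ = 0 := by
    refine Groth.Agent.S4875.ringF (Localization.Away b₀) l hl hfree C
      (fun i => (ψ i).toRingHom) (fun g x hx => hSL g x hx) _ ?_
    intro i R' _ α β hαβ
    let β' : A ⊗[k] R₀ →+* R' := β.comp (algebraMap (A ⊗[k] R₀) (Localization.Away b₀))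
    let _ : Algebra k R' := (α.comp (algebraMap k (C i))).toAlgebra
    let αₐ : C i →ₐ[k] R' := { α with commutes' := fun r => rfl }
    have hA : ∀ a : A, α (ψ i a) = β' (a ⊗ₜ[k] (1 : R₀)) := by
      intro a
      have h1 := congrArg (fun f => f a) hαβ
      simp only [RingHom.comp_apply] at h1
      rw [IsScalarTower.algebraMap_apply A (A ⊗[k] R₀) (Localization.Away b₀),
        Algebra.TensorProduct.algebraMap_apply] at h1
      exact h1
    have hρ : ∀ c : k, β' ((1 : A) ⊗ₜ[k] algebraMap k R₀ c) = algebraMap k R' c := by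
      intro c
      have h2 : (1 : A) ⊗ₜ[k] algebraMap k R₀ c = (algebraMap k A c) ⊗ₜ[k] (1 : R₀) := by
        rw [Algebra.algebraMap_eq_smul_one, Algebra.algebraMap_eq_smul_one (A := A),
          TensorProduct.smul_tmul]
      rw [h2, ← hA, (ψ i).commutes]
      rfl
    let ρ : R₀ →ₐ[k] R' :=
      { toRingHom := β'.comp
          (Algebra.TensorProduct.includeRight : R₀ →ₐ[k] A ⊗[k] R₀).toRingHom
        commutes' := fun c => hρ c }
    have hρr : ∀ r : R₀, ρ r = β' ((1 : A) ⊗ₜ[k] r) := fun r => rfl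
    let γ : C i ⊗[k] R₀ →ₐ[k] R' := Algebra.TensorProduct.productMap αₐ ρ
    have key : ∀ x : A ⊗[k] R₀,
        γ (Algebra.TensorProduct.map (ψ i) (AlgHom.id k R₀) x) = β' x := by
      intro x
      induction x using TensorProduct.induction_on with
      | zero => simp
      | tmul a r =>
        rw [Algebra.TensorProduct.map_tmul, Algebra.TensorProduct.productMap_apply_tmul]
        have h1 : αₐ (ψ i a) = β' (a ⊗ₜ[k] (1 : R₀)) := hA a
        rw [h1, AlgHom.coe_id, id_eq, hρr, ← map_mul, Algebra.TensorProduct.tmul_mul_tmul,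
          mul_one, one_mul]
      | add x y hx hy => rw [map_add, map_add, map_add, hx, hy]
    have hfun : ∀ x : A ⊗[k] R₀,
        Algebra.TensorProduct.map (ψ i) (AlgHom.id k R)
          (Algebra.TensorProduct.map (AlgHom.id A A) R₀.val x) =
        Algebra.TensorProduct.map (AlgHom.id (C i) (C i)) R₀.val
          (Algebra.TensorProduct.map (ψ i) (AlgHom.id k R₀) x) := by
      intro x
      induction x using TensorProduct.induction_on with
      | zero => simp
      | tmul a r => simp
      | add x y hx hy => rw [map_add, map_add, map_add, map_add, hx, hy]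
    obtain ⟨m, hm⟩ := hvan i
    rw [← hb₀, ← hτ₀, hfun, hfun, ← map_pow, ← map_mul] at hm
    have hm' := map_val_injective (C i) R R₀ (hm.trans (map_zero _).symm)
    have hm2 := congrArg γ hm'
    rw [map_mul, map_pow, key, key, map_zero] at hm2
    have hu : IsUnit (β' b₀) :=
      (IsLocalization.Away.algebraMap_isUnit (S := Localization.Away b₀) b₀).map β
    exact (hu.pow m).mul_right_eq_zero.1 hm2
  obtain ⟨c, hc⟩ := (IsLocalization.map_eq_zero_iff (Submonoid.powers b₀)
    (Localization.Away b₀) τ₀).1 ht0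
  obtain ⟨m, hm⟩ := c.2
  refine ⟨m, ?_⟩
  have := congrArg (Algebra.TensorProduct.map (AlgHom.id A A) R₀.val) hc
  rw [map_mul, map_zero, ← hm, map_pow, hb₀, hτ₀] at this
  exact this

end Groth.Agent.Lib.Helper33.SDFRC
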