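import Mathlib
import Groth.Agent.Lib.Lead.SekGeom

/-!
# Multiplicativity of `eps` on points of the split multiplicative group `Red.bc f (Red.diag R ℤ)` (helper33)

Adaptation of `Lib/Helper5/DSPts.lean` (section "Multiplicativity") from the base `Spec ℤ` to an arbitrary
affine base `Spec R` and a morphism `f : X ⟶ Spec R`.
-/

set_option autoImplicit false
universe u

open CategoryTheory CategoryTheory.Limits MonoidalCategory CartesianMonoidalCategory MonObj
  AlgebraicGeometry Opposite

noncomputable section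

namespace Groth.Agent.Lib.Helper33.SekEpsMul

open Groth.Agent.Lib.Lead Groth.Agent.Lib.Lead.SekPts

variable {X : Scheme.{u}} (R : Type u) [CommRing R] (f : X ⟶ Spec (CommRingCat.of R))

/-- The coordinate ring `R[ℤ]`. -/
abbrev CoordR : Type u := MonoidAlgebra R (Multiplicative ℤ)

/-- `D_R(ℤ)` over `Spec R`. -/
abbrev DR : Over (Spec (CommRingCat.of R)) := Red.diag R ℤ

/-- The coordinate function `z`. -/
abbrev zz : CoordR R := MonoidAlgebra.single (Multiplicative.ofAdd (1 : ℤ)) (1 : R)

abbrev coordIsoR : Γ(Spec (CommRingCat.of (CoordR R)), ⊤) ≅ CommRingCat.of (CoordR R) :=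
  Scheme.ΓSpecIso (CommRingCat.of (CoordR R))

theorem appTop_comp_apply {X Y Z : Scheme.{u}} (f : X ⟶ Y) (g : Y ⟶ Z) (z : Γ(Z, ⊤)) :
    (f ≫ g).appTop z = f.appTop (g.appTop z) := by
  rw [Scheme.Hom.comp_appTop]; rfl

theorem pullback_map_left_fst {Y Y' : Over (Spec (CommRingCat.of R))} (g : Y ⟶ Y') :
    ((Over.pullback f).map g).left ≫ pullback.fst Y'.hom f = pullback.fst Y.hom f ≫ g.left := by
  dsimp only [Over.pullback]
  exact pullback.lift_fst _ _ _

variable {R} {f}
variable {T : Over X}

/-- The component `T.left ⟶ Spec R[ℤ]` of a point. -/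
abbrev specPt (t : T ⟶ Red.bc f (DR R)) : T.left ⟶ Spec (CommRingCat.of (CoordR R)) :=
  t.left ≫ pullback.fst (DR R).hom f

theorem eps_eq (t : T ⟶ Red.bc f (DR R)) :
    eps R f T t = (specPt t).appTop ((coordIsoR R).inv (zz R)) := by
  rfl

/-! ### Multiplicativity -/

theorem specMap_appTop_coordIso_inv {A : CommRingCat.{u}} (φ : CommRingCat.of (CoordR R) ⟶ A)
    (c : CoordR R) :
    (Spec.map φ).appTop ((coordIsoR R).inv c) = (Scheme.ΓSpecIso A).inv (φ c) := by
  have h := congrArg (fun ψ => (ConcreteCategory.hom ψ) c) (Scheme.ΓSpecIso_inv_naturality φ)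
  exact h.symm

def pairPt (t t' : T ⟶ Red.bc f (DR R)) : T.left ⟶ (DR R ⊗ DR R).left :=
  (lift t t').left ≫ (Functor.LaxMonoidal.μ (Over.pullback f) (DR R) (DR R)).left ≫
    pullback.fst (DR R ⊗ DR R).hom f

theorem specPt_mul (t t' : T ⟶ Red.bc f (DR R)) :
    specPt (t * t') = pairPt t t' ≫ μ[DR R].left := by
  have h1 : t * t' = lift t t' ≫ μ[Red.bc f (DR R)] := Hom.mul_def t t'
  have h2 : μ[Red.bc f (DR R)] = Functor.LaxMonoidal.μ (Over.pullback f) (DR R) (DR R) ≫
      (Over.pullback f).map μ[DR R] := rfl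
  have h3 := pullback_map_left_fst R f μ[DR R]
  rw [specPt, pairPt, h1, h2, Over.comp_left, Over.comp_left]
  simp only [Category.assoc]
  exact _ ≫= (_ ≫= h3)

theorem pairPt_fst (t t' : T ⟶ Red.bc f (DR R)) :
    pairPt t t' ≫ pullback.fst (DR R).hom (DR R).hom = specPt t := by
  rw [pairPt, Category.assoc, Category.assoc, Over.μ_pullback_left_fst_fst, ← Category.assoc]
  congr 1
  rw [← Over.fst_left, ← Over.comp_left, lift_fst]

theorem pairPt_snd (t t' : T ⟶ Red.bc f (DR R)) :
    pairPt t t' ≫ pullback.snd (DR R).hom (DR R).hom = specPt t' := by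
  rw [pairPt, Category.assoc, Category.assoc, Over.μ_pullback_left_fst_snd, ← Category.assoc]
  congr 1
  rw [← Over.snd_left, ← Over.comp_left, lift_snd]

theorem comul_zz :
    Coalgebra.comul (R := R) (zz R) = zz R ⊗ₜ[R] zz R := by
  rw [MonoidAlgebra.comul_single]
  simp

theorem mul_appTop_zz : μ[DR R].left.appTop ((coordIsoR R).inv (zz R)) =
    (pullback.fst (DR R).hom (DR R).hom).appTop ((coordIsoR R).inv (zz R)) *
      (pullback.snd (DR R).hom (DR R).hom).appTop ((coordIsoR R).inv (zz R)) := by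
  let CC : Type u := TensorProduct R (CoordR R) (CoordR R)
  let iL : CoordR R →+* CC := Algebra.TensorProduct.includeLeftRingHom
  let iR : CoordR R →+* CC :=
    ((Algebra.TensorProduct.includeRight (R := R) (A := CoordR R) (B := CoordR R) :
      CoordR R →ₐ[R] CC) : CoordR R →+* CC)
  let fC : Spec (CommRingCat.of (CoordR R)) ⟶ Spec (CommRingCat.of R) :=
    Spec.map (CommRingCat.ofHom (algebraMap R (CoordR R)))
  let psi := pullbackSpecIso R (CoordR R) (CoordR R)
  have hfst : pullback.fst fC fC =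
      psi.hom ≫ Spec.map (CommRingCat.ofHom (R := CoordR R) (S := CC) iL) := by
    rw [← pullbackSpecIso_inv_fst, Iso.hom_inv_id_assoc]
  have hsnd : pullback.snd fC fC =
      psi.hom ≫ Spec.map (CommRingCat.ofHom (R := CoordR R) (S := CC) iR) := by
    rw [← pullbackSpecIso_inv_snd, Iso.hom_inv_id_assoc]
  have hc : (CommRingCat.ofHom (Bialgebra.comulAlgHom R (CoordR R)).toRingHom)
      (zz R) =
      (CommRingCat.ofHom (R := CoordR R) (S := CC) iL) (zz R) *
        (CommRingCat.ofHom (R := CoordR R) (S := CC) iR) (zz R) := by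
    change Coalgebra.comul (R := R) (zz R) =
      (zz R ⊗ₜ[R] (1 : CoordR R)) * ((1 : CoordR R) ⊗ₜ[R] zz R)
    rw [comul_zz, Algebra.TensorProduct.tmul_mul_tmul, _root_.mul_one, _root_.one_mul]
  change (psi.hom ≫ Spec.map (CommRingCat.ofHom
      (Bialgebra.comulAlgHom R (CoordR R)).toRingHom)).appTop
      ((coordIsoR R).inv (zz R)) =
    (pullback.fst fC fC).appTop ((coordIsoR R).inv (zz R)) *
      (pullback.snd fC fC).appTop ((coordIsoR R).inv (zz R))
  rw [hfst, hsnd, appTop_comp_apply, appTop_comp_apply, appTop_comp_apply,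
    specMap_appTop_coordIso_inv, specMap_appTop_coordIso_inv, specMap_appTop_coordIso_inv, hc,
    map_mul, map_mul]

variable (R) (f) (T)

/-- **A1.** `eps` is multiplicative. -/
theorem eps_mul (c c' : T ⟶ Red.bc f (Red.diag R ℤ)) :
    eps R f T (c * c') = eps R f T c * eps R f T c' := by
  have e1 : eps R f T (c * c') =
      (pairPt c c').appTop (μ[DR R].left.appTop ((coordIsoR R).inv (zz R))) := by
    change (specPt (c * c')).appTop ((coordIsoR R).inv (zz R)) = _
    rw [specPt_mul]
    exact appTop_comp_apply _ _ _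
  have h1 : (pairPt c c').appTop ((pullback.fst (DR R).hom (DR R).hom).appTop
      ((coordIsoR R).inv (zz R))) = eps R f T c := by
    have h := appTop_comp_apply (pairPt c c') (pullback.fst (DR R).hom (DR R).hom)
      ((coordIsoR R).inv (zz R))
    rw [pairPt_fst] at h
    exact h.symm
  have h2 : (pairPt c c').appTop ((pullback.snd (DR R).hom (DR R).hom).appTop
      ((coordIsoR R).inv (zz R))) = eps R f T c' := by
    have h := appTop_comp_apply (pairPt c c') (pullback.snd (DR R).hom (DR R).hom)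
      ((coordIsoR R).inv (zz R))
    rw [pairPt_snd] at h
    exact h.symm
  rw [e1, mul_appTop_zz, map_mul]
  exact congrArg₂ (· * ·) h1 h2

end Groth.Agent.Lib.Helper33.SekEpsMul

end
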