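import Mathlib

set_option autoImplicit false
universe v

namespace Groth.Agent.Lib.Helper33.SkewEven

variable {K : Type v} [Field K]

/-- a vector space with a perfect skew-symmetric pairing has even dimension (char ≠ 2) -/
theorem even_finrank_of_skew [CharZero K] {V : Type*} [AddCommGroup V] [Module K V]
    [Module.Finite K V] (B : V →ₗ[K] V →ₗ[K] K) [B.IsPerfPair]
    (hskew : ∀ v w, B v w = - B w v) : Even (Module.finrank K V) := by
  classical
  set b := Module.finBasis K V with hb
  let e : V ≃ₗ[K] Module.Dual K V := B.toPerfPair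
  set M := LinearMap.toMatrix b b.dualBasis (e : V →ₗ[K] Module.Dual K V) with hM
  have hMij : ∀ i j, M i j = B (b j) (b i) := by
    intro i j
    rw [hM, LinearMap.toMatrix_apply, Module.Basis.dualBasis_repr]
    rfl
  have hunit : IsUnit M.det := LinearEquiv.isUnit_det e b b.dualBasis
  have hT : M.transpose = -M := by
    ext i j
    rw [Matrix.transpose_apply, Matrix.neg_apply, hMij, hMij, hskew]
  have hdet : M.det = (-1) ^ (Module.finrank K V) * M.det := by
    conv_lhs => rw [← Matrix.det_transpose, hT, Matrix.det_neg, Fintype.card_fin]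
  by_contra hodd
  rw [Nat.not_even_iff_odd] at hodd
  rw [hodd.neg_one_pow] at hdet
  have h2 : (2 : K) * M.det = 0 := by linear_combination hdet
  have : M.det = 0 := by
    rcases mul_eq_zero.1 h2 with h | h
    · exact absurd h two_ne_zero
    · exact h
  rw [this] at hunit
  exact not_isUnit_zero hunit

/-- alternating sums split into even and odd parts -/
theorem alt_sum_split (a : ℕ → ℤ) (n : ℕ) :
    ∑ i ∈ Finset.range (2 * n + 1), (-1 : ℤ) ^ i * a i =
      ∑ i ∈ Finset.range (n + 1), a (2 * i) - ∑ i ∈ Finset.range n, a (2 * i + 1) := by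
  induction n with
  | zero => simp
  | succ n ih =>
    have h1 : (-1 : ℤ) ^ (2 * n + 1) = -1 := by rw [pow_succ, pow_mul]; simp
    have h2 : (-1 : ℤ) ^ (2 * n + 1 + 1) = 1 := by rw [pow_succ, h1]; simp
    have e1 : ∑ i ∈ Finset.range (2 * (n + 1) + 1), (-1 : ℤ) ^ i * a i =
        ∑ i ∈ Finset.range (2 * n + 1), (-1 : ℤ) ^ i * a i - a (2 * n + 1) + a (2 * n + 2) := by
      rw [show 2 * (n + 1) + 1 = (2 * n + 1) + 1 + 1 by ring, Finset.sum_range_succ,
        Finset.sum_range_succ, h1, h2]
      ring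
    have e2 : ∑ i ∈ Finset.range (n + 1 + 1), a (2 * i) =
        ∑ i ∈ Finset.range (n + 1), a (2 * i) + a (2 * n + 2) := by
      rw [Finset.sum_range_succ, show 2 * (n + 1) = 2 * n + 2 by ring]
    have e3 : ∑ i ∈ Finset.range (n + 1), a (2 * i + 1) =
        ∑ i ∈ Finset.range n, a (2 * i + 1) + a (2 * n + 1) := by
      rw [Finset.sum_range_succ]
    rw [e1, e2, e3, ih]
    ring

/-- a sum symmetric under `i ↦ m - 1 - i` whose middle term (if any) is even is even -/
theorem even_sum_of_symm (f : ℕ → ℕ) (m : ℕ) (hsymm : ∀ i < m, f (m - 1 - i) = f i)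
    (hmid : ∀ i < m, m - 1 - i = i → Even (f i)) : Even (∑ i ∈ Finset.range m, f i) := by
  rw [← ZMod.natCast_eq_zero_iff_even, Nat.cast_sum]
  refine Finset.sum_involution (fun i _ => m - 1 - i) ?_ ?_ ?_ ?_
  · intro i hi
    rw [Finset.mem_range] at hi
    rw [hsymm i hi, ← two_mul]
    have : (2 : ZMod 2) = 0 := rfl
    rw [this, zero_mul]
  · intro i hi hne heq
    rw [Finset.mem_range] at hi
    exact hne ((ZMod.natCast_eq_zero_iff_even).2 (hmid i hi heq))
  · intro i hi
    rw [Finset.mem_range] at hi ⊢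
    omega
  · intro i hi
    rw [Finset.mem_range] at hi
    omega

theorem prod_reflect_odd {M : Type*} [CommMonoid M] (f : ℕ → M) (n : ℕ) :
    ∏ i ∈ Finset.range n, f (2 * n - (2 * i + 1)) = ∏ i ∈ Finset.range n, f (2 * i + 1) := by
  rw [← Finset.prod_range_reflect (fun i => f (2 * i + 1)) n]
  refine Finset.prod_congr rfl fun i hi => ?_
  rw [Finset.mem_range] at hi
  congr 1
  omega

theorem prod_reflect_even {M : Type*} [CommMonoid M] (f : ℕ → M) (n : ℕ) :
    ∏ i ∈ Finset.range (n + 1), f (2 * n - 2 * i) = ∏ i ∈ Finset.range (n + 1), f (2 * i) := by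
  rw [← Finset.prod_range_reflect (fun i => f (2 * i)) (n + 1)]
  refine Finset.prod_congr rfl fun i hi => ?_
  rw [Finset.mem_range] at hi
  congr 1
  omega

end Groth.Agent.Lib.Helper33.SkewEven
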