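import Groth.Agent.Lib.Helper33.SyntLib
import Mathlib.Tactic
import Mathlib.AlgebraicGeometry.AffineScheme
import Mathlib.AlgebraicGeometry.Cover.MorphismProperty
set_option autoImplicit false
universe u
open Polynomial TensorProduct CategoryTheory AlgebraicGeometry

/-! helper33: transfer of `Synt.IsSyntomic`/`IsLCIOver` along algebra isomorphisms; the morphism
`specTo hV B : Spec B ⟶ X` for an algebra `B` over `Γ(X, V)`, `V` affine open, is syntomic if `B` is;
adjoining a `p`-th root of a global section on every affine open. -/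

namespace Groth.Agent.Lib.Helper33.SyntGeom
open Groth.Agent.Lib.Helper33.SyntLib


theorem isLCIOver_of_algEquiv (k : Type u) [Field k] (S S' : Type u) [CommRing S] [Algebra k S]
    [CommRing S'] [Algebra k S'] (e : S ≃ₐ[k] S') (h : Synt.IsLCIOver k S) : Synt.IsLCIOver k S' := by
  obtain ⟨hft, hloc⟩ := h
  refine ⟨hft.equiv e, fun q' => ?_⟩
  obtain ⟨g, hg, hgci⟩ := hloc (PrimeSpectrum.comap e.toAlgHom.toRingHom q')
  refine ⟨e g, hg, ?_⟩
  have H : Submonoid.map e (Submonoid.powers g) = Submonoid.powers (e g) := by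
    rw [Submonoid.map_powers]
  exact isGlobalCI_of_algEquiv k _ _
    (IsLocalization.algEquivOfAlgEquiv (Localization.Away g) (Localization.Away (e g)) e H) hgci

theorem isSyntomic_of_algEquiv (R S S' : Type u) [CommRing R] [CommRing S] [CommRing S'] [Algebra R S]
    [Algebra R S'] (e : S ≃ₐ[R] S') (h : Synt.IsSyntomic R S) : Synt.IsSyntomic R S' := by
  obtain ⟨hflat, hfp, hfib⟩ := h
  refine ⟨Module.Flat.of_linearEquiv e.toLinearEquiv.symm, hfp.equiv e, fun p => ?_⟩
  exact isLCIOver_of_algEquiv _ _ _ (Algebra.TensorProduct.congr AlgEquiv.refl e) (hfib p)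

theorem isSyntomic_of_ringEquiv (R S S' : Type u) [CommRing R] [CommRing S] [CommRing S'] [Algebra R S]
    (ψ : R →+* S') (e : S ≃+* S') (he : ∀ r, e (algebraMap R S r) = ψ r) (h : Synt.IsSyntomic R S) :
    @Synt.IsSyntomic R _ S' _ ψ.toAlgebra := by
  let _ := ψ.toAlgebra
  exact isSyntomic_of_algEquiv R S S' { e with commutes' := he } h

section geom
variable {X : Scheme.{u}} {V : X.Opens} (hV : IsAffineOpen V) (B : Type u) [CommRing B] [Algebra Γ(X, V) B]

/-- The morphism `Spec B ⟶ X` for an algebra `B` over the sections on an affine open. -/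
noncomputable def specTo : Spec (CommRingCat.of B) ⟶ X :=
  Spec.map (CommRingCat.ofHom (algebraMap Γ(X, V) B)) ≫ hV.fromSpec

theorem specTo_le : (⊤ : (Spec (CommRingCat.of B)).Opens) ≤ (specTo hV B) ⁻¹ᵁ V := by
  intro y _
  change (specTo hV B) y ∈ V
  rw [specTo, Scheme.Hom.comp_apply]
  have : Set.range hV.fromSpec = V := hV.range_fromSpec
  have h2 : hV.fromSpec ((Spec.map (CommRingCat.ofHom (algebraMap Γ(X, V) B))) y) ∈ Set.range hV.fromSpec :=
    ⟨_, rfl⟩
  rw [this] at h2
  exact h2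

theorem specTo_appLE :
    (specTo hV B).appLE V ⊤ (specTo_le hV B) =
      CommRingCat.ofHom (algebraMap Γ(X, V) B) ≫ (Scheme.ΓSpecIso (CommRingCat.of B)).inv := by
  have h1 : (specTo hV B).appLE V ⊤ (specTo_le hV B) =
      hV.fromSpec.appLE V ⊤ (by rw [hV.fromSpec_preimage_self]) ≫
        (Spec.map (CommRingCat.ofHom (algebraMap Γ(X, V) B))).appLE ⊤ ⊤ le_top := by
    rw [Scheme.Hom.appLE_comp_appLE]
    rfl
  rw [h1]
  have h2 : hV.fromSpec.appLE V ⊤ (by rw [hV.fromSpec_preimage_self]) = (Scheme.ΓSpecIso Γ(X, V)).inv := by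
    rw [Scheme.Hom.appLE, hV.fromSpec_app_self, Category.assoc, ← Functor.map_comp]
    convert Category.comp_id _
    exact (Spec Γ(X, V)).presheaf.map_id _
  rw [h2]
  have h3 : (Spec.map (CommRingCat.ofHom (algebraMap Γ(X, V) B))).appLE ⊤ ⊤ le_top =
      (Spec.map (CommRingCat.ofHom (algebraMap Γ(X, V) B))).appTop := by
    simp [Scheme.Hom.appLE, Scheme.Hom.appTop]
  rw [h3, Scheme.ΓSpecIso_inv_naturality]
  rfl

end geom


section geom2
variable {X : Scheme.{u}} {V : X.Opens} (hV : IsAffineOpen V) (B : Type u) [CommRing B] [Algebra Γ(X, V) B]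

theorem specTo_isSyntomicMor (h : Synt.IsSyntomic Γ(X, V) B) : Synt.IsSyntomicMor (specTo hV B) := by
  intro y
  refine ⟨⟨⊤, isAffineOpen_top _⟩, ⟨V, hV⟩, specTo_le hV B, trivial, ?_⟩
  refine isSyntomic_of_ringEquiv Γ(X, V) B _ _
    (Scheme.ΓSpecIso (CommRingCat.of B)).symm.commRingCatIsoToRingEquiv ?_ h
  intro r
  rw [specTo_appLE]
  rfl

theorem specTo_range (h : Module.FaithfullyFlat Γ(X, V) B) (x : X) (hx : x ∈ V) :
    ∃ y, specTo hV B y = x := by
  have : Set.range hV.fromSpec = V := hV.range_fromSpec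
  have hx' : x ∈ Set.range hV.fromSpec := this ▸ hx
  obtain ⟨x', rfl⟩ := hx'
  obtain ⟨y, rfl⟩ := PrimeSpectrum.comap_surjective_of_faithfullyFlat (A := Γ(X, V)) (B := B) x'
  exact ⟨y, rfl⟩

end geom2


section main
variable (p : ℕ) (X : Scheme.{u}) (a : Γ(X, ⊤))

noncomputable def aV (V : X.affineOpens) : Γ(X, V.1) := X.presheaf.map (homOfLE le_top).op a

abbrev BV (V : X.affineOpens) : Type u := AdjoinRoot (Polynomial.X ^ p - C (aV X a V) : Γ(X, V.1)[X])

theorem specTo_root (V : X.affineOpens) :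
    ∃ b : Γ(Spec (CommRingCat.of (BV p X a V)), ⊤), b ^ p = (specTo V.2 (BV p X a V)).appTop a := by
  refine ⟨(Scheme.ΓSpecIso (CommRingCat.of (BV p X a V))).inv (AdjoinRoot.root _), ?_⟩
  have h1 : (specTo V.2 (BV p X a V)).appTop a =
      (specTo V.2 (BV p X a V)).appLE V.1 ⊤ (specTo_le V.2 (BV p X a V)) (aV X a V) := by
    have := Scheme.Hom.map_appLE (specTo V.2 (BV p X a V)) (U := V.1) (V := ⊤)
      (specTo_le V.2 (BV p X a V)) (homOfLE le_top).op
    have h2 : (specTo V.2 (BV p X a V)).appTop = (specTo V.2 (BV p X a V)).appLE ⊤ ⊤ le_top := by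
      simp [Scheme.Hom.appLE, Scheme.Hom.appTop]
    rw [h2, ← this]
    rfl
  rw [h1, specTo_appLE, ← map_pow]
  change _ = (Scheme.ΓSpecIso (CommRingCat.of (BV p X a V))).inv (algebraMap _ (BV p X a V) (aV X a V))
  congr 1
  have := AdjoinRoot.eval₂_root (Polynomial.X ^ p - C (aV X a V) : Γ(X, V.1)[X])
  simp only [eval₂_sub, eval₂_pow, eval₂_X, eval₂_C, sub_eq_zero] at this
  exact this

end main


end Groth.Agent.Lib.Helper33.SyntGeom
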