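import Groth.Prelude.Def_RegImm
import Mathlib.Tactic
import Mathlib.RingTheory.AdjoinRoot
import Mathlib.RingTheory.Flat.FaithfullyFlat.Basic
import Mathlib.RingTheory.HopkinsLevitzki
import Mathlib.RingTheory.KrullDimension.Zero
import Mathlib.RingTheory.FinitePresentation
import Mathlib.RingTheory.Localization.Away.Basic
set_option autoImplicit false
universe u
open Polynomial TensorProduct

/-! helper33: syntomic helpers: a finite algebra over a field generated by one element is a global
complete intersection / LCI over the field (Prelude `Synt.IsGlobalCI`, `Synt.IsLCIOver`);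
`K ⊗[A] AdjoinRoot f` is generated by `1 ⊗ root`. -/

namespace Groth.Agent.Lib.Helper33.SyntLib


/-- MvPolynomial in one variable over a field is a PID. -/
instance pir_mvPoly_one (k : Type u) [Field k] : IsPrincipalIdealRing (MvPolynomial (Fin 1) k) := by
  let e : Polynomial k ≃+* MvPolynomial (Fin 1) k :=
    (MvPolynomial.uniqueAlgEquiv k (Fin 1)).symm.toRingEquiv
  exact IsPrincipalIdealRing.of_surjective e.toRingHom e.surjective

theorem isGlobalCI_of_adjoin_singleton (k : Type u) [Field k] (S : Type u) [CommRing S] [Algebra k S]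
    [Module.Finite k S] (t : S) (ht : Algebra.adjoin k {t} = ⊤) : Synt.IsGlobalCI k S := by
  by_cases hS : Subsingleton S
  · exact Or.inl hS
  · rw [not_subsingleton_iff_nontrivial] at hS
    refine Or.inr ⟨1, 1, le_rfl, MvPolynomial.aeval (fun _ : Fin 1 => t), ?_⟩
    have hsurj : Function.Surjective (MvPolynomial.aeval (R := k) (fun _ : Fin 1 => t)) := by
      rw [← AlgHom.range_eq_top, ← Algebra.adjoin_range_eq_range_aeval]
      rw [show Set.range (fun _ : Fin 1 => t) = {t} from Set.range_const]
      exact ht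
    obtain ⟨q, hq⟩ := (IsPrincipalIdealRing.principal
      (RingHom.ker (MvPolynomial.aeval (R := k) (fun _ : Fin 1 => t)).toRingHom)).principal
    refine ⟨fun _ => q, hsurj, ?_, ?_⟩
    · rw [hq, show Set.range (fun _ : Fin 1 => q) = {q} from Set.range_const]
    · have : IsArtinianRing S := IsArtinianRing.of_finite k S
      have h0 : Ring.KrullDimLE 0 S := inferInstance
      rw [Nat.sub_self]
      exact ringKrullDimZero_iff_ringKrullDim_eq_zero.mp h0

theorem isGlobalCI_of_algEquiv (k : Type u) [Field k] (S S' : Type u) [CommRing S] [Algebra k S]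
    [CommRing S'] [Algebra k S'] (e : S ≃ₐ[k] S') (h : Synt.IsGlobalCI k S) : Synt.IsGlobalCI k S' := by
  rcases h with h | ⟨n, c, hc, φ, r, hφ, hker, hdim⟩
  · exact Or.inl (e.symm.toEquiv.subsingleton)
  · refine Or.inr ⟨n, c, hc, e.toAlgHom.comp φ, r, e.surjective.comp hφ, ?_, ?_⟩
    · rw [← hker]
      ext x
      simp only [RingHom.mem_ker]
      change e (φ x) = 0 ↔ φ x = 0
      exact e.map_eq_zero_iff
    · rw [← hdim]
      exact (ringKrullDim_eq_of_ringEquiv e.toRingEquiv).symm

theorem isLCIOver_of_adjoin_singleton (k : Type u) [Field k] (S : Type u) [CommRing S] [Algebra k S]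
    [Module.Finite k S] (t : S) (ht : Algebra.adjoin k {t} = ⊤) : Synt.IsLCIOver k S := by
  refine ⟨⟨{t}, by simpa using ht⟩, fun p => ⟨1, ?_, ?_⟩⟩
  · exact fun h => p.2.ne_top ((Ideal.eq_top_iff_one _).mpr h)
  · have : IsLocalization.Away (1 : S) S := IsLocalization.away_of_isUnit_of_bijective S isUnit_one Function.bijective_id
    let e : S ≃ₐ[S] Localization.Away (1 : S) := IsLocalization.algEquiv (Submonoid.powers (1 : S)) S _
    exact isGlobalCI_of_algEquiv k S _ (e.restrictScalars k) (isGlobalCI_of_adjoin_singleton k S t ht)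


theorem adjoin_tmul_root (A : Type u) [CommRing A] (K : Type u) [Field K] [Algebra A K] (f : A[X]) :
    Algebra.adjoin K {((1 : K) ⊗ₜ[A] AdjoinRoot.root f : K ⊗[A] AdjoinRoot f)} = ⊤ := by
  rw [eq_top_iff]
  rintro x -
  induction x using TensorProduct.induction_on with
  | zero => exact Subalgebra.zero_mem _
  | add x y hx hy => exact Subalgebra.add_mem _ hx hy
  | tmul c s =>
    have h1 : (1 : K) ⊗ₜ[A] s ∈ Algebra.adjoin K {((1 : K) ⊗ₜ[A] AdjoinRoot.root f : K ⊗[A] AdjoinRoot f)} := by
      have hs : s ∈ Algebra.adjoin A ({AdjoinRoot.root f} : Set (AdjoinRoot f)) := by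
        rw [AdjoinRoot.adjoinRoot_eq_top]; trivial
      induction hs using Algebra.adjoin_induction with
      | mem x hx =>
        rw [Set.mem_singleton_iff] at hx
        subst hx
        exact Algebra.subset_adjoin rfl
      | algebraMap r =>
        rw [Algebra.algebraMap_eq_smul_one, ← TensorProduct.smul_tmul, Algebra.smul_def, mul_one]
        have : (algebraMap A K r ⊗ₜ[A] (1 : AdjoinRoot f) : K ⊗[A] AdjoinRoot f) =
            algebraMap K (K ⊗[A] AdjoinRoot f) (algebraMap A K r) := rfl
        rw [this]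
        exact Subalgebra.algebraMap_mem _ _
      | add x y _ _ hx hy => rw [TensorProduct.tmul_add]; exact Subalgebra.add_mem _ hx hy
      | mul x y _ _ hx hy =>
        have : (1 : K) ⊗ₜ[A] (x * y) = ((1 : K) ⊗ₜ[A] x) * ((1 : K) ⊗ₜ[A] y) := by
          rw [Algebra.TensorProduct.tmul_mul_tmul, one_mul]
        rw [this]; exact Subalgebra.mul_mem _ hx hy
    have : c ⊗ₜ[A] s = c • ((1 : K) ⊗ₜ[A] s) := by
      rw [TensorProduct.smul_tmul', smul_eq_mul, mul_one]
    rw [this]
    exact Subalgebra.smul_mem _ h1 c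


/-- `A[T]/(T^p - a)` is syntomic and faithfully flat over `A`. -/
theorem adjoinRoot_pow_sub_C_syntomic (p : ℕ) (hp : p ≠ 0)
    (A : Type u) [CommRing A] (a : A) :
    Synt.IsSyntomic A (AdjoinRoot (X ^ p - C a)) ∧ Module.FaithfullyFlat A (AdjoinRoot (X ^ p - C a)) := by
  have hmonic : (X ^ p - C a : A[X]).Monic := monic_X_pow_sub_C a hp
  have hfree : Module.Free A (AdjoinRoot (X ^ p - C a)) :=
    Module.Free.of_basis (AdjoinRoot.powerBasis' hmonic).basis
  have hfin : Module.Finite A (AdjoinRoot (X ^ p - C a)) := (AdjoinRoot.powerBasis' hmonic).finite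
  refine ⟨⟨inferInstance, ?_, ?_⟩, ?_⟩
  · exact Algebra.FinitePresentation.quotient ⟨{X ^ p - C a}, by simp⟩
  · intro q
    have : Module.Finite q.asIdeal.ResidueField (q.asIdeal.Fiber (AdjoinRoot (X ^ p - C a))) :=
      Module.Finite.base_change _ _ _
    exact isLCIOver_of_adjoin_singleton _ _ _ (adjoin_tmul_root A q.asIdeal.ResidueField _)
  · by_cases hA : Subsingleton A
    · exact ⟨fun m hm => absurd (Subsingleton.elim m ⊤) hm.ne_top⟩
    · rw [not_subsingleton_iff_nontrivial] at hA
      have hdim : (AdjoinRoot.powerBasis' hmonic).dim = p := by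
        rw [AdjoinRoot.powerBasis'_dim, natDegree_X_pow_sub_C]
      have : Nontrivial (AdjoinRoot (X ^ p - C a)) :=
        ⟨⟨(AdjoinRoot.powerBasis' hmonic).basis ⟨0, by rw [hdim]; exact Nat.pos_of_ne_zero hp⟩, 0,
          Module.Basis.ne_zero _ _⟩⟩
      infer_instance


end Groth.Agent.Lib.Helper33.SyntLib
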