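import Mathlib.CategoryTheory.Monoidal.Cartesian.Grp
import Mathlib.Tactic.Group

/-!
# The trivial principal bundle `X ⊗ G` in a cartesian monoidal category (formal computations)

Equivariant endomorphisms of `X ⊗ G` over `X` are left translations by a morphism `X ⟶ G`;
linearizations of the trivial bundle for a group acting on `X` correspond to 1-cocycles.
Everything is a Yoneda-style computation on points.
-/

set_option autoImplicit false
set_option linter.unusedSectionVars false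
universe v u
open CategoryTheory MonoidalCategory CartesianMonoidalCategory MonObj GrpObj

namespace Groth.Agent.Lib.Helper33.TrivBundle

variable {C : Type u} [Category.{v} C] [CartesianMonoidalCategory C] {G X : C} [GrpObj G]

/-- The translation part of an endomorphism of `X ⊗ G`: the image of `(x, 1)`. -/
def transl (Φ : X ⊗ G ⟶ X ⊗ G) : X ⟶ G := lift (𝟙 X) 1 ≫ Φ ≫ snd X G

lemma comp_transl (Φ : X ⊗ G ⟶ X ⊗ G) {T : C} (x : T ⟶ X) :
    x ≫ transl Φ = lift x 1 ≫ Φ ≫ snd X G := by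
  unfold transl
  rw [← Category.assoc, comp_lift, Category.comp_id, MonObj.comp_one]

/-- Points of `X ⊗ G` are pairs. -/
lemma eq_lift {T : C} (y : T ⟶ X ⊗ G) : y = lift (y ≫ fst X G) (y ≫ snd X G) := by
  ext <;> simp

/-- Morphisms out of `X ⊗ G` are determined on pairs. -/
lemma hom_ext_pairs {Z : C} {a b : X ⊗ G ⟶ Z}
    (h : ∀ (T : C) (x : T ⟶ X) (g : T ⟶ G), lift x g ≫ a = lift x g ≫ b) : a = b := by
  have := h (X ⊗ G) (fst X G) (snd X G)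
  rwa [lift_fst_snd, Category.id_comp, Category.id_comp] at this

/-- An equivariant endomorphism over `X` is the left translation by `transl Φ`. -/
theorem apply_eq (Φ : X ⊗ G ⟶ X ⊗ G) (h₁ : Φ ≫ fst X G = fst X G)
    (h₂ : ∀ (T : C) (x : T ⟶ X) (g h : T ⟶ G),
      lift x (g * h) ≫ Φ ≫ snd X G = (lift x g ≫ Φ ≫ snd X G) * h)
    {T : C} (x : T ⟶ X) (g : T ⟶ G) :
    lift x g ≫ Φ = lift x ((x ≫ transl Φ) * g) := by
  ext
  · rw [Category.assoc, h₁, lift_fst, lift_fst]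
  · rw [Category.assoc, lift_snd, comp_transl, ← h₂, _root_.one_mul]


/-- An equivariant endomorphism lying over `r : X ⟶ X` is `(x, g) ↦ (r x, transl Φ x · g)`. -/
theorem apply_eq' (Φ : X ⊗ G ⟶ X ⊗ G) (r : X ⟶ X) (h₁ : Φ ≫ fst X G = fst X G ≫ r)
    (h₂ : ∀ (T : C) (x : T ⟶ X) (g h : T ⟶ G),
      lift x (g * h) ≫ Φ ≫ snd X G = (lift x g ≫ Φ ≫ snd X G) * h)
    {T : C} (x : T ⟶ X) (g : T ⟶ G) :
    lift x g ≫ Φ = lift (x ≫ r) ((x ≫ transl Φ) * g) := by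
  ext
  · rw [Category.assoc, h₁, lift_fst, ← Category.assoc, lift_fst]
  · rw [Category.assoc, lift_snd, comp_transl, ← h₂, _root_.one_mul]

section Linearization

variable {Γ : Type*} [Group Γ] (ρ : Γ → (X ⟶ X)) (hρ₁ : ρ 1 = 𝟙 X)
  (hρ : ∀ σ τ : Γ, ρ (σ * τ) = ρ σ ≫ ρ τ)

include hρ₁ in
/-- A cocycle is trivial at the identity. -/
lemma cocycle_one (φ : Γ → (X ⟶ G)) (hφ : ∀ σ τ : Γ, φ (σ * τ) = φ σ * (ρ σ ≫ φ τ)) :
    φ 1 = 1 := by
  have h := hφ 1 1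
  rw [_root_.mul_one, hρ₁, Category.id_comp] at h
  exact mul_eq_left.mp h.symm

include hρ₁ hρ in
/-- From a cocycle to a linearization (S14880). -/
theorem linearization_of_cocycle (φ : Γ → (X ⟶ G))
    (hφ : ∀ σ τ : Γ, φ (σ * τ) = φ σ * (ρ σ ≫ φ τ))
    (lam : Γ → (X ⊗ G ⟶ X ⊗ G))
    (hlam : ∀ (σ : Γ) (T : C) (x : T ⟶ X) (g : T ⟶ G),
      lift x g ≫ lam σ = lift (x ≫ ρ σ) ((x ≫ φ σ)⁻¹ * g)) :
    lam 1 = 𝟙 (X ⊗ G) ∧ (∀ σ τ : Γ, lam (σ * τ) = lam σ ≫ lam τ) ∧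
      (∀ σ : Γ, lam σ ≫ fst X G = fst X G ≫ ρ σ) ∧
      ∀ (σ : Γ) (T : C) (x : T ⟶ X) (g h : T ⟶ G),
        lift x (g * h) ≫ lam σ ≫ snd X G = (lift x g ≫ lam σ ≫ snd X G) * h := by
  have h1 : φ 1 = 1 := cocycle_one ρ hρ₁ φ hφ
  refine ⟨?_, ?_, ?_, ?_⟩
  · apply hom_ext_pairs
    intro T x g
    rw [hlam, hρ₁, h1, Category.comp_id, Category.comp_id, MonObj.comp_one, inv_one,
      _root_.one_mul]
  · intro σ τ
    apply hom_ext_pairs
    intro T x g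
    rw [hlam, ← Category.assoc, hlam, hlam, hρ, hφ, MonObj.comp_mul, _root_.mul_inv_rev,
      Category.assoc, Category.assoc, _root_.mul_assoc]
  · intro σ
    apply hom_ext_pairs
    intro T x g
    rw [← Category.assoc, hlam, lift_fst, ← Category.assoc, lift_fst]
  · intro σ T x g h
    rw [← Category.assoc, hlam, lift_snd, ← Category.assoc, hlam, lift_snd, _root_.mul_assoc]


include hρ₁ hρ in
/-- From a linearization to its unique cocycle (S14881). -/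
theorem existsUnique_cocycle (lam : Γ → (X ⊗ G ⟶ X ⊗ G))
    (hlam : ∀ σ τ : Γ, lam (σ * τ) = lam σ ≫ lam τ)
    (hfst : ∀ σ : Γ, lam σ ≫ fst X G = fst X G ≫ ρ σ)
    (hG : ∀ (σ : Γ) (T : C) (x : T ⟶ X) (g h : T ⟶ G),
      lift x (g * h) ≫ lam σ ≫ snd X G = (lift x g ≫ lam σ ≫ snd X G) * h) :
    ∃! φ : Γ → (X ⟶ G), (∀ σ τ : Γ, φ (σ * τ) = φ σ * (ρ σ ≫ φ τ)) ∧
      ∀ (σ : Γ) (T : C) (x : T ⟶ X) (g : T ⟶ G),
        lift x g ≫ lam σ = lift (x ≫ ρ σ) ((x ≫ φ σ)⁻¹ * g) := by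
  have key : ∀ (σ : Γ) (T : C) (x : T ⟶ X) (g : T ⟶ G),
      lift x g ≫ lam σ = lift (x ≫ ρ σ) ((x ≫ transl (lam σ)) * g) :=
    fun σ T x g => apply_eq' (lam σ) (ρ σ) (hfst σ) (hG σ) x g
  have ht : ∀ σ τ : Γ, transl (lam (σ * τ)) = (ρ σ ≫ transl (lam τ)) * transl (lam σ) := by
    intro σ τ
    have h1 : transl (lam (σ * τ)) = lift (𝟙 X) 1 ≫ lam σ ≫ lam τ ≫ snd X G := by
      unfold transl
      rw [hlam, Category.assoc]
    rw [h1, ← Category.assoc, key, ← Category.assoc, key, lift_snd, Category.id_comp,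
      Category.id_comp, _root_.mul_one]
  refine ⟨fun σ => (transl (lam σ))⁻¹, ⟨?_, ?_⟩, ?_⟩
  · intro σ τ
    show (transl (lam (σ * τ)))⁻¹ = (transl (lam σ))⁻¹ * (ρ σ ≫ (transl (lam τ))⁻¹)
    rw [ht, _root_.mul_inv_rev, GrpObj.comp_inv]
  · intro σ T x g
    rw [key]
    show _ = lift (x ≫ ρ σ) ((x ≫ (transl (lam σ))⁻¹)⁻¹ * g)
    rw [GrpObj.comp_inv, _root_.inv_inv]
  · rintro φ' ⟨-, hf⟩
    funext σ
    have h2 := congrArg (· ≫ snd X G) (hf σ X (𝟙 X) 1)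
    simp only [Category.assoc, lift_snd, Category.id_comp, _root_.mul_one] at h2
    have h3 : transl (lam σ) = (φ' σ)⁻¹ := h2
    show φ' σ = (transl (lam σ))⁻¹
    rw [h3, _root_.inv_inv]

/-- Isomorphism of linearizations of the trivial bundle ↔ cohomologous cocycles (S14882). -/
theorem iso_iff_cohomologous (φ φ' : Γ → (X ⟶ G)) (lam lam' : Γ → (X ⊗ G ⟶ X ⊗ G))
    (hlam : ∀ (σ : Γ) (T : C) (x : T ⟶ X) (g : T ⟶ G),
      lift x g ≫ lam σ = lift (x ≫ ρ σ) ((x ≫ φ σ)⁻¹ * g))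
    (hlam' : ∀ (σ : Γ) (T : C) (x : T ⟶ X) (g : T ⟶ G),
      lift x g ≫ lam' σ = lift (x ≫ ρ σ) ((x ≫ φ' σ)⁻¹ * g)) :
    (∃ Φ : X ⊗ G ⟶ X ⊗ G, IsIso Φ ∧ Φ ≫ fst X G = fst X G ∧
      (∀ (T : C) (x : T ⟶ X) (g h : T ⟶ G),
        lift x (g * h) ≫ Φ ≫ snd X G = (lift x g ≫ Φ ≫ snd X G) * h) ∧
      ∀ σ : Γ, lam σ ≫ Φ = Φ ≫ lam' σ) ↔
    ∃ ψ : X ⟶ G, ∀ σ : Γ, φ σ = ψ⁻¹ * φ' σ * (ρ σ ≫ ψ) := by
  constructor
  · rintro ⟨Φ, -, h₁, h₂, hint⟩
    have key := fun (T : C) (x : T ⟶ X) (g : T ⟶ G) => apply_eq Φ h₁ h₂ x g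
    refine ⟨transl Φ, fun σ => ?_⟩
    have keyS : ∀ (T : C) (x : T ⟶ X) (g : T ⟶ G),
        lift x g ≫ Φ ≫ snd X G = (x ≫ transl Φ) * g := by
      intro T x g
      rw [← Category.assoc, key, lift_snd]
    have L : lift (𝟙 X) 1 ≫ (lam σ ≫ Φ) ≫ snd X G = (ρ σ ≫ transl Φ) * (φ σ)⁻¹ := by
      rw [Category.assoc, ← Category.assoc, hlam, keyS, Category.id_comp, Category.id_comp,
        _root_.mul_one]
    have R : lift (𝟙 X) 1 ≫ (Φ ≫ lam' σ) ≫ snd X G = (φ' σ)⁻¹ * transl Φ := by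
      rw [Category.assoc, ← Category.assoc, key, ← Category.assoc, hlam', lift_snd,
        Category.id_comp, Category.id_comp, _root_.mul_one]
    rw [hint σ] at L
    have h3 := L.symm.trans R
    rw [mul_inv_eq_iff_eq_mul] at h3
    rw [h3]
    group
  · rintro ⟨ψ, hψ⟩
    have hΦ : ∀ (T : C) (x : T ⟶ X) (g : T ⟶ G),
        lift x g ≫ lift (fst X G) ((fst X G ≫ ψ) * snd X G) = lift x ((x ≫ ψ) * g) := by
      intro T x g
      rw [comp_lift, MonObj.comp_mul, ← Category.assoc, lift_fst, lift_snd]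
    have hΨ : ∀ (T : C) (x : T ⟶ X) (g : T ⟶ G),
        lift x g ≫ lift (fst X G) ((fst X G ≫ ψ)⁻¹ * snd X G) = lift x ((x ≫ ψ)⁻¹ * g) := by
      intro T x g
      rw [comp_lift, MonObj.comp_mul, GrpObj.comp_inv, ← Category.assoc, lift_fst, lift_snd]
    refine ⟨lift (fst X G) ((fst X G ≫ ψ) * snd X G),
      ⟨lift (fst X G) ((fst X G ≫ ψ)⁻¹ * snd X G), ?_, ?_⟩, lift_fst _ _, ?_, ?_⟩
    · apply hom_ext_pairs
      intro T x g
      rw [← Category.assoc, hΦ, hΨ, Category.comp_id, inv_mul_cancel_left]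
    · apply hom_ext_pairs
      intro T x g
      rw [← Category.assoc, hΨ, hΦ, Category.comp_id, mul_inv_cancel_left]
    · intro T x g h
      rw [← Category.assoc, hΦ, lift_snd, ← Category.assoc, hΦ, lift_snd, _root_.mul_assoc]
    · intro σ
      apply hom_ext_pairs
      intro T x g
      rw [← Category.assoc, hlam, hΦ, ← Category.assoc, hΦ, hlam', hψ σ]
      congr 1
      rw [MonObj.comp_mul, MonObj.comp_mul, GrpObj.comp_inv, Category.assoc]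
      group

end Linearization

end Groth.Agent.Lib.Helper33.TrivBundle
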