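import Mathlib.Tactic
import Groth.Prelude.Def_WeilCoh

/-!
# Helper33: formal consequences of the axioms of a Weil cohomology theory (`WeilCoh.TheoryOn`)

* `tr_mul_eq_zero`: the trace of a product of homogeneous classes vanishes unless degrees add to `2 dim`.
* `tr_push_mul`, `tr_push_mul'`: the defining identity `tr_Y (f_* a * b) = tr_X (a * f^* b)` of the
  push-forward, for `b` of complementary degree and for every `b`.
* `eq_zero_of_tr_mul`, `eq_of_tr_mul`: Poincaré duality as a non-degeneracy statement.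
-/

set_option autoImplicit false
universe u v w

open CategoryTheory AlgebraicGeometry

namespace Groth.Agent.Lib.Helper33.WeilLib

open WeilCoh

variable {k : Type u} [Field k] {P : ObjectProperty (Over (Spec (CommRingCat.of k)))}
variable {K : Type v} [Field K] (T : TheoryOn.{u, v, w} k P K)

theorem tr_mul_eq_zero {X : P.FullSubcategory} {i j : ℤ} {a b : T.H X}
    (ha : a ∈ T.gr X i) (hb : b ∈ T.gr X j) (h : i + j ≠ 2 * (dim X.obj.left : ℤ)) :
    T.tr X (a * b) = 0 :=
  T.tr_vanish X (i + j) (a * b) (SetLike.mul_mem_graded ha hb) h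

/-- every class is a sum of homogeneous ones: induction principle -/
theorem hom_induction {X : P.FullSubcategory} {motive : T.H X → Prop}
    (hom : ∀ (j : ℤ) (b : T.H X), b ∈ T.gr X j → motive b) (zero : motive 0)
    (add : ∀ b c, motive b → motive c → motive (b + c)) (b : T.H X) : motive b := by
  have htop : (⨆ j, T.gr X j) = ⊤ := (T.decomp X).submodule_iSup_eq_top
  have hb : b ∈ ⨆ j, T.gr X j := by rw [htop]; trivial
  induction hb using Submodule.iSup_induction' with
  | mem j x hx => exact hom j x hx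
  | zero => exact zero
  | add x y _ _ hx hy => exact add x y hx hy

theorem tr_push_mul {X Y : P.FullSubcategory} (f : X ⟶ Y) (i : ℤ) (a : T.gr X i)
    (b : T.gr Y (2 * (dim X.obj.left : ℤ) - i)) :
    T.tr Y ((T.push f i a : T.H Y) * (b : T.H Y)) = T.tr X ((a : T.H X) * T.pull f (b : T.H Y)) := by
  haveI := T.duality Y (i + 2 * (dim Y.obj.left : ℤ) - 2 * (dim X.obj.left : ℤ))
    (2 * (dim X.obj.left : ℤ) - i) (by omega)
  have h := LinearMap.apply_symm_toPerfPair_self
    (pairing K (T.gr Y (i + 2 * (dim Y.obj.left : ℤ) - 2 * (dim X.obj.left : ℤ)))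
      (T.gr Y (2 * (dim X.obj.left : ℤ) - i)) (T.tr Y)) (T.pushFunctional f i a)
  exact LinearMap.congr_fun h b

theorem tr_push_mul' {X Y : P.FullSubcategory} (f : X ⟶ Y) (i : ℤ) (a : T.gr X i) (b : T.H Y) :
    T.tr Y ((T.push f i a : T.H Y) * b) = T.tr X ((a : T.H X) * T.pull f b) := by
  induction b using hom_induction T with
  | hom j b hb =>
    by_cases hj : j = 2 * (dim X.obj.left : ℤ) - i
    · subst hj
      exact tr_push_mul T f i a ⟨b, hb⟩
    · rw [tr_mul_eq_zero T (T.push f i a).2 hb (by omega),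
        tr_mul_eq_zero T a.2 (T.pull_mem f j b hb) (by omega)]
  | zero => simp
  | add b c hb hc => rw [mul_add, map_add, map_add, mul_add, map_add, hb, hc]

theorem eq_zero_of_tr_mul {Y : P.FullSubcategory} {m : ℤ} {y : T.H Y} (hy : y ∈ T.gr Y m)
    (h : ∀ b ∈ T.gr Y (2 * (dim Y.obj.left : ℤ) - m), T.tr Y (y * b) = 0) : y = 0 := by
  have hperf := T.duality Y m (2 * (dim Y.obj.left : ℤ) - m) (by omega)
  have hinj := (LinearMap.IsPerfPair.bijective_left
    (pairing K (T.gr Y m) (T.gr Y (2 * (dim Y.obj.left : ℤ) - m)) (T.tr Y))).1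
  have h0 : (pairing K (T.gr Y m) (T.gr Y (2 * (dim Y.obj.left : ℤ) - m)) (T.tr Y)) ⟨y, hy⟩ =
      (pairing K (T.gr Y m) (T.gr Y (2 * (dim Y.obj.left : ℤ) - m)) (T.tr Y)) 0 := by
    rw [map_zero]
    apply LinearMap.ext
    intro b
    exact h b b.2
  have := hinj h0
  exact congrArg Subtype.val this

theorem eq_of_tr_mul {Y : P.FullSubcategory} {m : ℤ} {y y' : T.H Y} (hy : y ∈ T.gr Y m)
    (hy' : y' ∈ T.gr Y m)
    (h : ∀ b ∈ T.gr Y (2 * (dim Y.obj.left : ℤ) - m), T.tr Y (y * b) = T.tr Y (y' * b)) : y = y' := by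
  rw [← sub_eq_zero]
  refine eq_zero_of_tr_mul T (Submodule.sub_mem _ hy hy') fun b hb => ?_
  rw [sub_mul, map_sub, h b hb, sub_self]

theorem finrank_top (X : P.FullSubcategory) :
    Module.finrank K (T.gr X (2 * (dim X.obj.left : ℤ))) = 1 := by
  have e := LinearEquiv.ofBijective _ (T.tr_bijective X)
  rw [e.finrank_eq, Module.finrank_self]

theorem finrank_zero (X : P.FullSubcategory) : Module.finrank K (T.gr X 0) = 1 := by
  have := T.duality X 0 (2 * (dim X.obj.left : ℤ)) (by omega)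
  rw [Module.finrank_of_isPerfPair (pairing K (T.gr X 0) (T.gr X (2 * (dim X.obj.left : ℤ))) (T.tr X)),
    finrank_top]

theorem exists_top_tr_one (X : P.FullSubcategory) :
    ∃ a : T.H X, a ∈ T.gr X (2 * (dim X.obj.left : ℤ)) ∧ T.tr X a = 1 := by
  obtain ⟨a, ha⟩ := (T.tr_bijective X).2 1
  exact ⟨a, a.2, ha⟩

theorem one_ne_zero' (X : P.FullSubcategory) : (1 : T.H X) ≠ 0 := by
  obtain ⟨a, -, ha⟩ := exists_top_tr_one T X
  intro h
  have : a = 0 := by rw [← mul_one a, h, mul_zero]
  rw [this, map_zero] at ha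
  exact zero_ne_one ha

theorem one_mem (X : P.FullSubcategory) : (1 : T.H X) ∈ T.gr X 0 := SetLike.one_mem_graded (T.gr X)

theorem algebraMap_mem (X : P.FullSubcategory) (c : K) : algebraMap K (T.H X) c ∈ T.gr X 0 := by
  rw [Algebra.algebraMap_eq_smul_one]
  exact (T.gr X 0).smul_mem c (one_mem T X)

/-- `H^0(X) = K · 1` -/
theorem exists_smul_one_of_mem_zero {X : P.FullSubcategory} {a : T.H X} (ha : a ∈ T.gr X 0) :
    ∃ c : K, a = c • (1 : T.H X) := by
  have hv0 : (⟨1, one_mem T X⟩ : T.gr X 0) ≠ 0 := fun h => one_ne_zero' T X (congrArg Subtype.val h)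
  obtain ⟨c, hc⟩ := (finrank_eq_one_iff_of_nonzero' _ hv0).1 (finrank_zero T X) ⟨a, ha⟩
  exact ⟨c, (congrArg Subtype.val hc).symm⟩

include T in
/-- the dimension of a product is the sum of the dimensions (a formal consequence of `tr_prod`
and `tr_vanish`) -/
theorem dim_prod {X Y Q : P.FullSubcategory} (p : Q ⟶ X) (q : Q ⟶ Y) (hQ : IsProd p q) :
    (dim Q.obj.left : ℤ) = dim X.obj.left + dim Y.obj.left := by
  obtain ⟨a, ha, hta⟩ := exists_top_tr_one T X
  obtain ⟨b, hb, htb⟩ := exists_top_tr_one T Y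
  have h1 := T.tr_prod p q hQ a b ha hb
  rw [hta, htb, mul_one] at h1
  by_contra hne
  have := tr_mul_eq_zero T (T.pull_mem p _ a ha) (T.pull_mem q _ b hb) (by omega)
  rw [this] at h1
  exact zero_ne_one h1

theorem eq_zero_of_mem_of_vanish {X : P.FullSubcategory} {i : ℤ} {a : T.H X} (ha : a ∈ T.gr X i)
    (h : i < 0 ∨ 2 * (dim X.obj.left : ℤ) < i) : a = 0 := by
  rw [T.vanish X i h] at ha
  exact (Submodule.mem_bot K).1 ha

end Groth.Agent.Lib.Helper33.WeilLib
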