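import Mathlib.Tactic
import Mathlib.AlgebraicGeometry.AlgClosed.Basic
import Groth.Prelude.Def_WeilCoh

set_option autoImplicit false
universe u v w

open CategoryTheory AlgebraicGeometry Limits

namespace Groth.Agent.Lib.Helper33.WeilPt

open WeilCoh

/-- a ring hom from the degree-zero localization away from `X 0` to `R`: evaluate all variables at `1` -/
noncomputable def evalOne (n : ℕ) (R : Type u) [CommRing R] :
    HomogeneousLocalization.Away (CohB1.polyGrading n R) (MvPolynomial.X 0) →+* R :=
  (IsLocalization.Away.lift (S := Localization.Away (MvPolynomial.X 0 : MvPolynomial (Fin (n + 1)) R))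
    (MvPolynomial.X (0 : Fin (n + 1)) : MvPolynomial (Fin (n + 1)) R)
    (g := (MvPolynomial.eval (fun _ => (1 : R)))) (by simp)).comp
    (algebraMap _ _)

/-- an `R`-point of projective space -/
noncomputable def ptProj (n : ℕ) (R : Type u) [CommRing R] :
    Spec (CommRingCat.of R) ⟶ CohB1.ProjSpace n R :=
  Spec.map (CommRingCat.ofHom (evalOne n R)) ≫
    Proj.awayι (CohB1.polyGrading n R) (MvPolynomial.X 0) (m := 1)
      (MvPolynomial.isHomogeneous_X R 0) Nat.one_pos


section Dim

theorem natDim_of_subsingleton (T : Type u) [TopologicalSpace T] [Subsingleton T] : natDim T = 0 := by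
  have h := topologicalKrullDim_zero_of_discreteTopology T
  unfold natDim
  generalize topologicalKrullDim T = d at h
  induction d using WithBot.recBotCoe with
  | bot => rfl
  | coe a =>
    have : a ≤ 0 := by exact_mod_cast h
    have : a = 0 := le_antisymm this bot_le
    subst this
    rfl

theorem natDim_set_congr {T : Type u} [TopologicalSpace T] {S S' : Set T} (h : S = S') :
    natDim ↥S = natDim ↥S' := by
  subst h; rfl

theorem natDim_univ (T : Type u) [TopologicalSpace T] : natDim ↥(Set.univ : Set T) = natDim T := by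
  unfold natDim
  rw [IsHomeomorph.topologicalKrullDim_eq _ (Homeomorph.Set.univ T).isHomeomorph]

theorem pdim_genericPoint (X : Scheme.{u}) [IrreducibleSpace X] :
    pdim X (genericPoint X) = dim X := by
  unfold pdim dim
  rw [natDim_set_congr (genericPoint_spec X).def, natDim_univ]

theorem codim_genericPoint (X : Scheme.{u}) [IrreducibleSpace X] :
    codim X (genericPoint X) = 0 := by
  unfold codim
  rw [pdim_genericPoint]; simp

theorem pdim_of_isClosed (X : Scheme.{u}) (x : X) (hx : IsClosed ({x} : Set X)) : pdim X x = 0 := by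
  unfold pdim
  rw [natDim_set_congr hx.closure_eq]
  exact natDim_of_subsingleton _

end Dim

variable (k : Type u) [Field k]

/-- `Spec k` over itself -/
noncomputable def ptOver : Over (Spec (CommRingCat.of k)) := Over.mk (𝟙 _)

noncomputable def ptImm : (ptOver k).left ⟶ CohB1.ProjSpaceOver 0 (Spec (CommRingCat.of k)) :=
  pullback.lift (specULiftZIsTerminal.from _ ≫ ptProj 0 (ULift.{u} ℤ)) (𝟙 _)
    (specULiftZIsTerminal.hom_ext _ _)

theorem ptImm_toBase : ptImm k ≫ CohB1.ProjSpaceOver.toBase 0 (Spec (CommRingCat.of k)) = 𝟙 _ :=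
  pullback.lift_snd _ _ _

theorem isVar_pt : IsVar k (ptOver k) := by
  refine ⟨?_, ⟨0, ptImm k, ?_, ptImm_toBase k⟩, ?_⟩
  · show Smooth (𝟙 _)
    infer_instance
  · haveI : Subsingleton ↥(Spec (CommRingCat.of k)) :=
      inferInstanceAs (Subsingleton (PrimeSpectrum k))
    exact isClosedImmersion_of_comp_eq_id (Y := Spec (CommRingCat.of k)) _ _ (ptImm_toBase k)
  · show IrreducibleSpace ↥(Spec (CommRingCat.of k))
    infer_instance

/-- the point `Spec k` as an object of `WeilCoh.Var k` -/
noncomputable def pt : Var k := ⟨ptOver k, isVar_pt k⟩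

instance : Subsingleton ↥(pt k).obj.left := inferInstanceAs (Subsingleton (PrimeSpectrum k))

theorem dim_pt : dim (pt k).obj.left = 0 := natDim_of_subsingleton _

theorem pdim_pt (w : (pt k).obj.left) : pdim (pt k).obj.left w = 0 := natDim_of_subsingleton _

/-- the structure morphism to the point -/
noncomputable def toPt (X : Var k) : X ⟶ pt k :=
  ObjectProperty.homMk (Over.homMk X.obj.hom (by simp [pt, ptOver]))

@[simp] theorem sm_toPt (X : Var k) : sm (toPt k X) = X.obj.hom := rfl

section ResidueDegree

variable {k} [IsAlgClosed k]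

theorem residueFieldMap_surjective {X : Scheme.{u}} (f : X ⟶ Spec (CommRingCat.of k))
    [LocallyOfFiniteType f] (x : X) (hx : IsClosed ({x} : Set X)) :
    Function.Surjective (f.residueFieldMap x).hom := by
  set ι := Spec.preimage ((Spec (CommRingCat.of k)).fromSpecResidueField (f x)) with hι
  have h1 : ι ≫ f.residueFieldMap x = (residueFieldIsoBase f x hx).inv := by
    apply Spec.map_injective
    rw [Spec.map_comp, hι, Spec.map_preimage, Scheme.Hom.SpecMap_residueFieldMap_fromSpecResidueField,
      SpecMap_residueFieldIsoBase_inv]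
  intro y
  refine ⟨ι.hom ((residueFieldIsoBase f x hx).hom.hom y), ?_⟩
  have := congrArg (fun g : CommRingCat.of k ⟶ X.residueField x =>
    g.hom ((residueFieldIsoBase f x hx).hom.hom y)) h1
  simp only [CommRingCat.hom_comp, RingHom.comp_apply] at this
  rw [this]
  have h2 := congrArg (fun g : X.residueField x ⟶ X.residueField x => g.hom y)
    (residueFieldIsoBase f x hx).hom_inv_id
  simpa using h2

theorem residueDegree_closedPoint {X : Scheme.{u}} (f : X ⟶ Spec (CommRingCat.of k))
    [LocallyOfFiniteType f] (x : X) (hx : IsClosed ({x} : Set X)) : f.residueDegree x = 1 := by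
  unfold Scheme.Hom.residueDegree
  letI := (f.residueFieldMap x).hom.toAlgebra
  have hbij : Function.Bijective (algebraMap ((Spec (CommRingCat.of k)).residueField (f x))
      (X.residueField x)) :=
    ⟨(f.residueFieldMap x).hom.injective, residueFieldMap_surjective f x hx⟩
  have e := LinearEquiv.ofBijective
    (Algebra.linearMap ((Spec (CommRingCat.of k)).residueField (f x)) (X.residueField x)) hbij
  rw [← e.finrank_eq, Module.finrank_self]

end ResidueDegree

section Point
variable {k}
variable {K : Type v} [Field K] (T : TheoryOn.{u, v, w} k (IsVar k) K)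

theorem cl_pt (w : (pt k).obj.left) : T.cl (pt k) w = 1 := (T.point (pt k) (dim_pt k)).1 w

theorem tr_pt_one : T.tr (pt k) 1 = 1 := (T.point (pt k) (dim_pt k)).2

theorem tr_cl_closedPoint [IsAlgClosed k] (X : Var k) (x : X.obj.left)
    (hx : IsClosed ({x} : Set X.obj.left)) : T.tr X (T.cl X x) = 1 := by
  have hp := pdim_of_isClosed X.obj.left x hx
  have h1 : (1 : T.H (pt k)) ∈ T.gr (pt k) (2 * (pdim X.obj.left x : ℤ)) := by
    rw [hp]
    simpa using SetLike.one_mem_graded (T.gr (pt k))
  have h := T.cl_push (toPt k X) x 1 h1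
  rw [map_one, mul_one, mul_one, cl_pt, tr_pt_one, mul_one] at h
  haveI : Smooth X.obj.hom := X.property.1
  rw [h]
  have := residueDegree_closedPoint X.obj.hom x hx
  show ((Scheme.Hom.residueDegree X.obj.hom x : ℕ) : K) = 1
  rw [this, Nat.cast_one]

end Point

end Groth.Agent.Lib.Helper33.WeilPt
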