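import Mathlib.Tactic
import Mathlib.AlgebraicGeometry.AlgClosed.Basic
import Groth.Agent.Lib.Helper33.WeilLib
import Groth.Agent.Lib.Helper33.WeilPt

set_option autoImplicit false
universe u v w

open CategoryTheory AlgebraicGeometry Limits

namespace Groth.Agent.Lib.Helper33.WeilGen

open WeilCoh Groth.Agent.Lib.Helper33.WeilLib Groth.Agent.Lib.Helper33.WeilPt

variable {k : Type u} [Field k]

theorem isField_stalk_spec (w : Spec (CommRingCat.of k)) :
    IsField ((Spec (CommRingCat.of k)).presheaf.stalk w) := by
  let K' := (Spec.structureSheaf k).presheaf.stalk w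
  let e : k ≃ₐ[k] K' := IsLocalization.atUnits _ w.asIdeal.primeCompl
      (fun x hx ↦ by aesop (add simp IsUnit.mem_submonoid_iff))
  exact e.symm.toMulEquiv.isField (Field.toIsField k)

/-- the multiplicity of any inverse image along a `k`-point is `1` -/
theorem preimMult_point {X : Scheme.{u}} (j : Spec (CommRingCat.of k) ⟶ X) (ξ : X)
    (w : Spec (CommRingCat.of k)) (h : j w ∈ closure ({ξ} : Set X)) :
    preimMult j ξ w h = 1 := by
  unfold preimMult
  set L := (Spec (CommRingCat.of k)).presheaf.stalk w
  set I : Ideal L := Ideal.map (j.stalkMap w).hom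
      (RingHom.ker (Cyc.specMap (j w) ξ (specializes_iff_mem_closure.mpr h))) with hI
  have hmax : IsLocalRing.maximalIdeal L = ⊥ :=
    IsLocalRing.isField_iff_maximalIdeal_eq.1 (isField_stalk_spec w)
  have hle : I ≤ IsLocalRing.maximalIdeal L := by
    refine le_trans (Ideal.map_mono ?_) (IsLocalRing.map_maximalIdeal_le (j.stalkMap w).hom)
    exact IsLocalRing.le_maximalIdeal (RingHom.ker_ne_top _)
  have hIeq : I = IsLocalRing.maximalIdeal L := le_antisymm hle (hmax ▸ bot_le)
  have hco : IsCoatom I := by
    rw [hIeq]
    exact Ideal.isMaximal_def.1 (IsLocalRing.maximalIdeal.isMaximal L)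
  have hs : IsSimpleModule L (L ⧸ I) := isSimpleModule_iff_isCoatom.2 hco
  rw [Module.length_eq_one_iff.2 hs]
  rfl

section Generic

variable [IsAlgClosed k] {K : Type v} [Field K] (T : TheoryOn.{u, v, w} k (IsVar k) K)

theorem exists_closedPoint (X : Var k) : ∃ x : X.obj.left, IsClosed ({x} : Set X.obj.left) := by
  haveI : Smooth X.obj.hom := X.property.1
  haveI : IrreducibleSpace X.obj.left := X.property.2.2
  haveI : JacobsonSpace X.obj.left := LocallyOfFiniteType.jacobsonSpace X.obj.hom
  have h := closure_closedPoints (X := X.obj.left)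
  by_contra hne
  push Not at hne
  have hempty : closedPoints X.obj.left = ∅ := by
    ext x
    simp only [mem_closedPoints_iff, Set.mem_empty_iff_false, iff_false]
    exact hne x
  rw [hempty, closure_empty] at h
  obtain ⟨x⟩ := (inferInstance : Nonempty X.obj.left)
  exact (h ▸ Set.mem_univ x : x ∈ (∅ : Set X.obj.left))

/-- the `k`-point of `X` attached to a closed point, as a morphism in `Var k` -/
noncomputable def kPoint (X : Var k) (x : X.obj.left) (hx : IsClosed ({x} : Set X.obj.left)) :
    pt k ⟶ X :=
  haveI : Smooth X.obj.hom := X.property.1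
  ObjectProperty.homMk (Over.homMk (pointOfClosedPoint X.obj.hom x hx)
    (by simp [pt, ptOver]))

theorem cl_genericPoint (X : Var k) [IrreducibleSpace X.obj.left] :
    T.cl X (genericPoint X.obj.left) = 1 := by
  obtain ⟨x, hx⟩ := exists_closedPoint X
  set η := genericPoint X.obj.left with hη
  -- the class is a multiple of 1
  have hmem : T.cl X η ∈ T.gr X 0 := by
    have := T.cl_mem X η
    rw [codim_genericPoint] at this
    simpa using this
  obtain ⟨c, hc⟩ := exists_smul_one_of_mem_zero T hmem
  -- pull back along a k-point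
  set j := kPoint X x hx with hj
  have hcl : closure ({η} : Set X.obj.left) = Set.univ := (genericPoint_spec X.obj.left).def
  have hpre : (sm j) ⁻¹' closure ({η} : Set X.obj.left) = Set.univ := by
    rw [hcl]; rfl
  have key := T.cl_pull j η
    (by
      intro w _
      rw [pdim_pt, pdim_genericPoint, dim_pt]
      simp)
    (Or.inr fun w hw => preimMult_point (sm j) η w hw.1)
  -- the index type is a singleton
  have w0 : (pt k).obj.left := (default : PrimeSpectrum k)
  have hw0 : IsCompPt ((sm j) ⁻¹' closure ({η} : Set X.obj.left)) w0 :=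
    ⟨by rw [hpre]; trivial, fun w' _ _ => Subsingleton.elim _ _⟩
  haveI : Unique {w : (pt k).obj.left // IsCompPt ((sm j) ⁻¹' closure ({η} : Set X.obj.left)) w} :=
    { default := ⟨w0, hw0⟩
      uniq := fun a => Subtype.ext (Subsingleton.elim _ _) }
  rw [finsum_unique] at key
  have hm : preimMult (sm j) η
      (default : {w : (pt k).obj.left // IsCompPt ((sm j) ⁻¹' closure ({η} : Set X.obj.left)) w}).1
      (default : {w : (pt k).obj.left // IsCompPt ((sm j) ⁻¹' closure ({η} : Set X.obj.left)) w}).2.1 = 1 :=
    preimMult_point (X := X.obj.left) (sm j) η _ _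
  rw [hm, cl_pt, hc, map_smul, map_one, Nat.cast_one, one_smul] at key
  -- c • 1 = 1 in H pt
  have hc1 : c = 1 := by
    have h0 : (c - 1) • (1 : T.H (pt k)) = 0 := by rw [sub_smul, key, one_smul, sub_self]
    rcases smul_eq_zero.1 h0 with h | h
    · exact sub_eq_zero.1 h
    · exact absurd h (one_ne_zero' T (pt k))
  rw [hc, hc1, one_smul]

end Generic

end Groth.Agent.Lib.Helper33.WeilGen
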