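import Mathlib.Tactic
import Mathlib.AlgebraicGeometry.AlgClosed.Basic
import Groth.Agent.Lib.Helper33.WeilGen

set_option autoImplicit false
universe u v w

open CategoryTheory AlgebraicGeometry Limits

namespace Groth.Agent.Lib.Helper33.WeilGraph

open WeilCoh Groth.Agent.Lib.Helper33.WeilLib Groth.Agent.Lib.Helper33.WeilPt
  Groth.Agent.Lib.Helper33.WeilGen

variable {k : Type u} [Field k]

section Sections

theorem isSeparated_toSpec (n : ℕ) (R : Type u) [CommRing R] :
    IsSeparated (CohB1.ProjSpace.toSpec n R) := by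
  exact (inferInstance : IsSeparated (Proj.toSpecZero (CohB1.polyGrading n R) ≫
    Spec.map (CommRingCat.ofHom (algebraMap R ↥(CohB1.polyGrading n R 0)))))

theorem isSeparated_hom (X : Var k) : IsSeparated X.obj.hom := by
  obtain ⟨n, i, hi, hcomp⟩ := X.property.2.1
  haveI := isSeparated_toSpec n (ULift.{u} ℤ)
  haveI : IsSeparated (CohB1.ProjSpaceOver.toBase n (Spec (CommRingCat.of k))) :=
    (inferInstance : IsSeparated (pullback.snd (CohB1.ProjSpace.toSpec n (ULift.{u} ℤ))
      (specULiftZIsTerminal.from (Spec (CommRingCat.of k)))))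
  rw [← hcomp]
  infer_instance

theorem sm_comp {X Y Z : Var k} (f : X ⟶ Y) (g : Y ⟶ Z) : sm (f ≫ g) = sm f ≫ sm g := rfl

theorem sm_id (X : Var k) : sm (𝟙 X) = 𝟙 X.obj.left := rfl

theorem isSeparated_sm {X Y : Var k} (f : X ⟶ Y) : IsSeparated (sm f) := by
  haveI := isSeparated_hom X
  have h : sm f ≫ Y.obj.hom = X.obj.hom := Over.w f.hom
  haveI : IsSeparated (sm f ≫ Y.obj.hom) := by rw [h]; infer_instance
  exact IsSeparated.of_comp (sm f) Y.obj.hom

/-- a section of a morphism of varieties is a closed immersion -/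
theorem isClosedImmersion_of_section {X P : Var k} (j : X ⟶ P) (p : P ⟶ X) (h : j ≫ p = 𝟙 X) :
    IsClosedImmersion (sm j) := by
  haveI := isSeparated_sm p
  have h' : sm j ≫ sm p = 𝟙 _ := by rw [← sm_comp, h, sm_id]
  haveI : IsClosedImmersion (sm j ≫ sm p) := by rw [h']; infer_instance
  exact IsClosedImmersion.of_comp (sm j) (sm p)

theorem residueDegree_eq_one_of_surjective {X Y : Scheme.{u}} (f : X ⟶ Y) (x : X)
    (h : Function.Surjective (f.residueFieldMap x).hom) : f.residueDegree x = 1 := by
  unfold Scheme.Hom.residueDegree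
  letI := (f.residueFieldMap x).hom.toAlgebra
  have hbij : Function.Bijective (algebraMap (Y.residueField (f x)) (X.residueField x)) :=
    ⟨(f.residueFieldMap x).hom.injective, h⟩
  have e := LinearEquiv.ofBijective
    (Algebra.linearMap (Y.residueField (f x)) (X.residueField x)) hbij
  rw [← e.finrank_eq, Module.finrank_self]

theorem residueFieldMap_bijective_of_eq_id {X : Scheme.{u}} (g : X ⟶ X) (hg : g = 𝟙 X) (x : X) :
    Function.Bijective (g.residueFieldMap x).hom := by
  subst hg
  rw [Scheme.residueFieldMap_id]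
  exact Function.bijective_id

theorem residueDegree_section {X P : Scheme.{u}} (j : X ⟶ P) (p : P ⟶ X) (h : j ≫ p = 𝟙 X) (x : X) :
    j.residueDegree x = 1 := by
  apply residueDegree_eq_one_of_surjective
  have hb := (residueFieldMap_bijective_of_eq_id (j ≫ p) h x).2
  rw [Scheme.residueFieldMap_comp] at hb
  intro y
  obtain ⟨z, hz⟩ := hb y
  exact ⟨(p.residueFieldMap (j x)).hom z, hz⟩

theorem pdim_section {X P : Scheme.{u}} [IrreducibleSpace X] (j : X ⟶ P) [IsClosedImmersion j] :
    pdim P (j (genericPoint X)) = dim X := by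
  unfold pdim dim
  have hce := j.isClosedEmbedding
  have h1 : closure ({j (genericPoint X)} : Set P) = Set.range j := by
    rw [← Set.image_singleton, hce.isClosedMap.closure_image_eq_of_continuous hce.continuous,
      (genericPoint_spec X).def, Set.image_univ]
  rw [natDim_set_congr h1]
  unfold natDim
  rw [IsHomeomorph.topologicalKrullDim_eq _ hce.isEmbedding.toHomeomorph.isHomeomorph]

end Sections

section Graph

variable [IsAlgClosed k] {K : Type v} [Field K] (T : TheoryOn.{u, v, w} k (IsVar k) K)

include T in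
/-- the codimension of the graph of a morphism `X ⟶ Y` in `X × Y` is `dim Y` -/
theorem codim_section {X Y P : Var k} [IrreducibleSpace X.obj.left] (p : P ⟶ X) (q : P ⟶ Y)
    (hP : IsProd p q) (j : X ⟶ P) (hjp : j ≫ p = 𝟙 X) :
    codim P.obj.left (sm j (genericPoint X.obj.left)) = dim Y.obj.left := by
  haveI := isClosedImmersion_of_section j p hjp
  have h1 := dim_prod T p q hP
  have h2 : dim P.obj.left = dim X.obj.left + dim Y.obj.left := by exact_mod_cast h1
  unfold codim
  rw [pdim_section (sm j), h2]
  omega

/-- `tr_P (cl(Γ_j) * a) = tr_X (j^* a)` for a section `j` of `p : P ⟶ X` whose image has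
codimension `dim P - dim X` -/
theorem tr_cl_section_mul {X P : Var k} [IrreducibleSpace X.obj.left] (p : P ⟶ X) (j : X ⟶ P)
    (hjp : j ≫ p = 𝟙 X)
    (hcod : (codim P.obj.left (sm j (genericPoint X.obj.left)) : ℤ) =
      dim P.obj.left - dim X.obj.left) (a : T.H P) :
    T.tr P (T.cl P (sm j (genericPoint X.obj.left)) * a) = T.tr X (T.pull j a) := by
  induction a using hom_induction T with
  | hom d a ha =>
    by_cases hd : d = 2 * (dim X.obj.left : ℤ)
    · subst hd
      have ha' : a ∈ T.gr P (2 * (pdim X.obj.left (genericPoint X.obj.left) : ℤ)) := by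
        rw [pdim_genericPoint]; exact ha
      have h := T.cl_push j (genericPoint X.obj.left) a ha'
      have hdeg : (sm j).residueDegree (genericPoint X.obj.left) = 1 :=
        residueDegree_section (sm j) (sm p) (by rw [← sm_comp, hjp, sm_id]) _
      rw [cl_genericPoint T X, one_mul, hdeg, Nat.cast_one, one_mul] at h
      exact h.symm
    · rw [tr_mul_eq_zero T (T.cl_mem P _) ha (by omega),
        T.tr_vanish X d _ (T.pull_mem j d a ha) hd]
  | zero => simp
  | add b c hb hc => rw [mul_add, map_add, map_add, map_add, hb, hc]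

end Graph

end Groth.Agent.Lib.Helper33.WeilGraph
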