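import Mathlib.Tactic
import Groth.Agent.Lib.Helper33.WeilLib

set_option autoImplicit false
universe u v w

open CategoryTheory AlgebraicGeometry

namespace Groth.Agent.Lib.Helper33.WeilKun

open WeilCoh Groth.Agent.Lib.Helper33.WeilLib

variable {k : Type u} [Field k] {P : ObjectProperty (Over (Spec (CommRingCat.of k)))}
variable {K : Type v} [Field K] (T : TheoryOn.{u, v, w} k P K)

/-- `tr_Q (p^* x * q^* y) = tr_X x * tr_Y y` for all classes on a product -/
theorem tr_prod' {X Y Q : P.FullSubcategory} (p : Q ⟶ X) (q : Q ⟶ Y) (hQ : IsProd p q)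
    (x : T.H X) (y : T.H Y) :
    T.tr Q (T.pull p x * T.pull q y) = T.tr X x * T.tr Y y := by
  have hdim := dim_prod T p q hQ
  induction x using hom_induction T with
  | hom d1 x hx =>
    induction y using hom_induction T with
    | hom d2 y hy =>
      by_cases h1 : 2 * (dim X.obj.left : ℤ) < d1
      · rw [eq_zero_of_mem_of_vanish T hx (Or.inr h1)]; simp
      by_cases h2 : 2 * (dim Y.obj.left : ℤ) < d2
      · rw [eq_zero_of_mem_of_vanish T hy (Or.inr h2)]; simp
      by_cases h3 : d1 = 2 * (dim X.obj.left : ℤ) ∧ d2 = 2 * (dim Y.obj.left : ℤ)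
      · obtain ⟨rfl, rfl⟩ := h3
        exact T.tr_prod p q hQ x y hx hy
      · rw [tr_mul_eq_zero T (T.pull_mem p d1 x hx) (T.pull_mem q d2 y hy) (by omega)]
        by_cases h4 : d1 = 2 * (dim X.obj.left : ℤ)
        · have h5 : d2 ≠ 2 * (dim Y.obj.left : ℤ) := fun h => h3 ⟨h4, h⟩
          rw [T.tr_vanish Y d2 y hy h5, mul_zero]
        · rw [T.tr_vanish X d1 x hx h4, zero_mul]
    | zero => simp
    | add b c hb hc => rw [map_add, mul_add, map_add, map_add, mul_add, hb, hc]
  | zero => simp
  | add b c hb hc => rw [map_add, add_mul, map_add, map_add, add_mul, hb, hc]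

/-- Künneth: to prove an additive property of all classes on a product it suffices to treat
products of pulled-back homogeneous classes -/
theorem kunneth_induction {X Y Q : P.FullSubcategory} (p : Q ⟶ X) (q : Q ⟶ Y) (hQ : IsProd p q)
    {motive : T.H Q → Prop}
    (hom : ∀ (s t : ℤ) (a : T.H X) (b : T.H Y), a ∈ T.gr X s → b ∈ T.gr Y t →
      motive (T.pull p a * T.pull q b))
    (zero : motive 0) (add : ∀ c c', motive c → motive c' → motive (c + c')) (c : T.H Q) :
    motive c := by
  obtain ⟨t, rfl⟩ := (T.kunneth p q hQ).2 c
  induction t using TensorProduct.induction_on with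
  | zero => rw [map_zero]; exact zero
  | tmul a b =>
    show motive (T.pull p a * T.pull q b)
    induction a using hom_induction T with
    | hom s a ha =>
      induction b using hom_induction T with
      | hom t b hb => exact hom s t a b ha hb
      | zero => rw [map_zero, mul_zero]; exact zero
      | add b c hb hc => rw [map_add, mul_add]; exact add _ _ hb hc
    | zero => rw [map_zero, zero_mul]; exact zero
    | add a c ha hc => rw [map_add, add_mul]; exact add _ _ ha hc
  | add x y hx hy => rw [map_add]; exact add _ _ hx hy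

end Groth.Agent.Lib.Helper33.WeilKun
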