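import Groth.Prelude.Def_WeilCoh
import Groth.Agent.Lib.Helper33.WeilLib
import Groth.Agent.Lib.Helper33.WeilGraph
import Groth.Agent.Lib.Helper33.WeilKun

set_option autoImplicit false
set_option linter.style.haveILetI false
set_option linter.unusedSectionVars false
universe u v
open CategoryTheory AlgebraicGeometry

namespace Groth.Agent.Lib.Helper33.WeilCorr

open WeilCoh Groth.Agent.Lib.Helper33.WeilLib Groth.Agent.Lib.Helper33.WeilGraph
  Groth.Agent.Lib.Helper33.WeilKun

variable {k : Type u} [Field k]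

/-- the morphism into a product with prescribed components -/
noncomputable def prodLift {X Y Q Z : Var k} (p : Q ⟶ X) (q : Q ⟶ Y) (hQ : IsProd p q)
    (a : Z ⟶ X) (b : Z ⟶ Y) : Z ⟶ Q :=
  ObjectProperty.homMk (Over.homMk (hQ.lift (sm a) (sm b)
    (by rw [Over.w a.hom, Over.w b.hom]))
    (by
      have h1 : Q.obj.hom = sm p ≫ X.obj.hom := (Over.w p.hom).symm
      rw [h1, ← Category.assoc, hQ.lift_fst]
      exact Over.w a.hom))

theorem prodLift_fst {X Y Q Z : Var k} (p : Q ⟶ X) (q : Q ⟶ Y) (hQ : IsProd p q)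
    (a : Z ⟶ X) (b : Z ⟶ Y) : prodLift p q hQ a b ≫ p = a := by
  apply ObjectProperty.hom_ext
  apply Over.OverMorphism.ext
  exact hQ.lift_fst _ _ _

theorem prodLift_snd {X Y Q Z : Var k} (p : Q ⟶ X) (q : Q ⟶ Y) (hQ : IsProd p q)
    (a : Z ⟶ X) (b : Z ⟶ Y) : prodLift p q hQ a b ≫ q = b := by
  apply ObjectProperty.hom_ext
  apply Over.OverMorphism.ext
  exact hQ.lift_snd _ _ _

section Corr

variable [IsAlgClosed k] {K : Type v} [Field K] [CharZero K] (T : WeilCoh.Theory k K)

/-- cycle classes are central (they have even degree) -/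
theorem cl_mul_comm (X : WeilCoh.Var k) (ξ : X.obj.left) (a : T.H X) :
    T.cl X ξ * a = a * T.cl X ξ := by
  induction a using hom_induction T with
  | hom j a ha =>
    have h := T.gradedComm X _ _ _ _ (T.cl_mem X ξ) ha
    rw [h]
    have : ((2 * (codim X.obj.left ξ : ℤ)).natAbs * j.natAbs) =
        2 * (codim X.obj.left ξ * j.natAbs) := by
      rw [Int.natAbs_mul]; simp; ring
    rw [this, pow_mul]
    simp
  | zero => simp
  | add b c hb hc => rw [mul_add, add_mul, hb, hc]

variable {X P : WeilCoh.Var k} (p q : P ⟶ X) (hP : WeilCoh.IsProd p q)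

include hP in
/-- the action `b ↦ q_*(p^* b · u)` of a correspondence of degree `2 dim X` is characterised by
traces -/
theorem act_eq (u : ↥(T.gr P (2 * (dim X.obj.left : ℤ)))) (j : ℤ) (b : ↥(T.gr X j))
    (z : T.H X) (hz : z ∈ T.gr X j)
    (h : ∀ c : T.H X, T.tr P (T.pull p (b : T.H X) * (u : T.H P) * T.pull q c) = T.tr X (z * c)) :
    (T.push q (j + 2 * (dim X.obj.left : ℤ)) ⟨T.pull p (b : T.H X) * (u : T.H P),
      SetLike.mul_mem_graded (T.pull_mem p j b b.2) u.2⟩ : T.H X) = z := by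
  have hd := dim_prod T p q hP
  have hz' : z ∈ T.gr X (j + 2 * (dim X.obj.left : ℤ) + 2 * (dim X.obj.left : ℤ) -
      2 * (dim P.obj.left : ℤ)) := by
    have e : j + 2 * (dim X.obj.left : ℤ) + 2 * (dim X.obj.left : ℤ) -
      2 * (dim P.obj.left : ℤ) = j := by omega
    rw [e]; exact hz
  refine eq_of_tr_mul T (Subtype.property _) hz' fun c _ => ?_
  rw [tr_push_mul']
  exact h c

include hP in
/-- the transposed graph of `G` acts as `G^*` -/
theorem tr_graph (G : X ⟶ X) (jG : X ⟶ P) (hjp : jG ≫ p = G) (hjq : jG ≫ q = 𝟙 X)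
    (b c : T.H X) :
    haveI : IrreducibleSpace ↥X.obj.left := X.property.2.2
    T.tr P (T.pull p b * T.cl P (sm jG (genericPoint ↥X.obj.left)) * T.pull q c) =
      T.tr X (T.pull G b * c) := by
  haveI : IrreducibleSpace ↥X.obj.left := X.property.2.2
  have hcod := codim_section T q p hP.flip jG hjq
  have hd := dim_prod T p q hP
  rw [← cl_mul_comm, mul_assoc, tr_cl_section_mul T q jG hjq (by rw [hcod]; omega), map_mul,
    ← AlgHom.comp_apply, ← AlgHom.comp_apply, ← T.pull_comp, ← T.pull_comp, hjp, hjq, T.pull_id]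
  rfl

include hP in
theorem cl_graph_mem (jG : X ⟶ P) (hjq : jG ≫ q = 𝟙 X) :
    haveI : IrreducibleSpace ↥X.obj.left := X.property.2.2
    T.cl P (sm jG (genericPoint ↥X.obj.left)) ∈ T.gr P (2 * (dim X.obj.left : ℤ)) := by
  haveI : IrreducibleSpace ↥X.obj.left := X.property.2.2
  have hcod := codim_section T q p hP.flip jG hjq
  have := T.cl_mem P (sm jG (genericPoint ↥X.obj.left))
  rw [hcod] at this
  exact this

end Corr

end Groth.Agent.Lib.Helper33.WeilCorr
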