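import Mathlib.Tactic
import Mathlib.AlgebraicGeometry.AlgClosed.Basic
import Groth.Agent.Lib.Helper33.WeilGen
import Groth.Prelude.Def_ChowOps

set_option autoImplicit false
universe u v w

open CategoryTheory AlgebraicGeometry Limits

namespace Groth.Agent.Lib.Helper33.WeilCyc

open WeilCoh Groth.Agent.Lib.Helper33.WeilLib Groth.Agent.Lib.Helper33.WeilPt
  Groth.Agent.Lib.Helper33.WeilGen

variable {k : Type u} [Field k] [IsAlgClosed k]

/-- a point of a locally finite type `k`-scheme whose residue field is algebraic over the residue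
field of its image in `Spec k` is closed -/
theorem isClosed_of_isAlgebraic {X : Scheme.{u}} (p : X ⟶ Spec (CommRingCat.of k))
    [LocallyOfFiniteType p] (x : X)
    (h : (p.residueFieldMap x).hom.IsIntegral) : IsClosed ({x} : Set X) := by
  have hy : IsClosed ({p x} : Set (Spec (CommRingCat.of k))) := by
    haveI : Subsingleton ↥(Spec (CommRingCat.of k)) :=
      inferInstanceAs (Subsingleton (PrimeSpectrum k))
    have : ({p x} : Set (Spec (CommRingCat.of k))) = Set.univ :=
      Set.eq_univ_of_forall fun z => Subsingleton.elim _ _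
    rw [this]; exact isClosed_univ
  let β := (residueFieldIsoBase (𝟙 (Spec (CommRingCat.of k))) (p x) hy).inv
  have hβ : Spec.map β = (Spec (CommRingCat.of k)).fromSpecResidueField (p x) := by
    rw [SpecMap_residueFieldIsoBase_inv, Category.comp_id]
  let γ := β ≫ p.residueFieldMap x
  have hγ : Spec.map γ = X.fromSpecResidueField x ≫ p := by
    rw [Spec.map_comp, hβ, Scheme.Hom.SpecMap_residueFieldMap_fromSpecResidueField]
  have hβsurj : Function.Surjective β.hom := by
    intro z
    refine ⟨(residueFieldIsoBase (𝟙 (Spec (CommRingCat.of k))) (p x) hy).hom.hom z, ?_⟩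
    have h2 := congrArg (fun g : (Spec (CommRingCat.of k)).residueField (p x) ⟶
      (Spec (CommRingCat.of k)).residueField (p x) => g.hom z)
      (residueFieldIsoBase (𝟙 (Spec (CommRingCat.of k))) (p x) hy).hom_inv_id
    exact h2
  have hγint : γ.hom.IsIntegral := by
    have : γ.hom = (p.residueFieldMap x).hom.comp β.hom := rfl
    rw [this]
    exact RingHom.IsIntegral.trans _ _ (RingHom.isIntegral_of_surjective _ hβsurj) h
  have hγbij : Function.Bijective γ.hom := IsAlgClosed.ringHom_bijective_of_isIntegral γ.hom hγint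
  haveI : IsIso γ := (ConcreteCategory.isIso_iff_bijective γ).2 hγbij
  let g : X ⟶ Spec (X.residueField x) := p ≫ Spec.map (inv γ)
  have hg : X.fromSpecResidueField x ≫ g = 𝟙 _ := by
    show X.fromSpecResidueField x ≫ p ≫ Spec.map (inv γ) = 𝟙 _
    rw [← Category.assoc, ← hγ, ← Spec.map_comp, IsIso.inv_hom_id, Spec.map_id]
  haveI : Subsingleton ↥(Spec (X.residueField x)) :=
    inferInstanceAs (Subsingleton (PrimeSpectrum (X.residueField x)))
  rw [isClosed_singleton_iff_isClosedImmersion]
  exact isClosedImmersion_of_comp_eq_id g _ hg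

theorem isClosed_of_delta_zero {X : Scheme.{u}} (p : X ⟶ Spec (CommRingCat.of k))
    [LocallyOfFiniteType p] (δ : X → ℤ) (hδ : Cyc.DeltaCompat p δ (fun _ => 0)) (x : X)
    (hx : δ x = 0) : IsClosed ({x} : Set X) := by
  obtain ⟨n, hn, hd⟩ := hδ x
  have hn0 : n = 0 := by
    rw [hx] at hd
    simp only [zero_add] at hd
    exact_mod_cast hd.symm
  subst hn0
  apply isClosed_of_isAlgebraic p x
  letI := (p.residueFieldMap x).hom.toAlgebra
  have halg : Algebra.IsAlgebraic ((Spec (CommRingCat.of k)).residueField (p x)) (X.residueField x) :=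
    trdeg_eq_zero_iff.1 (by simpa using hn)
  intro z
  exact (halg.isAlgebraic z).isIntegral

section Deg

variable {K : Type v} [Field K] (T : TheoryOn.{u, v, w} k (IsVar k) K)
  (X : Var k) [QuasiCompact X.obj.hom] (δ : X.obj.left → ℤ)
  (hδ : Cyc.DeltaCompat X.obj.hom δ (fun _ => 0))
  (α : AlgebraicCycle X.obj.left ℤ) (hα : α ∈ Cyc.Zk X.obj.left δ 0)

omit [IsAlgClosed k] in
theorem support_finite : (Function.support α).Finite := by
  have hc : IsCompact (Set.univ : Set X.obj.left) := by
    have := QuasiCompact.isCompact_preimage (f := X.obj.hom) Set.univ isOpen_univ isCompact_univ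
    simpa using this
  have := α.locallyFiniteSupport.finite_inter_support_of_isCompact hc
  simpa using this

include hδ hα in
theorem isClosed_of_mem_support (x : X.obj.left) (hx : α x ≠ 0) : IsClosed ({x} : Set X.obj.left) := by
  haveI : Smooth X.obj.hom := X.property.1
  refine isClosed_of_delta_zero X.obj.hom δ hδ x ?_
  by_contra h
  exact hx (hα x h)

include hδ hα in
theorem deg_eq : ChowOps.deg X.obj.hom δ α = ∑ᶠ x : X.obj.left, α x := by
  haveI : Smooth X.obj.hom := X.property.1
  unfold ChowOps.deg AlgebraicCycle.map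
  rw [Function.locallyFinsupp.map_apply]
  haveI : Subsingleton ↥(Spec (CommRingCat.of k)) :=
    inferInstanceAs (Subsingleton (PrimeSpectrum k))
  refine (finsum_mem_congr (t := Set.univ)
    (Set.eq_univ_of_forall fun z => Subsingleton.elim _ _) (fun x _ => rfl)).trans ?_
  rw [finsum_mem_univ]
  refine finsum_congr fun x => ?_
  by_cases hx : α x = 0
  · rw [hx, zero_mul]
  · have hcl := isClosed_of_mem_support X δ hδ α hα x hx
    have hd : δ x = 0 := by
      by_contra h
      exact hx (hα x h)
    have : AlgebraicCycle.mapCoeff X.obj.hom δ (fun _ => (0 : ℤ)) x = 1 := by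
      unfold AlgebraicCycle.mapCoeff
      rw [if_pos hd]
      exact residueDegree_closedPoint X.obj.hom x hcl
    rw [this]
    simp

include hδ hα in
theorem tr_clCyc_eq : T.tr X (T.clCyc X α) = ∑ᶠ x : X.obj.left, ((α x : ℤ) : K) := by
  unfold TheoryOn.clCyc
  have hfin : (Function.support fun ξ : X.obj.left => ((α ξ : ℤ) : K) • T.cl X ξ).Finite := by
    refine (support_finite X α).subset fun x hx => ?_
    intro h0
    apply hx
    simp [h0]
  rw [map_finsum _ hfin]
  refine finsum_congr fun x => ?_
  by_cases hx : α x = 0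
  · simp [hx]
  · rw [map_smul, tr_cl_closedPoint T X x (isClosed_of_mem_support X δ hδ α hα x hx), smul_eq_mul,
      mul_one]

include hδ hα in
theorem deg_cast_eq_tr_clCyc : ((ChowOps.deg X.obj.hom δ α : ℤ) : K) = T.tr X (T.clCyc X α) := by
  rw [deg_eq X δ hδ α hα, tr_clCyc_eq T X δ hδ α hα]
  exact map_finsum (Int.castRingHom K) (support_finite X α)

include hδ hα in
theorem clCyc_mem_top : T.clCyc X α ∈ T.gr X (2 * (dim X.obj.left : ℤ)) := by
  unfold TheoryOn.clCyc
  refine finsum_induction (fun y => y ∈ T.gr X (2 * (dim X.obj.left : ℤ))) (Submodule.zero_mem _)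
    (fun x y hx hy => Submodule.add_mem _ hx hy) fun x => ?_
  by_cases hx : α x = 0
  · simp [hx]
  · refine Submodule.smul_mem _ _ ?_
    have hcl := isClosed_of_mem_support X δ hδ α hα x hx
    have h := T.cl_mem X x
    have hc : codim X.obj.left x = dim X.obj.left := by
      unfold codim
      rw [pdim_of_isClosed X.obj.left x hcl]; simp
    rw [hc] at h
    exact h

include hδ hα in
theorem clCyc_eq_zero_iff [CharZero K] : T.clCyc X α = 0 ↔ ChowOps.deg X.obj.hom δ α = 0 := by
  constructor
  · intro h
    have h1 := deg_cast_eq_tr_clCyc T X δ hδ α hα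
    rw [h, map_zero] at h1
    exact_mod_cast h1
  · intro h
    have h1 := deg_cast_eq_tr_clCyc T X δ hδ α hα
    rw [h, Int.cast_zero] at h1
    have hmem := clCyc_mem_top T X δ hδ α hα
    have hinj := (T.tr_bijective X).1
    have : (⟨T.clCyc X α, hmem⟩ : T.gr X (2 * (dim X.obj.left : ℤ))) = 0 := by
      apply hinj
      show T.tr X (T.clCyc X α) = T.tr X 0
      rw [← h1, map_zero]
    exact congrArg Subtype.val this

end Deg

end Groth.Agent.Lib.Helper33.WeilCyc
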