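import Groth.Prelude.Def_WeilCoh
import Groth.Agent.Lib.Helper33.WeilPt
import Groth.Agent.Lib.Helper73.DimFT.Morphism
import Groth.Agent.Lib.Helper7.ProjSpaceProper
import Groth.Agent.Lib.Helper33.WeilLib
import Groth.Prelude.Def_Cyc

set_option autoImplicit false
set_option linter.style.haveILetI false
universe u v
open CategoryTheory AlgebraicGeometry

namespace Groth.Agent.Lib.Helper33.WeilDim

open WeilCoh Groth.Agent.Lib.Helper73 Groth.Agent.Lib.Helper33.WeilPt

variable {k : Type u} [Field k]

theorem lft (X : Var k) : LocallyOfFiniteType X.obj.hom := by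
  haveI : Smooth X.obj.hom := X.property.1
  infer_instance

theorem natDim_eq_of_eq {T : Type u} [TopologicalSpace T] {n : ℕ}
    (h : topologicalKrullDim T = ((n : ℕ∞) : WithBot ℕ∞)) : natDim T = n := by
  unfold natDim
  rw [h]
  simp

theorem pdim_eq_trdegNat {X : Scheme.{u}} (p : X ⟶ Spec (CommRingCat.of k))
    [LocallyOfFiniteType p] (ξ : X) : pdim X ξ = trdegNat p ξ :=
  natDim_eq_of_eq ((isDimFun_trdegNat p).topologicalKrullDim_closure_singleton ξ)

theorem pdim_le_of_specializes {X : Scheme.{u}} (p : X ⟶ Spec (CommRingCat.of k))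
    [LocallyOfFiniteType p] {x y : X} (h : x ⤳ y) : pdim X y ≤ pdim X x := by
  rw [pdim_eq_trdegNat p, pdim_eq_trdegNat p]
  exact (isDimFun_trdegNat p).le_of_specializes h

theorem pdim_le_dim (X : Var k) (ξ : X.obj.left) : pdim X.obj.left ξ ≤ dim X.obj.left := by
  haveI := lft X
  haveI : IrreducibleSpace ↥X.obj.left := X.property.2.2
  rw [← pdim_genericPoint]
  exact pdim_le_of_specializes X.obj.hom (genericPoint_specializes ξ)

theorem codim_add_pdim (X : Var k) (ξ : X.obj.left) :
    codim X.obj.left ξ + pdim X.obj.left ξ = dim X.obj.left := by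
  unfold codim
  exact Nat.sub_add_cancel (pdim_le_dim X ξ)

theorem two_dim_sub_two_codim (X : Var k) (ξ : X.obj.left) :
    2 * (dim X.obj.left : ℤ) - 2 * (codim X.obj.left ξ : ℤ) = 2 * (pdim X.obj.left ξ : ℤ) := by
  have := codim_add_pdim X ξ
  omega

/-- finite residue degree => same transcendence degree -/
theorem trdegNat_eq_of_residueDegree_ne_zero {X Y : Scheme.{u}} (p : X ⟶ Spec (CommRingCat.of k))
    (q : Y ⟶ Spec (CommRingCat.of k)) [LocallyOfFiniteType p] [LocallyOfFiniteType q]
    (f : X ⟶ Y) (hf : f ≫ q = p) (ξ : X) (h : f.residueDegree ξ ≠ 0) :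
    trdegNat q (f ξ) = trdegNat p ξ := by
  subst hf
  letI a1 : Algebra k (Y.residueField (f ξ)) := (resMapOf q (f ξ)).toAlgebra
  letI a2 : Algebra k (X.residueField ξ) := (resMapOf (f ≫ q) ξ).toAlgebra
  letI a3 : Algebra (Y.residueField (f ξ)) (X.residueField ξ) := (f.residueFieldMap ξ).hom.toAlgebra
  haveI : IsScalarTower k (Y.residueField (f ξ)) (X.residueField ξ) :=
    IsScalarTower.of_algebraMap_eq fun c => by
      have := residueFieldMap_comp_resMapOf q f ξ
      exact (RingHom.congr_fun this c).symm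
  have hfin : Module.Finite (Y.residueField (f ξ)) (X.residueField ξ) :=
    Module.finite_of_finrank_pos (Nat.pos_of_ne_zero h)
  haveI : Algebra.IsAlgebraic (Y.residueField (f ξ)) (X.residueField ξ) := Algebra.IsAlgebraic.of_finite _ _
  have h1 := trdeg_add_eq k (Y.residueField (f ξ)) (A := X.residueField ξ)
  rw [(trdeg_eq_zero_iff (R := Y.residueField (f ξ)) (A := X.residueField ξ)).2 inferInstance, add_zero] at h1
  have h2 := trdeg_eq_trdegNat q (f ξ)
  have h3 := trdeg_eq_trdegNat (f ≫ q) ξ
  have : ((trdegNat q (f ξ) : ℕ) : Cardinal) = (trdegNat (f ≫ q) ξ : ℕ) := by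
    rw [← h2, ← h3]; exact h1
  exact_mod_cast this

theorem pdim_map_of_residueDegree_ne_zero {X Y : Var k} (f : X ⟶ Y) (ξ : X.obj.left)
    (h : (sm f).residueDegree ξ ≠ 0) : pdim Y.obj.left (sm f ξ) = pdim X.obj.left ξ := by
  haveI := lft X
  haveI := lft Y
  rw [pdim_eq_trdegNat Y.obj.hom, pdim_eq_trdegNat X.obj.hom]
  exact trdegNat_eq_of_residueDegree_ne_zero X.obj.hom Y.obj.hom (sm f) (Over.w f.hom) ξ h

theorem pdim_map_le {X Y : Var k} (f : X ⟶ Y) (ξ : X.obj.left) :
    pdim Y.obj.left (sm f ξ) ≤ pdim X.obj.left ξ := by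
  haveI := lft X
  haveI := lft Y
  rw [pdim_eq_trdegNat Y.obj.hom, pdim_eq_trdegNat X.obj.hom]
  exact trdegNat_le_of_hom Y.obj.hom X.obj.hom (sm f) (Over.w f.hom) ξ


theorem isProper_hom (X : Var k) : IsProper X.obj.hom := by
  obtain ⟨n, i, hi, hw⟩ := X.property.2.1
  rw [← hw]
  haveI := Groth.Agent.Lib.Helper7.ProjSpaceProper.instIsProperToBase n (Spec (CommRingCat.of k))
  infer_instance

theorem quasiCompact_hom (X : Var k) : QuasiCompact X.obj.hom := by
  haveI := isProper_hom X
  infer_instance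

/-- a weight function induced from weight `0` on `Spec k` is the transcendence degree -/
theorem delta_eq_trdegNat {X : Scheme.{u}} (p : X ⟶ Spec (CommRingCat.of k))
    [LocallyOfFiniteType p] (δ : X → ℤ) (hδ : Cyc.DeltaCompat p δ (fun _ => 0)) (x : X) :
    δ x = trdegNat p x := by
  obtain ⟨n, hn, hd⟩ := hδ x
  rw [hd, zero_add]
  letI a1 : Algebra k ((Spec (CommRingCat.of k)).residueField (p x)) :=
    (resMapOf (𝟙 (Spec (CommRingCat.of k))) (p x)).toAlgebra
  letI a2 : Algebra k (X.residueField x) := (resMapOf p x).toAlgebra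
  letI a3 : Algebra ((Spec (CommRingCat.of k)).residueField (p x)) (X.residueField x) :=
    (p.residueFieldMap x).hom.toAlgebra
  haveI : IsScalarTower k ((Spec (CommRingCat.of k)).residueField (p x)) (X.residueField x) :=
    IsScalarTower.of_algebraMap_eq fun c => by
      have := residueFieldMap_comp_resMapOf (𝟙 (Spec (CommRingCat.of k))) p x
      rw [Category.comp_id] at this
      exact (RingHom.congr_fun this c).symm
  have h0 : Algebra.trdeg k ((Spec (CommRingCat.of k)).residueField (p x)) = 0 := by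
    have hcl : IsClosed ({p x} : Set (Spec (CommRingCat.of k))) := by
      haveI : Subsingleton ↥(Spec (CommRingCat.of k)) :=
        inferInstanceAs (Subsingleton (PrimeSpectrum k))
      have : ({p x} : Set (Spec (CommRingCat.of k))) = Set.univ :=
        Set.eq_univ_of_forall fun z => Subsingleton.elim _ _
      rw [this]; exact isClosed_univ
    have h1 := trdeg_eq_trdegNat (𝟙 (Spec (CommRingCat.of k))) (p x)
    rw [trdegNat_eq_zero_of_isClosed (𝟙 (Spec (CommRingCat.of k))) hcl] at h1
    simpa using h1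
  have h1 := trdeg_add_eq k ((Spec (CommRingCat.of k)).residueField (p x)) (A := X.residueField x)
  rw [h0, zero_add] at h1
  have h3 := trdeg_eq_trdegNat p x
  have : ((n : ℕ) : Cardinal) = (trdegNat p x : ℕ) := by
    rw [← hn, ← h3]; exact h1
  exact_mod_cast this

theorem delta_eq_pdim (X : Var k) (δ : X.obj.left → ℤ)
    (hδ : Cyc.DeltaCompat X.obj.hom δ (fun _ => 0)) (x : X.obj.left) :
    δ x = pdim X.obj.left x := by
  haveI := lft X
  rw [delta_eq_trdegNat X.obj.hom δ hδ x, pdim_eq_trdegNat X.obj.hom]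

theorem mapCoeff_eq {X Y : Var k} (f : X ⟶ Y)
    (δX : ↥X.obj.left → ℤ) (hδX : Cyc.DeltaCompat X.obj.hom δX (fun _ => 0))
    (δY : ↥Y.obj.left → ℤ) (hδY : Cyc.DeltaCompat Y.obj.hom δY (fun _ => 0)) (x : X.obj.left) :
    AlgebraicCycle.mapCoeff (sm f) δX δY x = (sm f).residueDegree x := by
  unfold AlgebraicCycle.mapCoeff
  split_ifs with h
  · rfl
  · by_contra hne
    apply h
    have := pdim_map_of_residueDegree_ne_zero f x (Ne.symm hne)
    rw [delta_eq_pdim X δX hδX, delta_eq_pdim Y δY hδY]
    exact_mod_cast this.symm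

section Push

open Groth.Agent.Lib.Helper33.WeilLib

variable {K : Type v} [Field K] (T : TheoryOn.{u, v, max u v} k (IsVar k) K)

/-- push-forward identity for all classes (no degree restriction) -/
theorem tr_cl_mul_pull {X Y : Var k} (f : X ⟶ Y) (x : X.obj.left) (b : T.H Y) :
    T.tr X (T.cl X x * T.pull f b) =
      ((sm f).residueDegree x : K) * T.tr Y (T.cl Y (sm f x) * b) := by
  have hcp := codim_add_pdim X x
  induction b using hom_induction T with
  | hom j b hb =>
    by_cases hj : j = 2 * (pdim X.obj.left x : ℤ)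
    · subst hj
      exact T.cl_push f x b hb
    · rw [tr_mul_eq_zero T (T.cl_mem X x) (T.pull_mem f j b hb) (by omega)]
      by_cases hd : (sm f).residueDegree x = 0
      · rw [hd, Nat.cast_zero, zero_mul]
      · have hp := pdim_map_of_residueDegree_ne_zero f x hd
        have hcp' := codim_add_pdim Y (sm f x)
        rw [tr_mul_eq_zero T (T.cl_mem Y (sm f x)) hb (by omega), mul_zero]
  | zero => simp
  | add b c hb hc => rw [map_add, mul_add, map_add, hb, hc, mul_add, map_add, mul_add]

end Push

end Groth.Agent.Lib.Helper33.WeilDim
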