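import Groth.Prelude.Def_WeilCoh
import Groth.Agent.Lib.Helper33.WeilCorr

set_option autoImplicit false
set_option linter.style.haveILetI false
set_option linter.unusedSectionVars false
universe u v
open CategoryTheory AlgebraicGeometry

namespace Groth.Agent.Lib.Helper33.WeilLef

open WeilCoh Groth.Agent.Lib.Helper33.WeilLib Groth.Agent.Lib.Helper33.WeilGraph
  Groth.Agent.Lib.Helper33.WeilKun Groth.Agent.Lib.Helper33.WeilCorr

variable {k : Type u} [Field k] [IsAlgClosed k] {K : Type v} [Field K] [CharZero K]
  (T : WeilCoh.Theory k K) {X P : WeilCoh.Var k} (p q : P ⟶ X)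

/-- the bilinear form `(b, c) ↦ tr_P(p^*b · u · q^*c)` -/
noncomputable def Psi (u : T.H P) (j : ℤ) :
    T.gr X j →ₗ[K] Module.Dual K (T.gr X (2 * (dim X.obj.left : ℤ) - j)) :=
  LinearMap.mk₂ K (fun b c => T.tr P (T.pull p (b : T.H X) * u * T.pull q (c : T.H X)))
    (by intro b b' c; simp only [Submodule.coe_add, map_add, add_mul])
    (by intro r b c; simp only [Submodule.coe_smul, map_smul, smul_mul_assoc, smul_eq_mul])
    (by intro b c c'; simp only [Submodule.coe_add, map_add, mul_add])
    (by intro r b c; simp only [Submodule.coe_smul, map_smul, mul_smul_comm, smul_eq_mul])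

/-- the action of a class `u` on the product in degree `j`: `b ↦ q_*(p^* b · u)` -/
noncomputable def act (u : T.H P) (j : ℤ) : T.gr X j →ₗ[K] T.gr X j :=
  haveI := T.duality X j (2 * (dim X.obj.left : ℤ) - j) (by ring)
  (pairing K (T.gr X j) (T.gr X (2 * (dim X.obj.left : ℤ) - j))
    (T.tr X)).toPerfPair.symm.toLinearMap ∘ₗ Psi T p q u j

theorem act_spec (u : T.H P) (j : ℤ) (b : T.gr X j)
    (c : T.gr X (2 * (dim X.obj.left : ℤ) - j)) :
    T.tr X ((act T p q u j b : T.H X) * (c : T.H X)) =
      T.tr P (T.pull p (b : T.H X) * u * T.pull q (c : T.H X)) := by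
  haveI := T.duality X j (2 * (dim X.obj.left : ℤ) - j) (by ring)
  have h := LinearMap.apply_symm_toPerfPair_self
    (pairing K (T.gr X j) (T.gr X (2 * (dim X.obj.left : ℤ) - j)) (T.tr X)) (Psi T p q u j b)
  exact LinearMap.congr_fun h c

theorem act_eq' (u : T.H P) (j : ℤ) (b z : T.gr X j)
    (h : ∀ c : T.gr X (2 * (dim X.obj.left : ℤ) - j),
      T.tr X ((z : T.H X) * (c : T.H X)) =
        T.tr P (T.pull p (b : T.H X) * u * T.pull q (c : T.H X))) :
    act T p q u j b = z := by
  apply Subtype.ext
  refine eq_of_tr_mul T (act T p q u j b).2 z.2 fun c hc => ?_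
  rw [act_spec T p q u j b ⟨c, hc⟩]
  exact (h ⟨c, hc⟩).symm

theorem act_add (u u' : T.H P) (j : ℤ) :
    act T p q (u + u') j = act T p q u j + act T p q u' j := by
  apply LinearMap.ext
  intro b
  refine act_eq' T p q _ j b _ fun c => ?_
  rw [LinearMap.add_apply, Submodule.coe_add, add_mul, map_add, act_spec, act_spec, mul_add,
    add_mul, map_add]

theorem act_zero (j : ℤ) : act T p q 0 j = 0 := by
  apply LinearMap.ext
  intro b
  refine act_eq' T p q _ j b _ fun c => ?_
  simp

variable (hP : WeilCoh.IsProd p q)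

include hP in
theorem tr_prod_mid (a b a' b' : T.H X) :
    T.tr P (T.pull p b * (T.pull p a * T.pull q a') * T.pull q b') =
      T.tr X (b * a) * T.tr X (a' * b') := by
  rw [← tr_prod' T p q hP (b * a) (a' * b'), map_mul (T.pull p), map_mul (T.pull q)]
  congr 1
  simp only [mul_assoc]

include hP in
/-- a product class acts by zero off its second degree -/
theorem act_prod_of_ne {s t : ℤ} (a a' : T.H X) (_ha : a ∈ T.gr X s) (ha' : a' ∈ T.gr X t)
    (j : ℤ) (hj : t ≠ j) : act T p q (T.pull p a * T.pull q a') j = 0 := by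
  apply LinearMap.ext
  intro b
  refine act_eq' T p q _ j b _ fun c => ?_
  rw [tr_prod_mid T p q hP, tr_mul_eq_zero T ha' c.2 (by omega)]
  simp

include hP in
/-- a product class acts in its second degree by a rank one map -/
theorem act_prod_self {s t : ℤ} (a : T.H X) (a' : T.gr X t) (_ha : a ∈ T.gr X s) :
    act T p q (T.pull p a * T.pull q (a' : T.H X)) t =
      (((T.tr X).comp (LinearMap.mulRight K a)).comp (T.gr X t).subtype).smulRight a' := by
  apply LinearMap.ext
  intro b
  refine act_eq' T p q _ t b _ fun c => ?_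
  rw [tr_prod_mid T p q hP]
  simp only [LinearMap.smulRight_apply, LinearMap.coe_comp, Function.comp_apply,
    Submodule.subtype_apply, LinearMap.mulRight_apply, Submodule.coe_smul, smul_mul_assoc,
    map_smul, smul_eq_mul]

include hP in
/-- the Lefschetz trace formula for classes: `tr_X(δ^* u)` is the graded trace of the action -/
theorem tr_pull_diag (δ : X ⟶ P) (hδp : δ ≫ p = 𝟙 X) (hδq : δ ≫ q = 𝟙 X) (u : T.H P) :
    T.tr X (T.pull δ u) = ∑ j ∈ Finset.range (2 * dim X.obj.left + 1),
      (-1 : K) ^ j * LinearMap.trace K _ (act T p q u (j : ℤ)) := by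
  induction u using kunneth_induction T p q hP with
  | hom s t a a' ha ha' =>
    have hpull : T.pull δ (T.pull p a * T.pull q a') = a * a' := by
      rw [map_mul, ← AlgHom.comp_apply, ← AlgHom.comp_apply, ← T.pull_comp, ← T.pull_comp,
        hδp, hδq, T.pull_id]
      rfl
    rw [hpull]
    by_cases ht : t < 0 ∨ 2 * (dim X.obj.left : ℤ) < t
    · have h0 : a' = 0 := eq_zero_of_mem_of_vanish T ha' ht
      subst h0
      simp [act_zero]
    · push Not at ht
      obtain ⟨j₀, rfl⟩ := Int.eq_ofNat_of_zero_le ht.1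
      have hj₀ : j₀ ∈ Finset.range (2 * dim X.obj.left + 1) := by
        rw [Finset.mem_range]; omega
      rw [Finset.sum_eq_single_of_mem j₀ hj₀]
      · rw [act_prod_self T p q hP a ⟨a', ha'⟩ ha, LinearMap.trace_smulRight]
        simp only [LinearMap.coe_comp, Function.comp_apply, Submodule.subtype_apply,
          LinearMap.mulRight_apply]
        by_cases hst : s + (j₀ : ℤ) = 2 * (dim X.obj.left : ℤ)
        · have hc := T.gradedComm X s (j₀ : ℤ) a a' ha ha'
          rw [hc, map_smul, smul_eq_mul]
          congr 1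
          have hs : s.natAbs = 2 * dim X.obj.left - j₀ := by omega
          rw [hs, Int.natAbs_natCast]
          rcases Nat.even_or_odd j₀ with he | ho
          · rw [he.neg_one_pow, (he.mul_left _).neg_one_pow]
          · have ho' : Odd (2 * dim X.obj.left - j₀) := by
              rcases ho with ⟨m, hm⟩
              exact ⟨dim X.obj.left - m - 1, by omega⟩
            rw [ho.neg_one_pow, (ho'.mul ho).neg_one_pow]
        · rw [tr_mul_eq_zero T ha ha' hst, tr_mul_eq_zero T ha' ha (by omega), mul_zero]
      · intro j _ hne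
        rw [act_prod_of_ne T p q hP a a' ha ha' (j : ℤ) (by
          intro h; exact hne (by exact_mod_cast h.symm)), map_zero, mul_zero]
  | zero => simp [act_zero]
  | add c c' hc hc' =>
    rw [map_add, map_add, hc, hc', ← Finset.sum_add_distrib]
    refine Finset.sum_congr rfl fun j _ => ?_
    rw [act_add, map_add, mul_add]

include hP in
/-- the transposed graph of `G` acts as `G^*` -/
theorem act_graph (G : X ⟶ X) (jG : X ⟶ P) (hjp : jG ≫ p = G) (hjq : jG ≫ q = 𝟙 X) (j : ℤ) :
    haveI : IrreducibleSpace ↥X.obj.left := X.property.2.2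
    act T p q (T.cl P (sm jG (genericPoint ↥X.obj.left))) j = T.pullDeg G j := by
  haveI : IrreducibleSpace ↥X.obj.left := X.property.2.2
  apply LinearMap.ext
  intro b
  refine act_eq' T p q _ j b _ fun c => ?_
  rw [tr_graph T p q hP G jG hjp hjq]
  rfl

include hP in
/-- the Lefschetz trace formula: the intersection number of the transposed graph of `G` with the
diagonal is the alternating sum of the traces of `G^*` -/
theorem lefschetz (G : X ⟶ X) (jG δ : X ⟶ P) (hjp : jG ≫ p = G) (hjq : jG ≫ q = 𝟙 X)
    (hδp : δ ≫ p = 𝟙 X) (hδq : δ ≫ q = 𝟙 X) :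
    haveI : IrreducibleSpace ↥X.obj.left := X.property.2.2
    T.tr X (T.pull δ (T.cl P (sm jG (genericPoint ↥X.obj.left)))) =
      ∑ j ∈ Finset.range (2 * dim X.obj.left + 1),
        (-1 : K) ^ j * LinearMap.trace K _ (T.pullDeg G (j : ℤ)) := by
  haveI : IrreducibleSpace ↥X.obj.left := X.property.2.2
  rw [tr_pull_diag T p q hP δ hδp hδq]
  refine Finset.sum_congr rfl fun j _ => ?_
  rw [act_graph T p q hP G jG hjp hjq]

end Groth.Agent.Lib.Helper33.WeilLef
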