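import Groth.Prelude.Def_WeilCoh
import Groth.Agent.Lib.Helper33.WeilLef
import Groth.Agent.Lib.Helper33.WeilDim

set_option autoImplicit false
set_option linter.style.haveILetI false
set_option linter.unusedSectionVars false
universe u v
open CategoryTheory AlgebraicGeometry

namespace Groth.Agent.Lib.Helper33.WeilFix

open WeilCoh Groth.Agent.Lib.Helper33.WeilLib Groth.Agent.Lib.Helper33.WeilGraph
  Groth.Agent.Lib.Helper33.WeilKun Groth.Agent.Lib.Helper33.WeilCorr
  Groth.Agent.Lib.Helper33.WeilPt Groth.Agent.Lib.Helper33.WeilGen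
  Groth.Agent.Lib.Helper33.WeilDim

open TopologicalSpace in
/-- in a Noetherian sober space, a closed set all of whose points are closed is finite -/
theorem finite_of_isClosed_of_forall_isClosed {α : Type*} [TopologicalSpace α] [NoetherianSpace α]
    [QuasiSober α] {s : Set α} (hs : IsClosed s) (h : ∀ x ∈ s, IsClosed ({x} : Set α)) :
    s.Finite := by
  obtain ⟨S, hSf, hSc, hSi, rfl⟩ := NoetherianSpace.exists_finite_set_isClosed_irreducible hs
  refine Set.Finite.sUnion hSf fun t ht => ?_
  obtain ⟨ξ, hξ⟩ := QuasiSober.sober (hSi t ht) (hSc t ht)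
  have hξt : ξ ∈ t := hξ.mem
  have hcl := h ξ (Set.mem_sUnion.2 ⟨t, ht, hξt⟩)
  have : t = {ξ} := by rw [← hξ.def, hcl.closure_eq]
  rw [this]
  exact Set.finite_singleton ξ

variable {k : Type u} [Field k] [IsAlgClosed k] {K : Type v} [Field K] [CharZero K]
  (T : WeilCoh.Theory k K) {X P : WeilCoh.Var k} (p q : P ⟶ X)

theorem noetherianSpace (X : WeilCoh.Var k) : TopologicalSpace.NoetherianSpace ↥X.obj.left := by
  haveI := lft X
  haveI := quasiCompact_hom X
  haveI : CompactSpace ↥X.obj.left := by
    have := QuasiCompact.isCompact_preimage (f := X.obj.hom) Set.univ isOpen_univ isCompact_univ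
    exact isCompact_univ_iff.1 (by simpa using this)
  haveI : IsNoetherian X.obj.left := { __ := LocallyOfFiniteType.isLocallyNoetherian X.obj.hom }
  infer_instance

/-- the closure of the generic point of a graph is the graph -/
theorem closure_graph (jG : X ⟶ P) (hjq : jG ≫ q = 𝟙 X) :
    haveI : IrreducibleSpace ↥X.obj.left := X.property.2.2
    closure ({sm jG (genericPoint ↥X.obj.left)} : Set P.obj.left) = Set.range (sm jG) := by
  haveI : IrreducibleSpace ↥X.obj.left := X.property.2.2
  haveI := isClosedImmersion_of_section jG q hjq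
  have hce := (sm jG).isClosedEmbedding
  rw [← Set.image_singleton, hce.isClosedMap.closure_image_eq_of_continuous hce.continuous,
    (genericPoint_spec ↥X.obj.left).def, Set.image_univ]

theorem preimage_graph (jG δ : X ⟶ P) (hjq : jG ≫ q = 𝟙 X) (hδq : δ ≫ q = 𝟙 X) :
    haveI : IrreducibleSpace ↥X.obj.left := X.property.2.2
    (sm δ) ⁻¹' closure ({sm jG (genericPoint ↥X.obj.left)} : Set P.obj.left) =
      {w | sm δ w = sm jG w} := by
  haveI : IrreducibleSpace ↥X.obj.left := X.property.2.2
  rw [closure_graph q jG hjq]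
  ext w
  simp only [Set.mem_preimage, Set.mem_range, Set.mem_ofPred_eq]
  constructor
  · rintro ⟨y, hy⟩
    have h1 : sm q (sm jG y) = y := by
      have := congrArg (fun f : X ⟶ X => (sm f) y) hjq
      exact this
    have h2 : sm q (sm δ w) = w := by
      have := congrArg (fun f : X ⟶ X => (sm f) w) hδq
      exact this
    have : y = w := by rw [← h1, hy, h2]
    subst this
    exact hy.symm
  · intro h
    exact ⟨w, h.symm⟩

variable (hP : WeilCoh.IsProd p q)

include hP in
/-- the fixed point formula: if the fixed points of `G` are closed points of multiplicity one,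
the intersection number of the graph with the diagonal is the number of fixed points -/
theorem fixed_point_formula (jG δ : X ⟶ P) (hjq : jG ≫ q = 𝟙 X) (hδq : δ ≫ q = 𝟙 X)
    (H1 : ∀ w : X.obj.left, sm δ w = sm jG w → IsClosed ({w} : Set X.obj.left))
    (H2 : haveI : IrreducibleSpace ↥X.obj.left := X.property.2.2
      ∀ (w : X.obj.left)
      (h : sm δ w ∈ closure ({sm jG (genericPoint ↥X.obj.left)} : Set P.obj.left)),
      preimMult (sm δ) (sm jG (genericPoint ↥X.obj.left)) w h = 1) :
    haveI : IrreducibleSpace ↥X.obj.left := X.property.2.2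
    {w : X.obj.left | sm δ w = sm jG w}.Finite ∧
    T.tr X (T.pull δ (T.cl P (sm jG (genericPoint ↥X.obj.left)))) =
      (Nat.card {w : X.obj.left // sm δ w = sm jG w} : K) := by
  haveI : IrreducibleSpace ↥X.obj.left := X.property.2.2
  haveI := noetherianSpace X
  set ξ := sm jG (genericPoint ↥X.obj.left) with hξ
  have hpre := preimage_graph q jG δ hjq hδq
  have hSclosed : IsClosed {w : X.obj.left | sm δ w = sm jG w} := by
    rw [← hpre]
    exact isClosed_closure.preimage (sm δ).continuous
  have hfin : {w : X.obj.left | sm δ w = sm jG w}.Finite :=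
    finite_of_isClosed_of_forall_isClosed hSclosed H1
  refine ⟨hfin, ?_⟩
  have hcomp : ∀ w : X.obj.left,
      IsCompPt ((sm δ) ⁻¹' closure ({ξ} : Set P.obj.left)) w ↔ sm δ w = sm jG w := by
    intro w
    rw [hpre]
    constructor
    · exact fun h => h.1
    · intro hw
      refine ⟨hw, fun w' hw' hsp => ?_⟩
      have hcl := H1 w' hw'
      have : w ∈ closure ({w'} : Set X.obj.left) := specializes_iff_mem_closure.1 hsp
      rw [hcl.closure_eq] at this
      exact this.symm
  haveI := isClosedImmersion_of_section jG q hjq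
  have hd := dim_prod T p q hP
  have key := T.cl_pull δ ξ
    (by
      intro w hw
      have hw' := (hcomp w).1 hw
      rw [pdim_of_isClosed _ w (H1 w hw'), hξ, pdim_section (sm jG)]
      omega)
    (Or.inr fun w hw => H2 w hw.1)
  rw [key]
  haveI : Finite {w : X.obj.left // IsCompPt ((sm δ) ⁻¹' closure ({ξ} : Set P.obj.left)) w} :=
    (hfin.subset fun w hw => (hcomp w).1 hw).to_subtype
  rw [map_finsum _ (Set.toFinite _)]
  have h1 : ∀ w : {w : X.obj.left // IsCompPt ((sm δ) ⁻¹' closure ({ξ} : Set P.obj.left)) w},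
      T.tr X ((preimMult (sm δ) ξ w.1 w.2.1 : K) • T.cl X w.1) = 1 := by
    intro w
    rw [H2 w.1 w.2.1, Nat.cast_one, one_smul]
    exact tr_cl_closedPoint T X w.1 (H1 w.1 ((hcomp w.1).1 w.2))
  rw [finsum_congr h1]
  haveI := Fintype.ofFinite
    {w : X.obj.left // IsCompPt ((sm δ) ⁻¹' closure ({ξ} : Set P.obj.left)) w}
  rw [finsum_eq_sum_of_fintype, Finset.sum_const, Finset.card_univ, nsmul_eq_mul, mul_one,
    ← Nat.card_eq_fintype_card]
  congr 1
  exact Nat.card_congr (Equiv.subtypeEquivRight hcomp)

end Groth.Agent.Lib.Helper33.WeilFix
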