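import Groth.Prelude.Def_WeilCoh
import Groth.Agent.Lib.Helper33.WeilDim
import Groth.Agent.Lib.Helper33.WeilGen
import Groth.Agent.Lib.Helper97.FrobTower

set_option autoImplicit false
set_option linter.style.haveILetI false
set_option linter.unusedSectionVars false
universe u v
open CategoryTheory AlgebraicGeometry

namespace Groth.Agent.Lib.Helper33.WeilFrob

open WeilCoh Groth.Agent.Lib.Helper73 Groth.Agent.Lib.Helper33.WeilPt
  Groth.Agent.Lib.Helper33.WeilDim

section Algebra

/-- the degree of a field extension given by a ring homomorphism is the degree over its range -/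
theorem finrank_toAlgebra_eq_fieldRange {A L : Type u} [Field A] [Field L] (φ : A →+* L) :
    @Module.finrank A L _ _ φ.toAlgebra.toModule = Module.finrank φ.fieldRange L := by
  letI := φ.toAlgebra
  exact Algebra.finrank_eq_of_equiv_equiv φ.rangeRestrictFieldEquiv (RingEquiv.refl L)
    (by ext x; rfl)

end Algebra

section Naturality

/-- the absolute `q`-Frobenius of a scheme is natural for points with values in a field -/
theorem frob_natural {X : Scheme.{u}} (FX : X ⟶ X) (hle : ∀ U : X.Opens, U ≤ FX ⁻¹ᵁ U) (q : ℕ)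
    (hFapp : ∀ (U : X.Opens) (s : Γ(X, U)), (FX.appLE U U (hle U)).hom s = s ^ q)
    (K : Type u) [Field K] (fr : CommRingCat.of K ⟶ CommRingCat.of K)
    (hfr : ∀ x, fr.hom x = x ^ q) (g : Spec (CommRingCat.of K) ⟶ X) :
    Spec.map fr ≫ g = g ≫ FX := by
  set x := g (IsLocalRing.closedPoint K) with hx
  obtain ⟨U, hU, hxU, -⟩ := exists_isAffineOpen_mem_and_subset (X := X) (x := x) (U := ⊤) trivial
  have hrange : Set.range g ⊆ Set.range hU.fromSpec := by
    rw [hU.range_fromSpec]
    rintro _ ⟨y, rfl⟩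
    have : y = IsLocalRing.closedPoint K := Subsingleton.elim _ _
    rw [this]; exact hxU
  set g' := IsOpenImmersion.lift hU.fromSpec g hrange with hg'
  have hfac : g' ≫ hU.fromSpec = g := IsOpenImmersion.lift_fac _ _ _
  set ψ := Spec.preimage g' with hψ
  have hψ' : Spec.map ψ = g' := Spec.map_preimage _
  have hcomm : ψ ≫ fr = FX.appLE U U (hle U) ≫ ψ := by
    ext s
    show fr.hom (ψ.hom s) = ψ.hom ((FX.appLE U U (hle U)).hom s)
    rw [hfr, hFapp, map_pow]
  calc Spec.map fr ≫ g = Spec.map fr ≫ Spec.map ψ ≫ hU.fromSpec := by rw [hψ', hfac]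
    _ = Spec.map (ψ ≫ fr) ≫ hU.fromSpec := by rw [Spec.map_comp, Category.assoc]
    _ = Spec.map (FX.appLE U U (hle U) ≫ ψ) ≫ hU.fromSpec := by rw [hcomm]
    _ = Spec.map ψ ≫ Spec.map (FX.appLE U U (hle U)) ≫ hU.fromSpec := by
        rw [Spec.map_comp, Category.assoc]
    _ = Spec.map ψ ≫ hU.fromSpec ≫ FX := by rw [IsAffineOpen.SpecMap_appLE_fromSpec FX hU hU]
    _ = g ≫ FX := by rw [← Category.assoc, hψ', hfac]

end Naturality


section Twist

variable {k₀ k : Type u} [Field k₀] [Field k] [Algebra k₀ k] {X Xb : Scheme.{u}}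
  {f : X ⟶ Spec (CommRingCat.of k₀)} {π : Xb ⟶ X} {str : Xb ⟶ Spec (CommRingCat.of k)}
  (hπ : IsPullback π str f (Spec.map (CommRingCat.ofHom (algebraMap k₀ k))))

/-- the endomorphism `id × Spec b` of a base change `X ×_{k₀} k`, for an endomorphism `b` of `k`
over `k₀` -/
noncomputable def twist (b : k →+* k) (hb : ∀ c, b (algebraMap k₀ k c) = algebraMap k₀ k c) :
    Xb ⟶ Xb :=
  hπ.lift π (str ≫ Spec.map (CommRingCat.ofHom b)) (by
    rw [hπ.w, Category.assoc, ← Spec.map_comp]
    congr 2
    ext c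
    exact (hb c).symm)

@[reassoc (attr := simp)]
theorem twist_fst (b : k →+* k) (hb : ∀ c, b (algebraMap k₀ k c) = algebraMap k₀ k c) :
    twist hπ b hb ≫ π = π := hπ.lift_fst _ _ _

@[reassoc (attr := simp)]
theorem twist_snd (b : k →+* k) (hb : ∀ c, b (algebraMap k₀ k c) = algebraMap k₀ k c) :
    twist hπ b hb ≫ str = str ≫ Spec.map (CommRingCat.ofHom b) := hπ.lift_snd _ _ _

theorem twist_comp_twist (b b' : k →+* k) (hb : ∀ c, b (algebraMap k₀ k c) = algebraMap k₀ k c)
    (hb' : ∀ c, b' (algebraMap k₀ k c) = algebraMap k₀ k c) (h : b.comp b' = RingHom.id k) :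
    twist hπ b hb ≫ twist hπ b' hb' = 𝟙 Xb := by
  apply hπ.hom_ext
  · simp
  · rw [Category.assoc, twist_snd, twist_snd_assoc, ← Spec.map_comp, Category.id_comp]
    have : CommRingCat.ofHom b' ≫ CommRingCat.ofHom b = 𝟙 _ := by
      ext c
      exact RingHom.congr_fun h c
    rw [this, Spec.map_id, Category.comp_id]

theorem isIso_twist (b b' : k →+* k) (hb : ∀ c, b (algebraMap k₀ k c) = algebraMap k₀ k c)
    (hb' : ∀ c, b' (algebraMap k₀ k c) = algebraMap k₀ k c) (h : b.comp b' = RingHom.id k)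
    (h' : b'.comp b = RingHom.id k) : IsIso (twist hπ b hb) :=
  ⟨twist hπ b' hb', twist_comp_twist hπ b b' hb hb' h, twist_comp_twist hπ b' b hb' hb h'⟩

end Twist


section Key

variable {k₀ k : Type u} [Field k₀] [Field k] [Algebra k₀ k] {X Xb : Scheme.{u}}
  {f : X ⟶ Spec (CommRingCat.of k₀)} {π : Xb ⟶ X} {str : Xb ⟶ Spec (CommRingCat.of k)}
  (hπ : IsPullback π str f (Spec.map (CommRingCat.ofHom (algebraMap k₀ k))))
  (FX : X ⟶ X) (hle : ∀ U : X.Opens, U ≤ FX ⁻¹ᵁ U) (q : ℕ)
  (hFapp : ∀ (U : X.Opens) (s : Γ(X, U)), (FX.appLE U U (hle U)).hom s = s ^ q)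
  (F : Xb ⟶ Xb) (hF : F ≫ π = π ≫ FX) (hFs : F ≫ str = str)
  (b : k →+* k) (hb : ∀ c, b (algebraMap k₀ k c) = algebraMap k₀ k c) (hbq : ∀ c, (b c) ^ q = c)

include hF hFs hbq hFapp in
theorem key_eq (η : Xb) (fr : Xb.residueField η ⟶ Xb.residueField η)
    (hfr : ∀ x, fr.hom x = x ^ q) :
    Xb.fromSpecResidueField η ≫ F =
      Spec.map fr ≫ Xb.fromSpecResidueField η ≫ twist hπ b hb := by
  apply hπ.hom_ext
  · rw [Category.assoc, hF, Category.assoc, Category.assoc, twist_fst, ← Category.assoc,
      ← Category.assoc]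
    exact (frob_natural FX hle q hFapp (Xb.residueField η) fr hfr
      (Xb.fromSpecResidueField η ≫ π)).symm
  · rw [Category.assoc, hFs, Category.assoc, Category.assoc, twist_snd]
    set ψ₀ := Spec.preimage (Xb.fromSpecResidueField η ≫ str) with hψ₀
    have h1 : Spec.map ψ₀ = Xb.fromSpecResidueField η ≫ str := Spec.map_preimage _
    rw [← Category.assoc (Xb.fromSpecResidueField η), ← h1, ← Spec.map_comp, ← Spec.map_comp]
    congr 1
    ext c
    show ψ₀.hom c = fr.hom (ψ₀.hom (b c))
    rw [hfr, ← map_pow, hbq]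

include hF hFs hbq hFapp in
theorem exists_residueFieldMap_eq (η : Xb) (fr : Xb.residueField η ⟶ Xb.residueField η)
    (hfr : ∀ x, fr.hom x = x ^ q) :
    ∃ e : F η = twist hπ b hb η, F.residueFieldMap η =
      (Xb.residueFieldCongr e).hom ≫ (twist hπ b hb).residueFieldMap η ≫ fr := by
  have h := key_eq hπ FX hle q hFapp F hF hFs b hb hbq η fr hfr
  have h2 : Spec.map (F.residueFieldMap η) ≫ Xb.fromSpecResidueField (F η) =
      Spec.map ((twist hπ b hb).residueFieldMap η ≫ fr) ≫
        Xb.fromSpecResidueField (twist hπ b hb η) := by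
    rw [Scheme.Hom.SpecMap_residueFieldMap_fromSpecResidueField, Spec.map_comp, Category.assoc,
      Scheme.Hom.SpecMap_residueFieldMap_fromSpecResidueField]
    exact h
  have h3 := (Scheme.SpecToEquivOfField (Xb.residueField η) Xb).symm.injective
    (a₁ := ⟨F η, F.residueFieldMap η⟩)
    (a₂ := ⟨twist hπ b hb η, (twist hπ b hb).residueFieldMap η ≫ fr⟩) h2
  exact Scheme.SpecToEquivOfField_eq_iff.mp h3

end Key


section EssFinite

variable {k : Type u} [Field k]

lemma essFiniteType_of_ringEquiv {K L : Type u} [Field K] [Field L] (φ : k →+* K) (ψ : k →+* L)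
    (e : K ≃+* L) (he : e.toRingHom.comp φ = ψ)
    (h : @Algebra.EssFiniteType k K _ _ φ.toAlgebra) :
    @Algebra.EssFiniteType k L _ _ ψ.toAlgebra := by
  letI := φ.toAlgebra
  letI := ψ.toAlgebra
  let e' : K ≃ₐ[k] L := AlgEquiv.ofRingEquiv (f := e) (fun c => by
    change e.toRingHom (φ c) = ψ c
    rw [← he]; rfl)
  exact Algebra.EssFiniteType.of_surjective e'.toAlgHom e'.surjective

lemma essFiniteType_of_ringEquiv' {K L : Type u} [Field K] [Field L] (φ : k →+* K) (ψ : k →+* L)
    (e : K ≃+* L) (he : e.toRingHom.comp φ = ψ)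
    (h : @Algebra.EssFiniteType k L _ _ ψ.toAlgebra) :
    @Algebra.EssFiniteType k K _ _ φ.toAlgebra := by
  refine essFiniteType_of_ringEquiv ψ φ e.symm ?_ h
  ext c
  rw [← he]
  simp

lemma essFiniteType_residueField_of_isOpenImmersion {X Y : Scheme.{u}}
    (f : X ⟶ Spec (CommRingCat.of k)) (g : Y ⟶ X) [IsOpenImmersion g] (y : Y)
    (h : @Algebra.EssFiniteType k (Y.residueField y) _ _ (resMapOf (g ≫ f) y).toAlgebra) :
    @Algebra.EssFiniteType k (X.residueField (g y)) _ _ (resMapOf f (g y)).toAlgebra := by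
  refine essFiniteType_of_ringEquiv' _ _
    (asIso (g.residueFieldMap y)).commRingCatIsoToRingEquiv ?_ h
  rw [← residueFieldMap_comp_resMapOf f g y]
  rfl

set_option backward.isDefEq.respectTransparency.types false in
lemma essFiniteType_residueField_Spec (A : Type u) [CommRing A] [Algebra k A]
    [Algebra.FiniteType k A] (p : Spec (CommRingCat.of A)) :
    @Algebra.EssFiniteType k ((Spec (CommRingCat.of A)).residueField p) _ _
      (resMapOf (Spec.map (CommRingCat.ofHom (algebraMap k A))) p).toAlgebra := by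
  have h0 : Algebra.EssFiniteType k p.asIdeal.ResidueField :=
    Algebra.EssFiniteType.comp k A _
  have halg : (algebraMap k p.asIdeal.ResidueField).toAlgebra =
      (inferInstance : Algebra k p.asIdeal.ResidueField) :=
    Algebra.algebra_ext _ _ (fun _ => rfl)
  refine essFiniteType_of_ringEquiv'
    (resMapOf (Spec.map (CommRingCat.ofHom (algebraMap k A))) p)
    (algebraMap k p.asIdeal.ResidueField)
    (Scheme.Spec.residueFieldIso (CommRingCat.of A) p).commRingCatIsoToRingEquiv ?_
    (by rw [halg]; exact h0)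
  ext c
  simp only [RingHom.comp_apply, resMapOf_apply]
  have h1 := Scheme.ΓSpecIso_inv_naturality (CommRingCat.ofHom (algebraMap k A))
  have h2 : (Spec.map (CommRingCat.ofHom (algebraMap k A))).appTop
      ((Scheme.ΓSpecIso (CommRingCat.of k)).inv c) =
      (Scheme.ΓSpecIso (CommRingCat.of A)).inv (algebraMap k A c) := by
    have := congrArg (fun φ => φ.hom c) h1
    exact this.symm
  rw [h2]
  have h3 := Scheme.Spec.algebraMap_residueFieldIso_inv (CommRingCat.of A) p
  have h4 : (Scheme.Spec.residueFieldIso (CommRingCat.of A) p).inv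
      (algebraMap A p.asIdeal.ResidueField (algebraMap k A c)) =
      (Spec (CommRingCat.of A)).Γevaluation p
        ((Scheme.ΓSpecIso (CommRingCat.of A)).inv (algebraMap k A c)) := by
    have := congrArg (fun φ => φ.hom (algebraMap k A c)) h3
    exact this
  rw [← h4]
  change (Scheme.Spec.residueFieldIso (CommRingCat.of A) p).hom
    ((Scheme.Spec.residueFieldIso (CommRingCat.of A) p).inv _) = _
  rw [← CommRingCat.comp_apply, Iso.inv_hom_id]
  simp [IsScalarTower.algebraMap_apply k A p.asIdeal.ResidueField]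

set_option backward.isDefEq.respectTransparency.types false in
/-- residue fields of a scheme locally of finite type over a field are finitely generated field
extensions -/
theorem essFiniteType_residueField {X : Scheme.{u}} (f : X ⟶ Spec (CommRingCat.of k))
    [LocallyOfFiniteType f] (x : X) :
    @Algebra.EssFiniteType k (X.residueField x) _ _ (resMapOf f x).toAlgebra := by
  obtain ⟨U, hU, hxU, -⟩ := exists_isAffineOpen_mem_and_subset (X := X) (x := x) (U := ⊤) trivial
  have hx : x ∈ Set.range hU.fromSpec := by rw [hU.range_fromSpec]; exact hxU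
  obtain ⟨p, rfl⟩ := hx
  letI := chartAlgebra f hU
  haveI := chart_finiteType f hU
  refine essFiniteType_residueField_of_isOpenImmersion f hU.fromSpec p ?_
  have h := essFiniteType_residueField_Spec (k := k) Γ(X, U) p
  rw [chart_specMap f hU] at h
  exact h

end EssFinite


section Degree

variable {k₀ k : Type u} [Field k₀] [Field k] [Algebra k₀ k] {X Xb : Scheme.{u}}
  {f : X ⟶ Spec (CommRingCat.of k₀)} {π : Xb ⟶ X} {str : Xb ⟶ Spec (CommRingCat.of k)}
  (hπ : IsPullback π str f (Spec.map (CommRingCat.ofHom (algebraMap k₀ k))))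
  (FX : X ⟶ X) (hle : ∀ U : X.Opens, U ≤ FX ⁻¹ᵁ U) (q : ℕ)
  (hFapp : ∀ (U : X.Opens) (s : Γ(X, U)), (FX.appLE U U (hle U)).hom s = s ^ q)
  (F : Xb ⟶ Xb) (hF : F ≫ π = π ≫ FX) (hFs : F ≫ str = str)
  (b b' : k →+* k) (hb : ∀ c, b (algebraMap k₀ k c) = algebraMap k₀ k c)
  (hb' : ∀ c, b' (algebraMap k₀ k c) = algebraMap k₀ k c)
  (hbb' : b.comp b' = RingHom.id k) (hb'b : b'.comp b = RingHom.id k)
  (hbq : ∀ c, (b c) ^ q = c)

include hπ hb hF hFs hbq hFapp hb' hbb' hb'b in
theorem range_residueFieldMap (η : Xb) (fr : Xb.residueField η ⟶ Xb.residueField η)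
    (hfr : ∀ x, fr.hom x = x ^ q) :
    Set.range (F.residueFieldMap η).hom = Set.range fr.hom := by
  obtain ⟨e, he⟩ := exists_residueFieldMap_eq hπ FX hle q hFapp F hF hFs b hb hbq η fr hfr
  haveI : IsIso (twist hπ b hb) := isIso_twist hπ b b' hb hb' hbb' hb'b
  have hs1 : Function.Surjective
      ((Xb.residueFieldCongr e).hom ≫ (twist hπ b hb).residueFieldMap η).hom :=
    ((ConcreteCategory.isIso_iff_bijective _).1 inferInstance).2
  ext y
  constructor
  · rintro ⟨z, rfl⟩
    rw [he]
    exact ⟨_, rfl⟩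
  · rintro ⟨w, rfl⟩
    obtain ⟨z, rfl⟩ := hs1 w
    refine ⟨z, ?_⟩
    rw [he]
    rfl

include hπ hb hF hFs hbq hFapp hb' hbb' hb'b in
/-- the degree of `Frob × id` at a point is `q ^ trdeg` -/
theorem residueDegree_frob (p : ℕ) [Fact p.Prime] (e : ℕ) (hq : q = p ^ e) [CharP k p]
    [PerfectRing k p] [LocallyOfFiniteType str] (η : Xb) :
    F.residueDegree η = q ^ trdegNat str η := by
  letI alg : Algebra k (Xb.residueField η) := (resMapOf str η).toAlgebra
  haveI : CharP (Xb.residueField η) p :=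
    charP_of_injective_algebraMap (algebraMap k (Xb.residueField η)).injective p
  haveI hess : Algebra.EssFiniteType k (Xb.residueField η) := essFiniteType_residueField str η
  have htr : Algebra.trdeg k (Xb.residueField η) = (trdegNat str η : ℕ) := trdeg_eq_trdegNat str η
  set fr : Xb.residueField η ⟶ Xb.residueField η :=
    CommRingCat.ofHom (iterateFrobenius (Xb.residueField η) p e) with hfrdef
  have hfr : ∀ x, fr.hom x = x ^ q := by
    intro x
    rw [hq]
    rfl
  have hrange := range_residueFieldMap hπ FX hle q hFapp F hF hFs b b' hb hb' hbb' hb'b hbq η fr hfr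
  have hfield : (F.residueFieldMap η).hom.fieldRange =
      (iterateFrobenius (Xb.residueField η) p e).fieldRange := by
    apply SetLike.coe_injective
    rw [RingHom.coe_fieldRange, RingHom.coe_fieldRange]
    exact hrange
  have h1 := Groth.Agent.Lib.Helper97.FrobTower.finrank_frobenius_range_of_perfect p
    (K := Xb.residueField η) k (trdegNat str η) htr
  have h2 := Groth.Agent.Lib.Helper97.FrobTower.finrank_iterateFrobenius_range p
    (K := Xb.residueField η) _ h1 e
  unfold Scheme.Hom.residueDegree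
  rw [finrank_toAlgebra_eq_fieldRange, hfield, h2, hq, ← pow_mul, ← pow_mul, mul_comm]

end Degree


section WeilApp

open Groth.Agent.Lib.Helper33.WeilLib Groth.Agent.Lib.Helper33.WeilGen

/-- an endomorphism of finite degree at the generic point fixes the generic point -/
theorem map_genericPoint_of_residueDegree_ne_zero {k : Type u} [Field k] {X : WeilCoh.Var k}
    (F : X ⟶ X) :
    haveI : IrreducibleSpace ↥X.obj.left := X.property.2.2
    (sm F).residueDegree (genericPoint ↥X.obj.left) ≠ 0 →
      sm F (genericPoint ↥X.obj.left) = genericPoint ↥X.obj.left := by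
  haveI : IrreducibleSpace ↥X.obj.left := X.property.2.2
  intro h
  haveI := lft X
  have hp := pdim_map_of_residueDegree_ne_zero F _ h
  rw [pdim_eq_trdegNat X.obj.hom, pdim_eq_trdegNat X.obj.hom] at hp
  by_contra hne
  have hlt := (isDimFun_trdegNat X.obj.hom).lt_of_specializes
    (genericPoint_specializes (sm F (genericPoint ↥X.obj.left))) (Ne.symm hne)
  omega

/-- an endomorphism of degree `d ≠ 0` multiplies traces by `d` -/
theorem tr_pull_of_residueDegree {k : Type u} [Field k] [IsAlgClosed k] {K : Type v} [Field K]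
    [CharZero K] (T : WeilCoh.Theory k K) {X : WeilCoh.Var k} (F : X ⟶ X) (d : ℕ) (hd : d ≠ 0) :
    haveI : IrreducibleSpace ↥X.obj.left := X.property.2.2
    (sm F).residueDegree (genericPoint ↥X.obj.left) = d →
      ∀ c : T.H X, T.tr X (T.pull F c) = (d : K) * T.tr X c := by
  haveI : IrreducibleSpace ↥X.obj.left := X.property.2.2
  intro h c
  have hfix := map_genericPoint_of_residueDegree_ne_zero F (by rw [h]; exact hd)
  have h1 := tr_cl_mul_pull T F (genericPoint ↥X.obj.left) c
  rw [hfix, cl_genericPoint T X, one_mul, one_mul, h] at h1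
  exact h1

variable {k₀ k : Type u} [Field k₀] [Finite k₀] [Field k] [IsAlgClosed k] [Algebra k₀ k]
  {X : Scheme.{u}} (f : X ⟶ Spec (CommRingCat.of k₀))
  (FX : X ⟶ X) (hle : ∀ U : X.Opens, U ≤ FX ⁻¹ᵁ U)
  (hFapp : ∀ (U : X.Opens) (s : Γ(X, U)), (FX.appLE U U (hle U)).hom s = s ^ Nat.card k₀)
  (Xb : WeilCoh.Var k) (π : Xb.obj.left ⟶ X)
  (hπ : IsPullback π Xb.obj.hom f (Spec.map (CommRingCat.ofHom (algebraMap k₀ k))))
  (F : Xb ⟶ Xb) (hF : WeilCoh.sm F ≫ π = π ≫ FX)

include hπ hFapp hF in
/-- the degree of `Frob_q × id` at a point with closure of dimension `r` is `q ^ r` -/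
theorem residueDegree_frobenius (η : Xb.obj.left) :
    (sm F).residueDegree η = (Nat.card k₀) ^ (pdim Xb.obj.left η) := by
  haveI := Fintype.ofFinite k₀
  set p := ringChar k₀ with hp
  haveI : CharP k₀ p := ringChar.charP k₀
  haveI : Fact p.Prime := ⟨CharP.char_is_prime k₀ p⟩
  obtain ⟨n, -, hn⟩ := FiniteField.card k₀ p
  have hq : Nat.card k₀ = p ^ (n : ℕ) := by rw [Nat.card_eq_fintype_card, hn]
  haveI : CharP k p := charP_of_injective_algebraMap (algebraMap k₀ k).injective p
  haveI : ExpChar k p := ExpChar.prime Fact.out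
  haveI : PerfectRing k p := inferInstance
  haveI := lft Xb
  have hfix : ∀ c : k₀, (algebraMap k₀ k c) ^ (p ^ (n : ℕ)) = algebraMap k₀ k c := by
    intro c
    rw [← map_pow, ← hn, FiniteField.pow_card]
  let b' : k →+* k := iterateFrobenius k p n
  let b : k →+* k := (iterateFrobeniusEquiv k p n).symm.toRingHom
  have hb' : ∀ c, b' (algebraMap k₀ k c) = algebraMap k₀ k c := hfix
  have hb : ∀ c, b (algebraMap k₀ k c) = algebraMap k₀ k c := by
    intro c
    apply (iterateFrobeniusEquiv k p n).injective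
    show (iterateFrobeniusEquiv k p n) ((iterateFrobeniusEquiv k p n).symm _) = _
    rw [RingEquiv.apply_symm_apply]
    exact (hfix c).symm
  have hbb' : b.comp b' = RingHom.id k := by
    ext c
    exact (iterateFrobeniusEquiv k p n).symm_apply_apply c
  have hb'b : b'.comp b = RingHom.id k := by
    ext c
    exact (iterateFrobeniusEquiv k p n).apply_symm_apply c
  have hbq : ∀ c, (b c) ^ (Nat.card k₀) = c := by
    intro c
    rw [hq]
    exact (iterateFrobeniusEquiv k p n).apply_symm_apply c
  have := residueDegree_frob hπ FX hle (Nat.card k₀) hFapp (sm F) hF (Over.w F.hom) b b' hb hb'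
    hbb' hb'b hbq p n hq η
  rw [this, pdim_eq_trdegNat Xb.obj.hom]

include hπ hFapp hF in
/-- `Frob_q × id` multiplies traces by `q ^ dim` -/
theorem tr_pull_frobenius {K : Type v} [Field K] [CharZero K] (T : WeilCoh.Theory k K)
    (c : T.H Xb) :
    T.tr Xb (T.pull F c) = ((Nat.card k₀ : K) ^ dim Xb.obj.left) * T.tr Xb c := by
  haveI : IrreducibleSpace ↥Xb.obj.left := Xb.property.2.2
  have h := residueDegree_frobenius f FX hle hFapp Xb π hπ F hF (genericPoint ↥Xb.obj.left)
  rw [pdim_genericPoint] at h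
  have hne : (Nat.card k₀) ^ (dim Xb.obj.left) ≠ 0 := pow_ne_zero _ Nat.card_pos.ne'
  have := tr_pull_of_residueDegree T F _ hne h c
  rw [this]
  push_cast
  rfl

end WeilApp

end Groth.Agent.Lib.Helper33.WeilFrob
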