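import Groth.Agent.Lib.Helper33.WeilFrob
import Groth.Agent.Lib.Helper33.WeilFix
import Groth.Agent.Lib.Helper33.WeilCyc

set_option autoImplicit false
set_option linter.style.haveILetI false
set_option linter.unusedSectionVars false
universe u v
open CategoryTheory AlgebraicGeometry

namespace Groth.Agent.Lib.Helper33.WeilFrobFix

open WeilCoh Groth.Agent.Lib.Helper33.WeilLib Groth.Agent.Lib.Helper33.WeilGraph
  Groth.Agent.Lib.Helper33.WeilPt Groth.Agent.Lib.Helper33.WeilGen
  Groth.Agent.Lib.Helper33.WeilDim Groth.Agent.Lib.Helper33.WeilFrob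
  Groth.Agent.Lib.Helper33.WeilCyc
open Groth.Agent.Lib.Helper73


section Iterate

/-- iterates of an endomorphism -/
def iter {C : Type*} [Category C] {X : C} (f : X ⟶ X) : ℕ → (X ⟶ X)
  | 0 => 𝟙 X
  | m + 1 => iter f m ≫ f

variable {X : Scheme.{u}} (FX : X ⟶ X) (hle : ∀ U : X.Opens, U ≤ FX ⁻¹ᵁ U) (q : ℕ)
  (hFapp : ∀ (U : X.Opens) (s : Γ(X, U)), (FX.appLE U U (hle U)).hom s = s ^ q)

include hle in
theorem iter_le (m : ℕ) (U : X.Opens) : U ≤ (iter FX m) ⁻¹ᵁ U := by
  induction m with
  | zero => exact le_rfl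
  | succ m ih =>
    show U ≤ (iter FX m) ⁻¹ᵁ (FX ⁻¹ᵁ U)
    exact ih.trans ((TopologicalSpace.Opens.map (iter FX m).base).map (homOfLE (hle U))).le

include hFapp in
theorem iter_appLE (m : ℕ) (U : X.Opens) (s : Γ(X, U)) :
    ((iter FX m).appLE U U (iter_le FX hle m U)).hom s = s ^ q ^ m := by
  induction m generalizing s with
  | zero =>
    simp only [pow_zero, pow_one]
    have : ∀ (g : X ⟶ X) (_ : g = 𝟙 X) (e : U ≤ g ⁻¹ᵁ U), (g.appLE U U e).hom s = s := by
      intro g hg e
      subst hg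
      simp only [Scheme.Hom.appLE, Scheme.Hom.id_app, CommRingCat.hom_comp, RingHom.comp_apply]
      change (X.presheaf.map (𝟙 (Opposite.op U))).hom s = s
      simp
    exact this _ rfl _
  | succ m ih =>
    have h := Scheme.Hom.appLE_comp_appLE (iter FX m) FX U U U (hle U) (iter_le FX hle m U)
    have h2 : ((iter FX (m + 1)).appLE U U (iter_le FX hle (m + 1) U)) =
        FX.appLE U U (hle U) ≫ (iter FX m).appLE U U (iter_le FX hle m U) := h.symm
    rw [h2]
    show ((iter FX m).appLE U U _).hom ((FX.appLE U U (hle U)).hom s) = _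
    rw [hFapp, ih, ← pow_mul, pow_succ, mul_comm]

end Iterate

section General

/-- two sections of `q` that agree at a point agree on the residue field point -/
theorem fromSpecResidueField_comp_eq {X P : Scheme.{u}} (d j : X ⟶ P) (q : P ⟶ X)
    (hd : d ≫ q = 𝟙 X) (hj : j ≫ q = 𝟙 X) (w : X) (h : d w = j w) :
    X.fromSpecResidueField w ≫ d = X.fromSpecResidueField w ≫ j := by
  set z := d w with hz
  set D := d.residueFieldMap w with hD
  set J := j.residueFieldMap w with hJ
  set c := (P.residueFieldCongr h).hom with hc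
  set Q := q.residueFieldMap z with hQ
  have hα : X.fromSpecResidueField w ≫ d = Spec.map D ≫ P.fromSpecResidueField z :=
    (Scheme.Hom.SpecMap_residueFieldMap_fromSpecResidueField d w).symm
  have hβ : X.fromSpecResidueField w ≫ j = Spec.map (c ≫ J) ≫ P.fromSpecResidueField z := by
    rw [Spec.map_comp, Category.assoc, Scheme.residueFieldCongr_fromSpecResidueField,
      Scheme.Hom.SpecMap_residueFieldMap_fromSpecResidueField]
  have hq : P.fromSpecResidueField z ≫ q = Spec.map Q ≫ X.fromSpecResidueField (q z) :=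
    (Scheme.Hom.SpecMap_residueFieldMap_fromSpecResidueField q z).symm
  have h1 : Spec.map (Q ≫ D) ≫ X.fromSpecResidueField (q z) = X.fromSpecResidueField w := by
    rw [Spec.map_comp, Category.assoc, ← hq, ← Category.assoc, ← hα, Category.assoc, hd,
      Category.comp_id]
  have h2 : Spec.map (Q ≫ (c ≫ J)) ≫ X.fromSpecResidueField (q z) =
      X.fromSpecResidueField w := by
    rw [Spec.map_comp, Category.assoc, ← hq, ← Category.assoc, ← hβ, Category.assoc, hj,
      Category.comp_id]
  have h3 : Q ≫ D = Q ≫ (c ≫ J) := by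
    apply Spec.map_injective
    rw [← cancel_mono (X.fromSpecResidueField (q z)), h1, h2]
  have h4 := (Scheme.SpecToEquivOfField (X.residueField w) X).symm.injective
    (a₁ := ⟨q z, Q ≫ D⟩) (a₂ := ⟨w, 𝟙 _⟩) (by
      show Spec.map (Q ≫ D) ≫ _ = Spec.map (𝟙 _) ≫ _
      rw [h1, Spec.map_id, Category.id_comp])
  obtain ⟨e, he⟩ := Scheme.SpecToEquivOfField_eq_iff.mp h4
  have hbij : Function.Bijective (Q ≫ D).hom := by
    have he' : Q ≫ D = (X.residueFieldCongr e).hom := by
      exact he.trans (Category.comp_id _)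
    rw [he']
    exact (ConcreteCategory.isIso_iff_bijective _).1 inferInstance
  have hQs : Function.Surjective Q.hom := by
    intro y
    obtain ⟨x, hx⟩ := hbij.2 (D.hom y)
    exact ⟨x, D.hom.injective hx⟩
  have h5 : D = c ≫ J := by
    ext y
    obtain ⟨x, rfl⟩ := hQs y
    exact congrArg (fun g => g.hom x) h3
  rw [hα, hβ, h5]

theorem isClosed_of_trdegNat_eq_zero {k : Type u} [Field k] {X : Scheme.{u}}
    (f : X ⟶ Spec (CommRingCat.of k)) [LocallyOfFiniteType f] (w : X) (h : trdegNat f w = 0) :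
    IsClosed ({w} : Set X) := by
  rw [← closure_eq_iff_isClosed]
  refine subset_antisymm ?_ subset_closure
  intro y hy
  have hsp : w ⤳ y := specializes_iff_mem_closure.2 hy
  by_contra hne
  have := (isDimFun_trdegNat f).lt_of_specializes hsp (fun e => hne (e ▸ rfl))
  omega

/-- the infinitesimal neighbourhood of a fixed point cut out by the graph: the two sections agree
on it -/
theorem spec_quot_comp_eq {X P : Scheme.{u}} (d j : X ⟶ P) (q : P ⟶ X)
    (hd : d ≫ q = 𝟙 X) (hj : j ≫ q = 𝟙 X) (w η : X) (hηw : η ⤳ w) (h : j w = d w)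
    (hsp : j η ⤳ d w) (Rb : CommRingCat.{u}) (quot : X.presheaf.stalk w ⟶ Rb)
    (hquot : ∀ b : P.presheaf.stalk (d w), Cyc.specMap (d w) (j η) hsp b = 0 →
      quot.hom ((d.stalkMap w).hom b) = 0) :
    Spec.map quot ≫ X.fromSpecStalk w ≫ d = Spec.map quot ≫ X.fromSpecStalk w ≫ j := by
  set z := d w with hz
  have hqz : q z = w := by
    have := congrArg (fun g : X ⟶ X => g w) hd
    exact this
  set Jz : P.presheaf.stalk z ⟶ X.presheaf.stalk w :=
    P.presheaf.stalkSpecializes (specializes_of_eq h) ≫ j.stalkMap w with hJz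
  set Qz : X.presheaf.stalk w ⟶ P.presheaf.stalk z :=
    X.presheaf.stalkSpecializes (specializes_of_eq hqz) ≫ q.stalkMap z with hQz
  have hιd : X.fromSpecStalk w ≫ d = Spec.map (d.stalkMap w) ≫ P.fromSpecStalk z :=
    (Scheme.SpecMap_stalkMap_fromSpecStalk d).symm
  have hιj : X.fromSpecStalk w ≫ j = Spec.map Jz ≫ P.fromSpecStalk z := by
    rw [hJz, Spec.map_comp, Category.assoc, Scheme.SpecMap_stalkSpecializes_fromSpecStalk,
      Scheme.SpecMap_stalkMap_fromSpecStalk]
  have hιq : P.fromSpecStalk z ≫ q = Spec.map Qz ≫ X.fromSpecStalk w := by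
    rw [hQz, Spec.map_comp, Category.assoc, Scheme.SpecMap_stalkSpecializes_fromSpecStalk,
      Scheme.SpecMap_stalkMap_fromSpecStalk]
  have hQd : Qz ≫ d.stalkMap w = 𝟙 _ := by
    apply Spec.map_injective
    rw [← cancel_mono (X.fromSpecStalk w), Spec.map_comp, Category.assoc, ← hιq,
      ← Category.assoc, ← hιd, Category.assoc, hd, Category.comp_id, Spec.map_id,
      Category.id_comp]
  have hQJ : Qz ≫ Jz = 𝟙 _ := by
    apply Spec.map_injective
    rw [← cancel_mono (X.fromSpecStalk w), Spec.map_comp, Category.assoc, ← hιq,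
      ← Category.assoc, ← hιj, Category.assoc, hj, Category.comp_id, Spec.map_id,
      Category.id_comp]
  -- the kernel of `Jz` lies in the prime ideal of the graph
  set φ : X.presheaf.stalk w ⟶ X.residueField η :=
    X.presheaf.stalkSpecializes hηw ≫ X.residue η with hφ
  set ψ : P.presheaf.stalk z ⟶ P.residueField (j η) :=
    P.presheaf.stalkSpecializes hsp ≫ P.residue (j η) with hψ
  have hφι : Spec.map φ ≫ X.fromSpecStalk w = X.fromSpecResidueField η := by
    rw [hφ, Spec.map_comp, Category.assoc, Scheme.SpecMap_stalkSpecializes_fromSpecStalk]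
    rfl
  have hψι : Spec.map ψ ≫ P.fromSpecStalk z = P.fromSpecResidueField (j η) := by
    rw [hψ, Spec.map_comp, Category.assoc, Scheme.SpecMap_stalkSpecializes_fromSpecStalk]
    rfl
  have hcomm : Jz ≫ φ = ψ ≫ j.residueFieldMap η := by
    apply Spec.map_injective
    rw [← cancel_mono (P.fromSpecStalk z), Spec.map_comp, Category.assoc, ← hιj,
      ← Category.assoc, hφι, Spec.map_comp, Category.assoc, hψι,
      Scheme.Hom.SpecMap_residueFieldMap_fromSpecResidueField]
  have hker : ∀ b : P.presheaf.stalk z, Jz.hom b = 0 → Cyc.specMap z (j η) hsp b = 0 := by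
    intro b hb
    have h1 : (j.residueFieldMap η).hom (ψ.hom b) = φ.hom (Jz.hom b) :=
      (congrArg (fun g => g.hom b) hcomm).symm
    rw [hb, map_zero] at h1
    have h2 : ψ.hom b = 0 := (j.residueFieldMap η).hom.injective (by rw [h1, map_zero])
    exact h2
  have hfin : d.stalkMap w ≫ quot = Jz ≫ quot := by
    ext b
    show quot.hom ((d.stalkMap w).hom b) = quot.hom (Jz.hom b)
    have hJb : Jz.hom (b - Qz.hom (Jz.hom b)) = 0 := by
      rw [map_sub]
      have := congrArg (fun g => g.hom (Jz.hom b)) hQJ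
      simp only [CommRingCat.hom_comp, RingHom.comp_apply, CommRingCat.hom_id,
        RingHom.id_apply] at this
      rw [this, sub_self]
    have h3 := hquot _ (hker _ hJb)
    rw [map_sub, map_sub] at h3
    have := congrArg (fun g => g.hom (Jz.hom b)) hQd
    simp only [CommRingCat.hom_comp, RingHom.comp_apply, CommRingCat.hom_id,
      RingHom.id_apply] at this
    rw [this] at h3
    exact sub_eq_zero.1 h3
  rw [hιd, hιj, ← Category.assoc, ← Category.assoc, ← Spec.map_comp, ← Spec.map_comp, hfin]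

end General

section Deg

variable {k₀ k : Type u} [Field k₀] [Finite k₀] [Field k] [IsAlgClosed k] [Algebra k₀ k]
  {X : Scheme.{u}} (f : X ⟶ Spec (CommRingCat.of k₀))
  (m : ℕ) (FXm : X ⟶ X) (hle : ∀ U : X.Opens, U ≤ FXm ⁻¹ᵁ U)
  (hFapp : ∀ (U : X.Opens) (s : Γ(X, U)),
    (FXm.appLE U U (hle U)).hom s = s ^ (Nat.card k₀) ^ m)
  (Xb : WeilCoh.Var k) (π : Xb.obj.left ⟶ X)
  (hπ : IsPullback π Xb.obj.hom f (Spec.map (CommRingCat.ofHom (algebraMap k₀ k))))
  (G : Xb ⟶ Xb) (hG : WeilCoh.sm G ≫ π = π ≫ FXm)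

include hπ hFapp hG in
/-- the degree of `Frob_q^m × id` at a point with closure of dimension `r` is `q ^ (m r)` -/
theorem residueDegree_frobenius_pow (η : Xb.obj.left) :
    (sm G).residueDegree η = ((Nat.card k₀) ^ m) ^ (pdim Xb.obj.left η) := by
  haveI := Fintype.ofFinite k₀
  set p := ringChar k₀ with hp
  haveI : CharP k₀ p := ringChar.charP k₀
  haveI : Fact p.Prime := ⟨CharP.char_is_prime k₀ p⟩
  obtain ⟨n, -, hn⟩ := FiniteField.card k₀ p
  have hq0 : Nat.card k₀ = p ^ (n : ℕ) := by rw [Nat.card_eq_fintype_card, hn]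
  have hq : (Nat.card k₀) ^ m = p ^ ((n : ℕ) * m) := by rw [hq0, pow_mul]
  haveI : CharP k p := charP_of_injective_algebraMap (algebraMap k₀ k).injective p
  haveI : ExpChar k p := ExpChar.prime Fact.out
  haveI : PerfectRing k p := inferInstance
  haveI := lft Xb
  have hfix : ∀ c : k₀, (algebraMap k₀ k c) ^ (p ^ ((n : ℕ) * m)) = algebraMap k₀ k c := by
    intro c
    rw [← map_pow, ← hq, Nat.card_eq_fintype_card, FiniteField.pow_card_pow]
  let b' : k →+* k := iterateFrobenius k p ((n : ℕ) * m)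
  let b : k →+* k := (iterateFrobeniusEquiv k p ((n : ℕ) * m)).symm.toRingHom
  have hb' : ∀ c, b' (algebraMap k₀ k c) = algebraMap k₀ k c := hfix
  have hb : ∀ c, b (algebraMap k₀ k c) = algebraMap k₀ k c := by
    intro c
    apply (iterateFrobeniusEquiv k p ((n : ℕ) * m)).injective
    show (iterateFrobeniusEquiv k p ((n : ℕ) * m))
      ((iterateFrobeniusEquiv k p ((n : ℕ) * m)).symm _) = _
    rw [RingEquiv.apply_symm_apply]
    exact (hfix c).symm
  have hbb' : b.comp b' = RingHom.id k := by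
    ext c
    exact (iterateFrobeniusEquiv k p ((n : ℕ) * m)).symm_apply_apply c
  have hb'b : b'.comp b = RingHom.id k := by
    ext c
    exact (iterateFrobeniusEquiv k p ((n : ℕ) * m)).apply_symm_apply c
  have hbq : ∀ c, (b c) ^ ((Nat.card k₀) ^ m) = c := by
    intro c
    rw [hq]
    exact (iterateFrobeniusEquiv k p ((n : ℕ) * m)).apply_symm_apply c
  have := residueDegree_frob hπ FXm hle ((Nat.card k₀) ^ m) hFapp (sm G) hG (Over.w G.hom) b b'
    hb hb' hbb' hb'b hbq p ((n : ℕ) * m) hq η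
  rw [this, pdim_eq_trdegNat Xb.obj.hom]

include hπ hFapp hG in
/-- fixed points of `Frob_q^m × id` (`m ≥ 1`) in the strong sense are closed points -/
theorem isClosed_of_fixed (hm : m ≠ 0) (w : Xb.obj.left)
    (h : Xb.obj.left.fromSpecResidueField w ≫ sm G = Xb.obj.left.fromSpecResidueField w) :
    IsClosed ({w} : Set Xb.obj.left) := by
  have h1 : Spec.map ((sm G).residueFieldMap w) ≫ Xb.obj.left.fromSpecResidueField (sm G w) =
      Xb.obj.left.fromSpecResidueField w := by
    rw [Scheme.Hom.SpecMap_residueFieldMap_fromSpecResidueField, h]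
  have h4 := (Scheme.SpecToEquivOfField (Xb.obj.left.residueField w) Xb.obj.left).symm.injective
    (a₁ := ⟨sm G w, (sm G).residueFieldMap w⟩) (a₂ := ⟨w, 𝟙 _⟩) (by
      show Spec.map _ ≫ _ = Spec.map (𝟙 _) ≫ _
      rw [h1, Spec.map_id, Category.id_comp])
  obtain ⟨e, he⟩ := Scheme.SpecToEquivOfField_eq_iff.mp h4
  have hsurj : Function.Surjective ((sm G).residueFieldMap w).hom := by
    have he' : (sm G).residueFieldMap w = (Xb.obj.left.residueFieldCongr e).hom := by
      exact he.trans (Category.comp_id _)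
    rw [he']
    exact ((ConcreteCategory.isIso_iff_bijective _).1 inferInstance).2
  have hdeg := residueDegree_eq_one_of_surjective (sm G) w hsurj
  rw [residueDegree_frobenius_pow f m FXm hle hFapp Xb π hπ G hG w] at hdeg
  haveI := Fintype.ofFinite k₀
  have hq1 : 1 < Nat.card k₀ := by
    rw [Nat.card_eq_fintype_card]; exact Fintype.one_lt_card
  have hq2 : 1 < (Nat.card k₀) ^ m := Nat.one_lt_pow hm hq1
  have hp0 : pdim Xb.obj.left w = 0 := by
    by_contra hne
    have : 1 < ((Nat.card k₀) ^ m) ^ (pdim Xb.obj.left w) := Nat.one_lt_pow hne hq2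
    omega
  haveI := lft Xb
  rw [pdim_eq_trdegNat Xb.obj.hom] at hp0
  exact isClosed_of_trdegNat_eq_zero Xb.obj.hom w hp0

include hπ hFapp hG in
/-- the core of transversality of the graph of Frobenius: an infinitesimal neighbourhood of a
closed point on which `Frob_q^m × id` is the identity is reduced to the point -/
theorem quot_eq_zero_of_fixed (hm : m ≠ 0) (w : Xb.obj.left)
    (hw : IsClosed ({w} : Set Xb.obj.left)) (Rb : CommRingCat.{u})
    (quot : Xb.obj.left.presheaf.stalk w ⟶ Rb) (hsurj : Function.Surjective quot.hom)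
    (resb : Rb ⟶ Xb.obj.left.residueField w) (hres : quot ≫ resb = Xb.obj.left.residue w)
    (hζ : (Spec.map quot ≫ Xb.obj.left.fromSpecStalk w) ≫ sm G =
      Spec.map quot ≫ Xb.obj.left.fromSpecStalk w)
    (r : Xb.obj.left.presheaf.stalk w)
    (hr : r ∈ IsLocalRing.maximalIdeal (Xb.obj.left.presheaf.stalk w)) : quot.hom r = 0 := by
  haveI := lft Xb
  -- characteristic data
  haveI := Fintype.ofFinite k₀
  set p := ringChar k₀ with hp
  haveI : CharP k₀ p := ringChar.charP k₀
  haveI : Fact p.Prime := ⟨CharP.char_is_prime k₀ p⟩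
  obtain ⟨n, -, hn⟩ := FiniteField.card k₀ p
  have hq0 : Nat.card k₀ = p ^ (n : ℕ) := by rw [Nat.card_eq_fintype_card, hn]
  have hq : (Nat.card k₀) ^ m = p ^ ((n : ℕ) * m) := by rw [hq0, pow_mul]
  have hq1 : 1 < Nat.card k₀ := by
    rw [Nat.card_eq_fintype_card]; exact Fintype.one_lt_card
  have hq2 : 1 < (Nat.card k₀) ^ m := Nat.one_lt_pow hm hq1
  haveI : CharP k p := charP_of_injective_algebraMap (algebraMap k₀ k).injective p
  set str := Xb.obj.hom with hstr
  set ι := Xb.obj.left.fromSpecStalk w with hι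
  set ζ := Spec.map quot ≫ ι with hζdef
  -- the residue field is `k`
  set iso := residueFieldIsoBase str w hw with hiso
  set γ : CommRingCat.of k ⟶ Xb.obj.left.residueField w := iso.inv with hγ
  set e : Xb.obj.left.residueField w ⟶ CommRingCat.of k := iso.hom with he
  have hγe : γ ≫ e = 𝟙 _ := iso.inv_hom_id
  have heγ : e ≫ γ = 𝟙 _ := iso.hom_inv_id
  have hSγ : Spec.map γ = Xb.obj.left.fromSpecResidueField w ≫ str :=
    SpecMap_residueFieldIsoBase_inv str w hw
  -- the structure map of the neighbourhood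
  set ρ : CommRingCat.of k ⟶ Rb := Spec.preimage (ζ ≫ str) with hρ
  have hSρ : Spec.map ρ = ζ ≫ str := Spec.map_preimage _
  have hρres : ρ ≫ resb = γ := by
    apply Spec.map_injective
    rw [Spec.map_comp, hSρ, hζdef, ← Category.assoc, ← Category.assoc, ← Spec.map_comp, hres,
      hSγ]
    rfl
  set ε : Rb ⟶ Rb := resb ≫ e ≫ ρ with hε
  have hρε : ρ ≫ ε = ρ := by
    rw [hε, ← Category.assoc, hρres, ← Category.assoc, hγe, Category.id_comp]
  haveI : Nontrivial Rb := by
    refine ⟨⟨0, 1, fun h01 => ?_⟩⟩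
    have := congrArg resb.hom h01
    rw [map_zero, map_one] at this
    exact zero_ne_one this
  have hρinj : Function.Injective ρ.hom := ρ.hom.injective
  haveI : CharP Rb p := charP_of_injective_ringHom hρinj p
  -- units of the neighbourhood
  have hunit : ∀ u : Rb, resb.hom u ≠ 0 → IsUnit u := by
    intro u hu
    obtain ⟨u', rfl⟩ := hsurj u
    have h1 : (Xb.obj.left.residue w).hom u' ≠ 0 := by
      rw [← hres]; exact hu
    have h2 : u' ∉ IsLocalRing.maximalIdeal (Xb.obj.left.presheaf.stalk w) := by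
      intro hmem
      exact h1 ((IsLocalRing.residue_eq_zero_iff u').2 hmem)
    exact (IsLocalRing.notMem_maximalIdeal.1 h2).map quot.hom
  -- the map to `X`
  set θ := ζ ≫ π with hθ
  have hθF : θ ≫ FXm = θ := by
    rw [hθ, Category.assoc, ← hG, ← Category.assoc, hζ]
  set x := π w with hx
  obtain ⟨U, hU, hxU, -⟩ := exists_isAffineOpen_mem_and_subset (X := X) (x := x) (U := ⊤) trivial
  have hrange : Set.range θ ⊆ Set.range hU.fromSpec := by
    rw [hU.range_fromSpec]
    rintro _ ⟨y, rfl⟩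
    have h1 : ι (Spec.map quot y) ⤳ w := by
      have : ι (Spec.map quot y) ∈ Set.range ι := ⟨_, rfl⟩
      rw [Scheme.range_fromSpecStalk] at this
      exact this
    have h2 : π (ι (Spec.map quot y)) ⤳ x := h1.map π.continuous
    exact h2.mem_open U.2 hxU
  set θ' := IsOpenImmersion.lift hU.fromSpec θ hrange with hθ'
  have hfac : θ' ≫ hU.fromSpec = θ := IsOpenImmersion.lift_fac _ _ _
  set ψ := Spec.preimage θ' with hψ
  have hSψ : Spec.map ψ = θ' := Spec.map_preimage _
  have hψF : FXm.appLE U U (hle U) ≫ ψ = ψ := by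
    apply Spec.map_injective
    rw [← cancel_mono hU.fromSpec, Spec.map_comp, Category.assoc,
      IsAffineOpen.SpecMap_appLE_fromSpec FXm hU hU, ← Category.assoc, hSψ, hfac, hθF]
  have hpow : ∀ a : Γ(X, U), (ψ.hom a) ^ ((Nat.card k₀) ^ m) = ψ.hom a := by
    intro a
    have := congrArg (fun g => g.hom a) hψF
    simp only [CommRingCat.hom_comp, RingHom.comp_apply] at this
    rw [hFapp, map_pow] at this
    exact this
  -- every such element lies in `k`
  have hψε : ψ ≫ ε = ψ := by
    ext a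
    show ε.hom (ψ.hom a) = ψ.hom a
    set t := ψ.hom a with ht
    have htQ : t ^ ((Nat.card k₀) ^ m) = t := hpow a
    set c : k := e.hom (resb.hom t) with hc
    have hγc : γ.hom c = resb.hom t := by
      have := congrArg (fun g => g.hom (resb.hom t)) heγ
      exact this
    have hρc : resb.hom (ρ.hom c) = resb.hom t := by
      rw [← hγc, ← hρres]; rfl
    have hcQ : c ^ ((Nat.card k₀) ^ m) = c := by
      apply γ.hom.injective
      rw [map_pow, hγc, ← map_pow, htQ]
    set g := t - ρ.hom c with hg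
    have hgres : resb.hom g = 0 := by rw [hg, map_sub, hρc, sub_self]
    have hgQ : g ^ ((Nat.card k₀) ^ m) = g := by
      rw [hg, hq, sub_pow_char_pow, ← hq, htQ, ← map_pow, hcQ]
    have hg0 : g = 0 := by
      have h1 : g * (1 - g ^ ((Nat.card k₀) ^ m - 1)) = 0 := by
        have : g * g ^ ((Nat.card k₀) ^ m - 1) = g ^ ((Nat.card k₀) ^ m) := by
          rw [← pow_succ']
          congr 1
          omega
        rw [mul_sub, mul_one, this, hgQ, sub_self]
      have h2 : IsUnit (1 - g ^ ((Nat.card k₀) ^ m - 1)) := by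
        apply hunit
        rw [map_sub, map_one, map_pow, hgres, zero_pow (by omega), sub_zero]
        exact one_ne_zero
      exact (h2.mul_left_eq_zero).1 h1
    have htρ : t = ρ.hom c := sub_eq_zero.1 hg0
    rw [htρ]
    exact congrArg (fun g => g.hom c) hρε
  -- the neighbourhood retracts to the point
  have hfix : Spec.map ε ≫ ζ = ζ := by
    apply hπ.hom_ext
    · rw [Category.assoc]
      show Spec.map ε ≫ θ = θ
      rw [← hfac, ← hSψ, ← Category.assoc, ← Spec.map_comp, hψε]
    · rw [Category.assoc, ← hSρ, ← Spec.map_comp, hρε]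
  have hquotε : quot ≫ ε = quot := by
    apply Spec.map_injective
    rw [← cancel_mono ι, Spec.map_comp, Category.assoc]
    exact hfix
  have h1 : quot.hom r = ε.hom (quot.hom r) := (congrArg (fun g => g.hom r) hquotε).symm
  rw [h1]
  show ρ.hom (e.hom (resb.hom (quot.hom r))) = 0
  have h2 : resb.hom (quot.hom r) = 0 := by
    have : resb.hom (quot.hom r) = (Xb.obj.left.residue w).hom r := by rw [← hres]; rfl
    rw [this]
    exact (IsLocalRing.residue_eq_zero_iff r).2 hr
  rw [h2, map_zero, map_zero]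

end Deg

section Fix

open Groth.Agent.Lib.Helper33.WeilFix Groth.Agent.Lib.Helper33.WeilLef

variable {k₀ k : Type u} [Field k₀] [Finite k₀] [Field k] [IsAlgClosed k] [Algebra k₀ k]
  {X : Scheme.{u}} (f : X ⟶ Spec (CommRingCat.of k₀))
  (m : ℕ) (FXm : X ⟶ X) (hle : ∀ U : X.Opens, U ≤ FXm ⁻¹ᵁ U)
  (hFapp : ∀ (U : X.Opens) (s : Γ(X, U)),
    (FXm.appLE U U (hle U)).hom s = s ^ (Nat.card k₀) ^ m)
  (Xb : WeilCoh.Var k) (π : Xb.obj.left ⟶ X)
  (hπ : IsPullback π Xb.obj.hom f (Spec.map (CommRingCat.ofHom (algebraMap k₀ k))))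
  (G : Xb ⟶ Xb) (hG : WeilCoh.sm G ≫ π = π ≫ FXm)
  (Pb : WeilCoh.Var k) (p q : Pb ⟶ Xb) (δ jG : Xb ⟶ Pb)
  (hδp : δ ≫ p = 𝟙 Xb) (hδq : δ ≫ q = 𝟙 Xb) (hjp : jG ≫ p = G) (hjq : jG ≫ q = 𝟙 Xb)

include hπ hFapp hG hδp hδq hjp hjq in
theorem fromSpecResidueField_fixed (w : Xb.obj.left) (h : sm δ w = sm jG w) :
    Xb.obj.left.fromSpecResidueField w ≫ sm G = Xb.obj.left.fromSpecResidueField w := by
  have hd : sm δ ≫ sm q = 𝟙 _ := by rw [← sm_comp, hδq, sm_id]
  have hj : sm jG ≫ sm q = 𝟙 _ := by rw [← sm_comp, hjq, sm_id]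
  have h1 := fromSpecResidueField_comp_eq (sm δ) (sm jG) (sm q) hd hj w h
  have hGp : sm G = sm jG ≫ sm p := by rw [← sm_comp, hjp]
  have hdp : sm δ ≫ sm p = 𝟙 _ := by rw [← sm_comp, hδp, sm_id]
  rw [hGp, ← Category.assoc, ← h1, Category.assoc, hdp, Category.comp_id]

include hπ hFapp hG hδp hδq hjp hjq in
theorem isClosed_of_mem_fix (hm : m ≠ 0) (w : Xb.obj.left) (h : sm δ w = sm jG w) :
    IsClosed ({w} : Set Xb.obj.left) :=
  isClosed_of_fixed f m FXm hle hFapp Xb π hπ G hG hm w
    (fromSpecResidueField_fixed f m FXm hle hFapp Xb π hπ G hG Pb p q δ jG hδp hδq hjp hjq w h)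

include hπ hFapp hG hδp hδq hjp hjq in
/-- the graph of `Frob_q^m × id` meets the diagonal transversally -/
theorem preimMult_fix (hm : m ≠ 0) (w : Xb.obj.left) :
    haveI : IrreducibleSpace ↥Xb.obj.left := Xb.property.2.2
    ∀ (h : sm δ w ∈ closure ({sm jG (genericPoint ↥Xb.obj.left)} : Set Pb.obj.left)),
    preimMult (sm δ) (sm jG (genericPoint ↥Xb.obj.left)) w h = 1 := by
  haveI : IrreducibleSpace ↥Xb.obj.left := Xb.property.2.2
  intro h
  have hd : sm δ ≫ sm q = 𝟙 _ := by rw [← sm_comp, hδq, sm_id]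
  have hj : sm jG ≫ sm q = 𝟙 _ := by rw [← sm_comp, hjq, sm_id]
  have hGp : sm G = sm jG ≫ sm p := by rw [← sm_comp, hjp]
  have hdp : sm δ ≫ sm p = 𝟙 _ := by rw [← sm_comp, hδp, sm_id]
  have hmem : sm δ w = sm jG w := by
    have hpre := preimage_graph q jG δ hjq hδq
    have hw : w ∈ (sm δ) ⁻¹' closure ({sm jG (genericPoint ↥Xb.obj.left)} : Set Pb.obj.left) := h
    rw [hpre] at hw
    exact hw
  have hw := isClosed_of_mem_fix f m FXm hle hFapp Xb π hπ G hG Pb p q δ jG hδp hδq hjp hjq hm w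
    hmem
  unfold preimMult
  set R := Xb.obj.left.presheaf.stalk w
  set I : Ideal R := Ideal.map ((sm δ).stalkMap w).hom
      (RingHom.ker (Cyc.specMap (sm δ w) (sm jG (genericPoint ↥Xb.obj.left))
        (specializes_iff_mem_closure.mpr h))) with hI
  have hle' : I ≤ IsLocalRing.maximalIdeal R := by
    refine le_trans (Ideal.map_mono ?_) (IsLocalRing.map_maximalIdeal_le ((sm δ).stalkMap w).hom)
    exact IsLocalRing.le_maximalIdeal (RingHom.ker_ne_top _)
  have hge : IsLocalRing.maximalIdeal R ≤ I := by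
    intro r hr
    set quot : Xb.obj.left.presheaf.stalk w ⟶ CommRingCat.of (R ⧸ I) :=
      CommRingCat.ofHom (Ideal.Quotient.mk I) with hquot
    set resb : CommRingCat.of (R ⧸ I) ⟶ Xb.obj.left.residueField w :=
      CommRingCat.ofHom (Ideal.Quotient.lift I (Xb.obj.left.residue w).hom
        (fun a ha => (IsLocalRing.residue_eq_zero_iff a).2 (hle' ha))) with hresb
    have hres : quot ≫ resb = Xb.obj.left.residue w := by
      ext a
      rfl
    have hA := spec_quot_comp_eq (sm δ) (sm jG) (sm q) hd hj w (genericPoint ↥Xb.obj.left)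
      (genericPoint_specializes w) hmem.symm (specializes_iff_mem_closure.mpr h) _ quot
      (fun b hb => Ideal.Quotient.eq_zero_iff_mem.2
        (Ideal.mem_map_of_mem _ (RingHom.mem_ker.2 hb)))
    have hζ : (Spec.map quot ≫ Xb.obj.left.fromSpecStalk w) ≫ sm G =
        Spec.map quot ≫ Xb.obj.left.fromSpecStalk w := by
      calc (Spec.map quot ≫ Xb.obj.left.fromSpecStalk w) ≫ sm G
          = (Spec.map quot ≫ Xb.obj.left.fromSpecStalk w ≫ sm jG) ≫ sm p := by
            rw [hGp]; simp only [Category.assoc]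
        _ = (Spec.map quot ≫ Xb.obj.left.fromSpecStalk w ≫ sm δ) ≫ sm p := by rw [hA]
        _ = Spec.map quot ≫ Xb.obj.left.fromSpecStalk w := by
            simp only [Category.assoc]; rw [hdp, Category.comp_id]
    have := quot_eq_zero_of_fixed f m FXm hle hFapp Xb π hπ G hG hm w hw _ quot
      Ideal.Quotient.mk_surjective resb hres hζ r hr
    exact Ideal.Quotient.eq_zero_iff_mem.1 this
  have hIeq : I = IsLocalRing.maximalIdeal R := le_antisymm hle' hge
  have hco : IsCoatom I := by
    rw [hIeq]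
    exact Ideal.isMaximal_def.1 (IsLocalRing.maximalIdeal.isMaximal R)
  have hs : IsSimpleModule R (R ⧸ I) := isSimpleModule_iff_isCoatom.2 hco
  rw [Module.length_eq_one_iff.2 hs]
  rfl

variable {K : Type v} [Field K] [CharZero K] (T : WeilCoh.Theory k K) (hP : WeilCoh.IsProd p q)

include hπ hFapp hG hδp hδq hjp hjq hP in
/-- the Lefschetz number of `Frob_q^m × id` is its number of fixed points -/
theorem trace_eq_card_fix (hm : m ≠ 0) :
    ∑ j ∈ Finset.range (2 * dim Xb.obj.left + 1),
        (-1 : K) ^ j * LinearMap.trace K _ (T.pullDeg G (j : ℤ)) =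
      (Nat.card {w : Xb.obj.left // sm δ w = sm jG w} : K) := by
  rw [← lefschetz T p q hP G jG δ hjp hjq hδp hδq]
  exact (fixed_point_formula T p q hP jG δ hjq hδq
    (isClosed_of_mem_fix f m FXm hle hFapp Xb π hπ G hG Pb p q δ jG hδp hδq hjp hjq hm)
    (preimMult_fix f m FXm hle hFapp Xb π hπ G hG Pb p q δ jG hδp hδq hjp hjq hm)).2

end Fix

end Groth.Agent.Lib.Helper33.WeilFrobFix
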