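import Groth.Agent.Lib.Helper33.WeilFrobFix
import Groth.Prelude.Def_W4c1zetahwZeta

set_option autoImplicit false
set_option linter.style.haveILetI false
set_option linter.unusedSectionVars false
universe u v
open CategoryTheory AlgebraicGeometry

namespace Groth.Agent.Lib.Helper33.ZetaCount

section Sigma

theorem card_sigma_of_fibres {α : Type u} (Φ : α → Type u) (d : α → ℕ) (m : ℕ) (hm : m ≠ 0)
    (hΦ : ∀ x, Nat.card (Φ x) = if d x ∣ m then d x else 0) [Finite (Σ x, Φ x)] :
    Nat.card (Σ x, Φ x) = ∑ e ∈ m.divisors, e * Nat.card {x // d x = e} := by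
  classical
  have hdne : ∀ x, d x ∣ m → d x ≠ 0 := fun x h h0 =>
    hm (by rw [h0] at h; exact zero_dvd_iff.1 h)
  have hfin : ∀ x, Finite (Φ x) := fun x => Finite.of_injective (Sigma.mk x) sigma_mk_injective
  have hempty : ∀ x, Φ x → d x ∣ m := by
    intro x φ
    by_contra hnd
    have h0 := hΦ x
    rw [if_neg hnd] at h0
    haveI := hfin x
    rcases Nat.card_eq_zero.1 h0 with h | h
    · exact h.false φ
    · exact not_finite (Φ x)
  let E := Equiv.sigmaSubtypeEquivOfSubset Φ (fun x => d x ∣ m) hempty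
  haveI : Finite (Σ x : {x // d x ∣ m}, Φ x.1) := Finite.of_equiv _ E.symm
  have hne : ∀ x : {x // d x ∣ m}, Nonempty (Φ x.1) := by
    intro x
    have h0 := hΦ x.1
    rw [if_pos x.2] at h0
    have : Nat.card (Φ x.1) ≠ 0 := by rw [h0]; exact hdne x.1 x.2
    exact (Nat.card_ne_zero.1 this).1
  haveI : Finite {x // d x ∣ m} :=
    Finite.of_surjective (fun s : Σ x : {x // d x ∣ m}, Φ x.1 => s.1)
      (fun x => ⟨⟨x, (hne x).some⟩, rfl⟩)
  haveI := Fintype.ofFinite {x // d x ∣ m}
  rw [← Nat.card_congr E, Nat.card_sigma]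
  have h1 : ∀ x : {x // d x ∣ m}, Nat.card (Φ x.1) = d x.1 := fun x => by rw [hΦ, if_pos x.2]
  simp_rw [h1]
  rw [← Finset.sum_fiberwise_of_maps_to' (s := Finset.univ) (t := m.divisors)
    (g := fun x : {x // d x ∣ m} => d x.1) (fun x _ => Nat.mem_divisors.2 ⟨x.2, hm⟩)
    (fun e => e)]
  refine Finset.sum_congr rfl fun e he => ?_
  rw [Finset.sum_const, smul_eq_mul, mul_comm]
  congr 1
  rw [← Fintype.card_subtype, ← Nat.card_eq_fintype_card]
  exact Nat.card_congr ⟨fun x => ⟨x.1.1, x.2⟩,
    fun x => ⟨⟨x.1, by rw [x.2]; exact (Nat.mem_divisors.1 he).1⟩, x.2⟩,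
    fun _ => rfl, fun _ => rfl⟩

end Sigma


section FieldTheory

variable {k₀ : Type u} [Field k₀] [Finite k₀] {κ : Type u} [Field κ] [Algebra k₀ κ]

/-- an extension of a finite field killed by `x ↦ x^(q^m) - x` is finite of degree dividing `m` -/
theorem finite_and_dvd_of_pow_eq (m : ℕ) (hm : m ≠ 0)
    (h : ∀ r : κ, r ^ (Nat.card k₀) ^ m = r) :
    Module.Finite k₀ κ ∧ Module.finrank k₀ κ ∣ m := by
  haveI := Fintype.ofFinite k₀
  have hq1 : 1 < Nat.card k₀ := by
    rw [Nat.card_eq_fintype_card]; exact Fintype.one_lt_card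
  have hq2 : 1 < (Nat.card k₀) ^ m := Nat.one_lt_pow hm hq1
  -- κ is finite
  haveI : Finite κ := by
    have hP : (Polynomial.X ^ ((Nat.card k₀) ^ m) - Polynomial.X : Polynomial κ) ≠ 0 :=
      FiniteField.X_pow_card_sub_X_ne_zero κ hq2
    have hfin := Polynomial.finite_setOfPred_isRoot hP
    refine Set.finite_univ_iff.1 (hfin.subset fun r _ => ?_)
    show Polynomial.IsRoot _ r
    rw [Polynomial.IsRoot.def, Polynomial.eval_sub, Polynomial.eval_pow, Polynomial.eval_X, h r,
      sub_self]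
  haveI : Module.Finite k₀ κ := Module.Finite.of_finite
  refine ⟨inferInstance, ?_⟩
  rw [← FiniteField.orderOf_frobeniusAlgHom k₀ κ]
  apply orderOf_dvd_of_pow_eq_one
  apply AlgHom.ext
  intro r
  rw [AlgHom.coe_pow, FiniteField.coe_frobeniusAlgHom, pow_iterate, AlgHom.one_apply,
    ← Nat.card_eq_fintype_card]
  exact h r

theorem pow_eq_of_finite_of_dvd (m : ℕ) [Module.Finite k₀ κ]
    (hd : Module.finrank k₀ κ ∣ m) (r : κ) : r ^ (Nat.card k₀) ^ m = r := by
  haveI := Fintype.ofFinite k₀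
  haveI : Finite κ := Module.finite_of_finite k₀
  haveI := Fintype.ofFinite κ
  obtain ⟨l, rfl⟩ := hd
  rw [pow_mul, Nat.card_eq_fintype_card, ← Module.card_eq_pow_finrank (K := k₀) (V := κ)]
  exact FiniteField.pow_card_pow l r

variable {k : Type u} [Field k] [IsAlgClosed k] [Algebra k₀ k]

/-- the number of `q^m`-Frobenius-fixed embeddings over `k₀` into an algebraically closed field -/
theorem card_fixed_embeddings (m : ℕ) (hm : m ≠ 0) :
    Nat.card {φ : κ →+* k // φ.comp (algebraMap k₀ κ) = algebraMap k₀ k ∧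
      ∀ r, (φ r) ^ (Nat.card k₀) ^ m = φ r} =
    if Module.finrank k₀ κ ∣ m then Module.finrank k₀ κ else 0 := by
  by_cases hA : ∀ r : κ, r ^ (Nat.card k₀) ^ m = r
  · obtain ⟨hfin, hdvd⟩ := finite_and_dvd_of_pow_eq m hm hA
    rw [if_pos hdvd]
    haveI := hfin
    have e : {φ : κ →+* k // φ.comp (algebraMap k₀ κ) = algebraMap k₀ k ∧
        ∀ r, (φ r) ^ (Nat.card k₀) ^ m = φ r} ≃ (κ →ₐ[k₀] k) :=
      { toFun := fun φ => { φ.1 with commutes' := fun c => RingHom.congr_fun φ.2.1 c }
        invFun := fun ψ => ⟨ψ.toRingHom, by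
          ext c; exact ψ.commutes c, fun r => by
          show (ψ r) ^ _ = ψ r
          rw [← map_pow, hA r]⟩
        left_inv := fun φ => by ext; rfl
        right_inv := fun ψ => by ext; rfl }
    rw [Nat.card_congr e]
    haveI : Finite κ := Module.finite_of_finite k₀
    haveI : Algebra.IsSeparable k₀ κ := inferInstance
    rw [← AlgHom.card k₀ κ k, Nat.card_eq_fintype_card]
  · have hempty : IsEmpty {φ : κ →+* k // φ.comp (algebraMap k₀ κ) = algebraMap k₀ k ∧
        ∀ r, (φ r) ^ (Nat.card k₀) ^ m = φ r} := by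
      refine ⟨fun φ => hA fun r => ?_⟩
      apply φ.1.injective
      rw [map_pow]
      exact φ.2.2 r
    rw [Nat.card_of_isEmpty, if_neg]
    intro hdvd
    have hpos : 0 < Module.finrank k₀ κ := by
      rcases Nat.eq_zero_or_pos (Module.finrank k₀ κ) with h0 | h0
      · rw [h0] at hdvd
        exact absurd (zero_dvd_iff.1 hdvd) hm
      · exact h0
    haveI : Module.Finite k₀ κ := Module.finite_of_finrank_pos hpos
    exact hA fun r => pow_eq_of_finite_of_dvd m hdvd r

end FieldTheory


section SchemeCount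

open Groth.Agent.Lib.Helper33.WeilFrob

variable {k₀ k : Type u} [Field k₀] [Finite k₀] [Field k] [IsAlgClosed k] [Algebra k₀ k]
  {X : Scheme.{u}} (f : X ⟶ Spec (CommRingCat.of k₀))

/-- the `k₀`-algebra structure of a residue field -/
noncomputable def resAlg (x : X) : CommRingCat.of k₀ ⟶ X.residueField x :=
  Spec.preimage (X.fromSpecResidueField x ≫ f)

theorem SpecMap_resAlg (x : X) : Spec.map (resAlg f x) = X.fromSpecResidueField x ≫ f :=
  Spec.map_preimage _

theorem residueDegree_eq_finrank (x : X) :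
    EGA4loc.residueDegree f x =
      @Module.finrank k₀ (X.residueField x) _ _ (resAlg f x).hom.toAlgebra.toModule := by
  set y := f x with hy
  haveI : y.asIdeal.IsMaximal := by
    have : y.asIdeal = ⊥ := Ideal.eq_bot_of_prime y.asIdeal
    rw [this]
    exact Ideal.bot_isMaximal
  set β : CommRingCat.of k₀ ⟶ (Spec (CommRingCat.of k₀)).residueField y :=
    CommRingCat.ofHom (algebraMap k₀ y.asIdeal.ResidueField) ≫
      (Scheme.Spec.residueFieldIso (CommRingCat.of k₀) y).inv with hβdef
  have hSβ : Spec.map β = (Spec (CommRingCat.of k₀)).fromSpecResidueField y := by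
    rw [hβdef, Spec.map_comp]
    exact Scheme.Spec.map_residueFieldIso_inv_eq_fromSpecResidueField _ _
  have hβ : β ≫ f.residueFieldMap x = resAlg f x := by
    apply Spec.map_injective
    rw [Spec.map_comp, SpecMap_resAlg, hSβ,
      Scheme.Hom.SpecMap_residueFieldMap_fromSpecResidueField]
  have hbij : Function.Bijective β.hom := by
    refine ⟨β.hom.injective, ?_⟩
    intro z
    obtain ⟨c, hc⟩ := Ideal.algebraMap_residueField_surjective y.asIdeal
      ((Scheme.Spec.residueFieldIso (CommRingCat.of k₀) y).hom.hom z)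
    refine ⟨c, ?_⟩
    show (Scheme.Spec.residueFieldIso (CommRingCat.of k₀) y).inv.hom
      (algebraMap k₀ y.asIdeal.ResidueField c) = z
    rw [hc]
    have := congrArg (fun g => g.hom z) (Scheme.Spec.residueFieldIso (CommRingCat.of k₀) y).hom_inv_id
    exact this
  unfold EGA4loc.residueDegree
  letI a1 : Algebra ((Spec (CommRingCat.of k₀)).residueField y) (X.residueField x) :=
    (f.residueFieldMap x).hom.toAlgebra
  letI a2 : Algebra k₀ (X.residueField x) := (resAlg f x).hom.toAlgebra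
  refine (Algebra.finrank_eq_of_equiv_equiv (RingEquiv.ofBijective β.hom hbij)
    (RingEquiv.refl _) ?_).symm
  ext c
  exact congrArg (fun g => g.hom c) hβ

omit [IsAlgClosed k] in
theorem exists_frobPow (m : ℕ) :
    ∃ fr : k →+* k, ∀ c, fr c = c ^ (Nat.card k₀) ^ m := by
  haveI := Fintype.ofFinite k₀
  set p := ringChar k₀ with hp
  haveI : CharP k₀ p := ringChar.charP k₀
  haveI : Fact p.Prime := ⟨CharP.char_is_prime k₀ p⟩
  obtain ⟨n, -, hn⟩ := FiniteField.card k₀ p
  have hq0 : Nat.card k₀ = p ^ (n : ℕ) := by rw [Nat.card_eq_fintype_card, hn]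
  have hq : (Nat.card k₀) ^ m = p ^ ((n : ℕ) * m) := by rw [hq0, pow_mul]
  haveI : CharP k p := charP_of_injective_algebraMap (algebraMap k₀ k).injective p
  haveI : ExpChar k p := ExpChar.prime Fact.out
  refine ⟨iterateFrobenius k p ((n : ℕ) * m), fun c => ?_⟩
  rw [hq]
  rfl

variable (m : ℕ) (FXm : X ⟶ X) (hle : ∀ U : X.Opens, U ≤ FXm ⁻¹ᵁ U)
  (hFapp : ∀ (U : X.Opens) (s : Γ(X, U)),
    (FXm.appLE U U (hle U)).hom s = s ^ (Nat.card k₀) ^ m)

include hFapp in
theorem card_fibre (hm : m ≠ 0) (x : X) :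
    Nat.card {φ : X.residueField x ⟶ CommRingCat.of k //
      (Spec.map φ ≫ X.fromSpecResidueField x) ≫ f =
        Spec.map (CommRingCat.ofHom (algebraMap k₀ k)) ∧
      (Spec.map φ ≫ X.fromSpecResidueField x) ≫ FXm = Spec.map φ ≫ X.fromSpecResidueField x} =
    if EGA4loc.residueDegree f x ∣ m then EGA4loc.residueDegree f x else 0 := by
  rw [residueDegree_eq_finrank]
  letI : Algebra k₀ (X.residueField x) := (resAlg f x).hom.toAlgebra
  rw [← card_fixed_embeddings (k₀ := k₀) (κ := X.residueField x) (k := k) m hm]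
  obtain ⟨fr, hfr⟩ := exists_frobPow (k₀ := k₀) (k := k) m
  refine Nat.card_congr (Equiv.subtypeEquiv
    ⟨fun φ => φ.hom, fun φ => CommRingCat.ofHom φ, fun _ => rfl, fun _ => rfl⟩ ?_)
  intro φ
  show _ ↔ (φ.hom.comp (algebraMap k₀ (X.residueField x)) = algebraMap k₀ k ∧
    ∀ r, (φ.hom r) ^ (Nat.card k₀) ^ m = φ.hom r)
  have h1 : (Spec.map φ ≫ X.fromSpecResidueField x) ≫ f =
      Spec.map (CommRingCat.ofHom (algebraMap k₀ k)) ↔
      φ.hom.comp (algebraMap k₀ (X.residueField x)) = algebraMap k₀ k := by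
    rw [Category.assoc, ← SpecMap_resAlg, ← Spec.map_comp, Spec.map_injective.eq_iff]
    constructor
    · intro h
      ext c
      exact congrArg (fun g => g.hom c) h
    · intro h
      ext c
      exact RingHom.congr_fun h c
  have h2 : (Spec.map φ ≫ X.fromSpecResidueField x) ≫ FXm =
      Spec.map φ ≫ X.fromSpecResidueField x ↔
      ∀ r, (φ.hom r) ^ (Nat.card k₀) ^ m = φ.hom r := by
    rw [← frob_natural FXm hle ((Nat.card k₀) ^ m) hFapp k (CommRingCat.ofHom fr) hfr
      (Spec.map φ ≫ X.fromSpecResidueField x), ← Category.assoc, ← Spec.map_comp,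
      cancel_mono, Spec.map_injective.eq_iff]
    constructor
    · intro h r
      have := congrArg (fun g => g.hom r) h
      simp only [CommRingCat.hom_comp, RingHom.comp_apply, CommRingCat.hom_ofHom] at this
      rw [hfr] at this
      exact this
    · intro h
      ext r
      show fr (φ.hom r) = φ.hom r
      rw [hfr]
      exact h r
  rw [h1, h2]

variable [LocallyOfFiniteType f]

/-- points of finite residue degree are closed -/
theorem isClosed_of_residueDegree_ne_zero (x : X) (h : EGA4loc.residueDegree f x ≠ 0) :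
    IsClosed ({x} : Set X) := by
  haveI : JacobsonSpace X := LocallyOfFiniteType.jacobsonSpace f
  rw [isClosed_singleton_iff_locallyOfFiniteType]
  rw [residueDegree_eq_finrank] at h
  letI a2 : Algebra k₀ (X.residueField x) := (resAlg f x).hom.toAlgebra
  haveI hfin : Module.Finite k₀ (X.residueField x) :=
    Module.finite_of_finrank_pos (Nat.pos_of_ne_zero h)
  have hF : (resAlg f x).hom.Finite := hfin
  haveI : LocallyOfFiniteType (Spec.map (resAlg f x)) :=
    (HasRingHomProperty.Spec_iff (P := @LocallyOfFiniteType)).2 (RingHom.FiniteType.of_finite hF)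
  haveI : LocallyOfFiniteType (X.fromSpecResidueField x ≫ f) := by
    rw [← SpecMap_resAlg]
    infer_instance
  exact locallyOfFiniteType_of_comp (X.fromSpecResidueField x) f

include hFapp in
/-- the number of Frobenius-fixed geometric points -/
theorem card_kpoints (hm : m ≠ 0)
    [Finite {a : Spec (CommRingCat.of k) ⟶ X //
      a ≫ f = Spec.map (CommRingCat.ofHom (algebraMap k₀ k)) ∧ a ≫ FXm = a}] :
    Nat.card {a : Spec (CommRingCat.of k) ⟶ X //
      a ≫ f = Spec.map (CommRingCat.ofHom (algebraMap k₀ k)) ∧ a ≫ FXm = a} =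
      Zeta.nPts f m := by
  set e := Scheme.SpecToEquivOfField k X with he
  let P : (Spec (CommRingCat.of k) ⟶ X) → Prop := fun a =>
    a ≫ f = Spec.map (CommRingCat.ofHom (algebraMap k₀ k)) ∧ a ≫ FXm = a
  let Φ : X → Type u := fun x => {φ : X.residueField x ⟶ CommRingCat.of k //
    P (Spec.map φ ≫ X.fromSpecResidueField x)}
  let E1 : {a // P a} ≃ {s : Σ x, X.residueField x ⟶ CommRingCat.of k // P (e.symm s)} :=
    e.subtypeEquivOfSubtype'
  let E2 : {s : Σ x, X.residueField x ⟶ CommRingCat.of k // P (e.symm s)} ≃ Σ x, Φ x :=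
    ⟨fun s => ⟨s.1.1, ⟨s.1.2, s.2⟩⟩, fun t => ⟨⟨t.1, t.2.1⟩, t.2.2⟩, fun _ => rfl, fun _ => rfl⟩
  haveI : Finite (Σ x, Φ x) := Finite.of_equiv _ (E1.trans E2)
  have hcard := card_sigma_of_fibres Φ (EGA4loc.residueDegree f) m hm
    (fun x => card_fibre f m FXm hle hFapp hm x)
  rw [Nat.card_congr (E1.trans E2), hcard]
  unfold Zeta.nPts Zeta.degCount
  refine Finset.sum_congr rfl fun d hd => ?_
  congr 1
  refine Nat.card_congr (Equiv.subtypeEquivRight fun x => ⟨fun h => ⟨?_, h⟩, fun h => h.2⟩)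
  refine isClosed_of_residueDegree_ne_zero f x ?_
  rw [h]
  exact (Nat.pos_of_mem_divisors hd).ne'

end SchemeCount

end Groth.Agent.Lib.Helper33.ZetaCount
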