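import Groth.Agent.Lib.Helper33.WeilFrobFix
import Groth.Agent.Lib.Helper33.ZetaCount

set_option autoImplicit false
set_option linter.style.haveILetI false
set_option linter.unusedSectionVars false
universe u v
open CategoryTheory AlgebraicGeometry

namespace Groth.Agent.Lib.Helper33.WeilZeta

open WeilCoh Groth.Agent.Lib.Helper33.WeilLib Groth.Agent.Lib.Helper33.WeilGraph
  Groth.Agent.Lib.Helper33.WeilPt Groth.Agent.Lib.Helper33.WeilGen
  Groth.Agent.Lib.Helper33.WeilDim Groth.Agent.Lib.Helper33.WeilFrob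
  Groth.Agent.Lib.Helper33.WeilFrobFix Groth.Agent.Lib.Helper33.ZetaCount
  Groth.Agent.Lib.Helper33.WeilFix Groth.Agent.Lib.Helper33.WeilLef

variable {k₀ k : Type u} [Field k₀] [Finite k₀] [Field k] [IsAlgClosed k] [Algebra k₀ k]
  {X : Scheme.{u}} (f : X ⟶ Spec (CommRingCat.of k₀))
  (m : ℕ) (FXm : X ⟶ X) (hle : ∀ U : X.Opens, U ≤ FXm ⁻¹ᵁ U)
  (hFapp : ∀ (U : X.Opens) (s : Γ(X, U)),
    (FXm.appLE U U (hle U)).hom s = s ^ (Nat.card k₀) ^ m)
  (Xb : WeilCoh.Var k) (π : Xb.obj.left ⟶ X)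
  (hπ : IsPullback π Xb.obj.hom f (Spec.map (CommRingCat.ofHom (algebraMap k₀ k))))
  (G : Xb ⟶ Xb) (hG : WeilCoh.sm G ≫ π = π ≫ FXm)
  (Pb : WeilCoh.Var k) (p q : Pb ⟶ Xb) (δ jG : Xb ⟶ Pb)
  (hδp : δ ≫ p = 𝟙 Xb) (hδq : δ ≫ q = 𝟙 Xb) (hjp : jG ≫ p = G) (hjq : jG ≫ q = 𝟙 Xb)
  (hP : WeilCoh.IsProd p q)

include hπ hFapp hG hδp hδq hjp hjq hP in
/-- fixed points of `Frob_q^m × id` are the Frobenius-fixed geometric points of `X` -/
theorem equiv_fix_kpoints (hm : m ≠ 0) :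
    Nonempty ({a : Spec (CommRingCat.of k) ⟶ X //
      a ≫ f = Spec.map (CommRingCat.ofHom (algebraMap k₀ k)) ∧ a ≫ FXm = a} ≃
      {w : Xb.obj.left // sm δ w = sm jG w}) := by
  haveI := lft Xb
  have hd : sm δ ≫ sm q = 𝟙 _ := by rw [← sm_comp, hδq, sm_id]
  have hj : sm jG ≫ sm q = 𝟙 _ := by rw [← sm_comp, hjq, sm_id]
  have hGp : sm jG ≫ sm p = sm G := by rw [← sm_comp, hjp]
  have hdp : sm δ ≫ sm p = 𝟙 _ := by rw [← sm_comp, hδp, sm_id]
  have hGs : sm G ≫ Xb.obj.hom = Xb.obj.hom := Over.w G.hom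
  set pt := IsLocalRing.closedPoint k with hpt
  -- the section attached to a geometric point
  have key : ∀ a : {a : Spec (CommRingCat.of k) ⟶ X //
      a ≫ f = Spec.map (CommRingCat.ofHom (algebraMap k₀ k)) ∧ a ≫ FXm = a},
      ∃ σ : Spec (CommRingCat.of k) ⟶ Xb.obj.left, σ ≫ π = a.1 ∧ σ ≫ Xb.obj.hom = 𝟙 _ ∧
        sm δ (σ pt) = sm jG (σ pt) := by
    intro a
    set σ := hπ.lift a.1 (𝟙 _) (by rw [a.2.1, Category.id_comp]) with hσ
    have h1 : σ ≫ π = a.1 := hπ.lift_fst _ _ _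
    have h2 : σ ≫ Xb.obj.hom = 𝟙 _ := hπ.lift_snd _ _ _
    have h3 : σ ≫ sm G = σ := by
      apply hπ.hom_ext
      · rw [Category.assoc, hG, ← Category.assoc, h1, a.2.2]
      · rw [Category.assoc, hGs]
    have h4 : σ ≫ sm δ = σ ≫ sm jG := by
      apply hP.hom_ext
      · rw [Category.assoc, Category.assoc, hdp, hGp, h3, Category.comp_id]
      · rw [Category.assoc, Category.assoc, hd, hj]
    refine ⟨σ, h1, h2, ?_⟩
    exact congrArg (fun g : Spec (CommRingCat.of k) ⟶ Pb.obj.left => g pt) h4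
  choose σ hσ1 hσ2 hσ3 using key
  refine ⟨Equiv.ofBijective
    (fun a => (⟨σ a pt, hσ3 a⟩ : {w : Xb.obj.left // sm δ w = sm jG w})) ⟨?_, ?_⟩⟩
  · intro a a' haa'
    have h0 : σ a pt = σ a' pt := congrArg Subtype.val haa'
    have h1 : σ a = σ a' := ext_of_apply_closedPoint_eq Xb.obj.hom (hσ2 a) (hσ2 a') h0
    apply Subtype.ext
    rw [← hσ1 a, ← hσ1 a', h1]
  · rintro ⟨w, hw⟩
    have hcl := isClosed_of_mem_fix f m FXm hle hFapp Xb π hπ G hG Pb p q δ jG hδp hδq hjp hjq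
      hm w hw
    have hfix := fromSpecResidueField_fixed f m FXm hle hFapp Xb π hπ G hG Pb p q δ jG hδp hδq
      hjp hjq w hw
    set σw := pointOfClosedPoint Xb.obj.hom w hcl with hσw
    have hs : σw ≫ Xb.obj.hom = 𝟙 _ := pointOfClosedPoint_comp _ _ _
    have hσG : σw ≫ sm G = σw := by
      rw [hσw]
      unfold pointOfClosedPoint
      rw [Category.assoc, hfix]
    have ha1 : (σw ≫ π) ≫ f = Spec.map (CommRingCat.ofHom (algebraMap k₀ k)) := by
      rw [Category.assoc, hπ.w, ← Category.assoc, hs, Category.id_comp]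
    have ha2 : (σw ≫ π) ≫ FXm = σw ≫ π := by
      rw [Category.assoc, ← hG, ← Category.assoc, hσG]
    refine ⟨⟨σw ≫ π, ha1, ha2⟩, ?_⟩
    apply Subtype.ext
    show σ ⟨σw ≫ π, ha1, ha2⟩ pt = w
    have heq : σ ⟨σw ≫ π, ha1, ha2⟩ = σw := by
      apply hπ.hom_ext
      · exact hσ1 _
      · rw [hσ2, hs]
    rw [heq]
    exact pointOfClosedPoint_apply _ _ _ _

variable {K : Type v} [Field K] [CharZero K] (T : WeilCoh.Theory k K) [LocallyOfFiniteType f]

include hπ hFapp hG hδp hδq hjp hjq hP in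
/-- the Lefschetz number of `Frob_q^m × id` is the number `N_m` of points -/
theorem trace_eq_nPts (hm : m ≠ 0) :
    ∑ j ∈ Finset.range (2 * dim Xb.obj.left + 1),
        (-1 : K) ^ j * LinearMap.trace K _ (T.pullDeg G (j : ℤ)) = (Zeta.nPts f m : K) := by
  rw [trace_eq_card_fix f m FXm hle hFapp Xb π hπ G hG Pb p q δ jG hδp hδq hjp hjq T hP hm]
  congr 1
  have hfin := (fixed_point_formula T p q hP jG δ hjq hδq
    (isClosed_of_mem_fix f m FXm hle hFapp Xb π hπ G hG Pb p q δ jG hδp hδq hjp hjq hm)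
    (preimMult_fix f m FXm hle hFapp Xb π hπ G hG Pb p q δ jG hδp hδq hjp hjq hm)).1
  obtain ⟨e⟩ := equiv_fix_kpoints f m FXm hle hFapp Xb π hπ G hG Pb p q δ jG hδp hδq hjp hjq
    hP hm
  haveI : Finite {w : Xb.obj.left // sm δ w = sm jG w} := hfin.to_subtype
  haveI : Finite {a : Spec (CommRingCat.of k) ⟶ X //
      a ≫ f = Spec.map (CommRingCat.ofHom (algebraMap k₀ k)) ∧ a ≫ FXm = a} :=
    Finite.of_equiv _ e.symm
  rw [← Nat.card_congr e]
  exact card_kpoints f m FXm hle hFapp hm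

end Groth.Agent.Lib.Helper33.WeilZeta
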