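import Groth.Agent.Lib.Helper33.DetSeries

set_option autoImplicit false
set_option linter.style.haveILetI false
set_option linter.unusedSectionVars false

namespace Groth.Agent.Lib.Helper33.ZetaPS

open PowerSeries Groth.Agent.Lib.Helper33.DetSeries

/-- `exp` turns sums into products -/
theorem exp_subst_sum {ι : Type*} (s : Finset ι) (L : ι → PowerSeries ℚ)
    (h0 : ∀ i ∈ s, PowerSeries.constantCoeff (L i) = 0) :
    PowerSeries.subst (∑ i ∈ s, L i) (PowerSeries.exp ℚ) =
      ∏ i ∈ s, PowerSeries.subst (L i) (PowerSeries.exp ℚ) := by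
  have hs0 : PowerSeries.constantCoeff (∑ i ∈ s, L i) = 0 := by
    rw [map_sum]; exact Finset.sum_eq_zero h0
  obtain ⟨h1, h1c⟩ := derivative_exp_subst _ hs0
  have h2 := derivative_prod_of_log s (fun i => PowerSeries.subst (L i) (PowerSeries.exp ℚ))
    (fun i => PowerSeries.derivative ℚ (L i))
    (fun i hi => (derivative_exp_subst (L i) (h0 i hi)).1)
  apply eq_of_derivative_eq_mul (PowerSeries.derivative ℚ (∑ i ∈ s, L i))
  · exact h1
  · rw [map_sum]; exact h2
  · rw [h1c, map_prod]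
    symm
    exact Finset.prod_eq_one fun i hi => (derivative_exp_subst (L i) (h0 i hi)).2

theorem pow_log {K : Type*} [CommRing K] (y A : PowerSeries K)
    (h : PowerSeries.derivative K y = A * y) (n : ℕ) :
    PowerSeries.derivative K (y ^ n) = (n • A) * y ^ n := by
  have := derivative_prod_of_log (Finset.range n) (fun _ => y) (fun _ => A) (fun _ _ => h)
  rwa [Finset.prod_const, Finset.sum_const, Finset.card_range] at this

theorem derivative_rescale (a : ℚ) (y : PowerSeries ℚ) :
    PowerSeries.derivative ℚ (rescale a y) = C a * rescale a (PowerSeries.derivative ℚ y) := by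
  ext m
  rw [coeff_derivative, coeff_rescale, coeff_C_mul, coeff_rescale, coeff_derivative]
  ring

theorem exp_subst_rescale (a : ℚ) (L : PowerSeries ℚ) (hL : constantCoeff L = 0) :
    rescale a (PowerSeries.subst L (PowerSeries.exp ℚ)) =
      PowerSeries.subst (rescale a L) (PowerSeries.exp ℚ) := by
  have hL' : constantCoeff (rescale a L) = 0 := by
    rw [← coeff_zero_eq_constantCoeff_apply, coeff_rescale, coeff_zero_eq_constantCoeff_apply, hL,
      mul_zero]
  obtain ⟨h1, h1c⟩ := derivative_exp_subst L hL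
  obtain ⟨h2, h2c⟩ := derivative_exp_subst _ hL'
  apply eq_of_derivative_eq_mul (PowerSeries.derivative ℚ (rescale a L))
  · rw [derivative_rescale, h1, map_mul, derivative_rescale]
    ring
  · exact h2
  · rw [h2c, ← coeff_zero_eq_constantCoeff_apply, coeff_rescale, coeff_zero_eq_constantCoeff_apply,
      h1c, pow_zero, one_mul]

section Poly

/-- `∑ c^(m+1) t^m` -/
noncomputable def geomS (c : ℚ) : PowerSeries ℚ := mk fun m => c ^ (m + 1)

theorem geomS_mul (c : ℚ) : geomS c * (1 - C c * X) = C c := by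
  ext m
  rw [mul_sub, mul_one, map_sub, ← mul_assoc, coeff_C]
  rcases m with _ | m
  · rw [coeff_zero_mul_X, sub_zero, geomS, coeff_mk, if_pos rfl]
    simp
  · rw [coeff_succ_mul_X, mul_comm, coeff_C_mul, geomS, coeff_mk, coeff_mk,
      if_neg (Nat.succ_ne_zero m)]
    ring

theorem lin_log (c : ℚ) :
    PowerSeries.derivative ℚ (1 - C c * X) = -(geomS c) * (1 - C c * X) := by
  rw [neg_mul, geomS_mul, map_sub, Derivation.map_one_eq_zero, Derivation.leibniz, derivative_X,
    derivative_C, smul_zero, add_zero, smul_eq_mul, mul_one, zero_sub]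

theorem zeta_polycount (N : ℕ → ℕ) (q : ℚ) (d : ℕ) (a : ℕ → ℤ)
    (hN : ∀ m : ℕ, (N (m + 1) : ℚ) =
      ∑ i ∈ Finset.range (d + 1), (a i : ℚ) * (q ^ i) ^ (m + 1)) :
    PowerSeries.subst (mk fun m => (N m : ℚ) / m) (PowerSeries.exp ℚ) *
        ∏ i ∈ Finset.range (d + 1), (1 - C (q ^ i) * X) ^ (a i).toNat =
      ∏ i ∈ Finset.range (d + 1), (1 - C (q ^ i) * X) ^ (-a i).toNat := by
  set L : PowerSeries ℚ := mk fun m => (N m : ℚ) / m with hL
  have hL0 : constantCoeff L = 0 := by
    rw [← coeff_zero_eq_constantCoeff_apply, hL, coeff_mk]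
    simp
  obtain ⟨hZ', hZ0⟩ := derivative_exp_subst L hL0
  set Z := PowerSeries.subst L (PowerSeries.exp ℚ) with hZ
  have hf : ∀ e : ℕ → ℕ, PowerSeries.derivative ℚ
      (∏ i ∈ Finset.range (d + 1), (1 - C (q ^ i) * X) ^ (e i)) =
      (∑ i ∈ Finset.range (d + 1), (e i) • (-(geomS (q ^ i)))) *
        ∏ i ∈ Finset.range (d + 1), (1 - C (q ^ i) * X) ^ (e i) := fun e =>
    derivative_prod_of_log _ _ _ (fun i _ => pow_log _ _ (lin_log (q ^ i)) (e i))
  have hc : ∀ e : ℕ → ℕ, constantCoeff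
      (∏ i ∈ Finset.range (d + 1), (1 - C (q ^ i) * X) ^ (e i)) = 1 := by
    intro e
    rw [map_prod]
    refine Finset.prod_eq_one fun i _ => ?_
    simp
  have hkey : PowerSeries.derivative ℚ L +
      ∑ i ∈ Finset.range (d + 1), (a i).toNat • (-(geomS (q ^ i))) =
      ∑ i ∈ Finset.range (d + 1), (-a i).toNat • (-(geomS (q ^ i))) := by
    ext m
    rw [map_add, map_sum, map_sum, coeff_derivative, hL, coeff_mk]
    have hne : ((m : ℚ) + 1) ≠ 0 := Nat.cast_add_one_ne_zero m
    rw [Nat.cast_add, Nat.cast_one, div_mul_cancel₀ _ hne, hN m]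
    simp only [map_nsmul, map_neg]
    simp only [geomS, coeff_mk, nsmul_eq_mul]
    rw [← sub_eq_zero, ← Finset.sum_add_distrib, ← Finset.sum_sub_distrib]
    refine Finset.sum_eq_zero fun i _ => ?_
    have h3 : (a i : ℚ) = ((a i).toNat : ℚ) - ((-a i).toNat : ℚ) := by
      have := congrArg (Int.cast : ℤ → ℚ) (Int.toNat_sub_toNat_neg (a i))
      push_cast at this
      exact this.symm
    rw [h3]
    ring
  apply eq_of_derivative_eq_mul (∑ i ∈ Finset.range (d + 1), (-a i).toNat • (-(geomS (q ^ i))))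
  · rw [Derivation.leibniz, hf, hZ', ← hkey]
    simp only [smul_eq_mul]
    ring
  · exact hf _
  · rw [map_mul, hZ0, hc, hc, mul_one]

end Poly

section Euler

/-- `∑_{r ∣ m+1} r t^m` -/
noncomputable def divE (r : ℕ) : PowerSeries ℚ := mk fun m => if r ∣ m + 1 then (r : ℚ) else 0

theorem cyc_log (r : ℕ) (hr : 1 ≤ r) :
    PowerSeries.derivative ℚ (1 - X ^ r) = -(divE r) * (1 - X ^ r) := by
  ext m
  rw [coeff_derivative, neg_mul, map_neg, mul_sub, mul_one, map_sub, map_sub, coeff_one,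
    if_neg (Nat.succ_ne_zero m), coeff_X_pow, coeff_mul_X_pow', divE, coeff_mk, coeff_mk]
  by_cases h1 : r ≤ m
  · obtain ⟨t, rfl⟩ : ∃ t, m = r + t := ⟨m - r, by omega⟩
    have e1 : r + t - r + 1 = t + 1 := by omega
    have e2 : (r ∣ r + t + 1) ↔ (r ∣ t + 1) := by
      rw [add_assoc]; exact Nat.dvd_add_right (dvd_refl r)
    have e3 : ¬ (r + t + 1 = r) := by omega
    rw [if_pos h1, e1, if_neg e3]
    simp only [e2]
    ring
  · have e2 : (r ∣ m + 1) ↔ (m + 1 = r) := by
      constructor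
      · intro h
        have := Nat.le_of_dvd (Nat.succ_pos m) h
        omega
      · intro h; rw [h]
    rw [if_neg h1]
    simp only [e2]
    split_ifs with h
    · subst h; push_cast; ring
    · ring

/-- the logarithm of the Euler product with exponents `a` -/
noncomputable def eulerL (a : ℕ → ℕ) : PowerSeries ℚ :=
  mk fun m => ((∑ e ∈ m.divisors, e * a e : ℕ) : ℚ) / m

noncomputable def eulerG (a : ℕ → ℕ) (n : ℕ) : PowerSeries ℚ :=
  PowerSeries.subst (eulerL a) (PowerSeries.exp ℚ) * ∏ r ∈ Finset.Icc 1 n, (1 - X ^ r) ^ a r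

theorem eulerL_constantCoeff (a : ℕ → ℕ) : constantCoeff (eulerL a) = 0 := by
  rw [← coeff_zero_eq_constantCoeff_apply, eulerL, coeff_mk]
  simp

theorem eulerG_coeff (a : ℕ → ℕ) (n : ℕ) :
    coeff 0 (eulerG a n) = 1 ∧ ∀ p, p < n → coeff (p + 1) (eulerG a n) = 0 := by
  obtain ⟨hZ', hZ0⟩ := derivative_exp_subst (eulerL a) (eulerL_constantCoeff a)
  have hY' := derivative_prod_of_log (Finset.Icc 1 n) (fun r => ((1 : PowerSeries ℚ) - X ^ r) ^ a r)
    (fun r => (a r) • (-(divE r)))
    (fun r hr => pow_log _ _ (cyc_log r (Finset.mem_Icc.1 hr).1) (a r))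
  set B : PowerSeries ℚ := PowerSeries.derivative ℚ (eulerL a) +
    ∑ r ∈ Finset.Icc 1 n, (a r) • (-(divE r)) with hB
  have hG' : PowerSeries.derivative ℚ (eulerG a n) = B * eulerG a n := by
    unfold eulerG
    rw [Derivation.leibniz, hY', hZ', hB]
    simp only [smul_eq_mul]
    ring
  have hBz : ∀ m, m < n → coeff m B = 0 := by
    intro m hm
    have hfilter : (Finset.Icc 1 n).filter (fun r => r ∣ m + 1) = (m + 1).divisors := by
      ext r
      simp only [Finset.mem_filter, Finset.mem_Icc, Nat.mem_divisors]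
      constructor
      · rintro ⟨_, h⟩; exact ⟨h, Nat.succ_ne_zero m⟩
      · rintro ⟨h, _⟩
        have h1 := Nat.le_of_dvd (Nat.succ_pos m) h
        have h2 := Nat.pos_of_dvd_of_pos h (Nat.succ_pos m)
        exact ⟨⟨by omega, by omega⟩, h⟩
    rw [hB, map_add, map_sum, coeff_derivative, eulerL, coeff_mk]
    have hne : ((m : ℚ) + 1) ≠ 0 := Nat.cast_add_one_ne_zero m
    rw [Nat.cast_add, Nat.cast_one, div_mul_cancel₀ _ hne]
    simp only [map_nsmul, map_neg]
    simp only [divE, coeff_mk, nsmul_eq_mul]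
    have hterm : ∀ r : ℕ, (a r : ℚ) * -(if r ∣ m + 1 then (r : ℚ) else 0) =
        if r ∣ m + 1 then -((r : ℚ) * a r) else 0 := by
      intro r; split_ifs <;> ring
    simp only [hterm]
    rw [← Finset.sum_filter, hfilter, Finset.sum_neg_distrib, Nat.cast_sum]
    simp only [Nat.cast_mul]
    exact add_neg_cancel _
  constructor
  · rw [coeff_zero_eq_constantCoeff_apply]
    unfold eulerG
    rw [map_mul, hZ0, one_mul, map_prod]
    refine Finset.prod_eq_one fun r hr => ?_
    have hr1 : r ≠ 0 := by have := (Finset.mem_Icc.1 hr).1; omega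
    simp [hr1]
  · intro p hp
    have h1 := congrArg (coeff p) hG'
    rw [coeff_derivative, coeff_mul] at h1
    have hz : ∑ x ∈ Finset.HasAntidiagonal.antidiagonal p,
        coeff x.1 B * coeff x.2 (eulerG a n) = 0 := by
      refine Finset.sum_eq_zero fun x hx => ?_
      have hle : x.1 + x.2 = p := Finset.HasAntidiagonal.mem_antidiagonal.1 hx
      rw [hBz x.1 (by omega), zero_mul]
    rw [hz] at h1
    have hne : ((p : ℚ) + 1) ≠ 0 := Nat.cast_add_one_ne_zero p
    exact (mul_eq_zero.1 h1).resolve_right hne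

theorem eulerG_trunc (a : ℕ → ℕ) (n : ℕ) : trunc (n + 1) (eulerG a n) = 1 := by
  obtain ⟨h0, hp⟩ := eulerG_coeff a n
  ext m
  rw [coeff_trunc, Polynomial.coeff_one]
  rcases m with _ | m
  · rw [if_pos (Nat.succ_pos n), if_pos rfl, h0]
  · rw [if_neg (Nat.succ_ne_zero m)]
    split_ifs with h
    · exact hp m (by omega)
    · rfl

theorem eulerZ_int (a : ℕ → ℕ) (n : ℕ) :
    ∃ z : ℤ, coeff n (PowerSeries.subst (eulerL a) (PowerSeries.exp ℚ)) = (z : ℚ) := by
  obtain ⟨h0, hp⟩ := eulerG_coeff a n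
  set Yz : PowerSeries ℤ := ∏ r ∈ Finset.Icc 1 n, (1 - X ^ r) ^ a r with hYz
  have hunit : IsUnit Yz := by
    rw [isUnit_iff_constantCoeff, hYz, map_prod]
    have : ∀ r ∈ Finset.Icc 1 n, constantCoeff (((1 : PowerSeries ℤ) - X ^ r) ^ a r) = 1 := by
      intro r hr
      have hr1 : r ≠ 0 := by have := (Finset.mem_Icc.1 hr).1; omega
      simp [hr1]
    rw [Finset.prod_eq_one this]
    exact isUnit_one
  obtain ⟨u, hu⟩ := hunit
  set I : PowerSeries ℤ := ((u⁻¹ : (PowerSeries ℤ)ˣ) : PowerSeries ℤ) with hI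
  have hYI : Yz * I = 1 := by rw [← hu]; exact u.mul_inv
  have hmap : PowerSeries.map (Int.castRingHom ℚ) Yz =
      ∏ r ∈ Finset.Icc 1 n, ((1 : PowerSeries ℚ) - X ^ r) ^ a r := by
    rw [hYz, map_prod]
    refine Finset.prod_congr rfl fun r _ => ?_
    rw [map_pow, map_sub, map_one, map_pow, PowerSeries.map_X]
  have hZ : PowerSeries.subst (eulerL a) (PowerSeries.exp ℚ) =
      eulerG a n * PowerSeries.map (Int.castRingHom ℚ) I := by
    unfold eulerG
    rw [mul_assoc, ← hmap, ← map_mul, hYI, map_one, mul_one]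
  refine ⟨coeff n I, ?_⟩
  rw [hZ, coeff_mul, Finset.sum_eq_single (0, n)]
  · rw [h0, one_mul, coeff_map]
    rfl
  · rintro ⟨i, j⟩ hij hne
    have hij' : i + j = n := Finset.HasAntidiagonal.mem_antidiagonal.1 hij
    have hi : i ≠ 0 := by
      rintro rfl
      apply hne
      rw [zero_add] at hij'
      rw [hij']
    obtain ⟨i', rfl⟩ := Nat.exists_eq_succ_of_ne_zero hi
    rw [hp i' (by omega), zero_mul]
  · intro h
    exact absurd (Finset.HasAntidiagonal.mem_antidiagonal.2 (zero_add n)) h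

end Euler

end Groth.Agent.Lib.Helper33.ZetaPS
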