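import Groth.Agent.Lib.Helper33.ZetaPts
import Groth.Agent.Lib.Helper33.ZetaPS

set_option autoImplicit false
set_option linter.style.haveILetI false
set_option linter.unusedSectionVars false
universe u v
open CategoryTheory AlgebraicGeometry

namespace Groth.Agent.Lib.Helper33.ZetaAdd

open Groth.Agent.Lib.Helper33.ZetaCount Groth.Agent.Lib.Helper33.ZetaPts
  Groth.Agent.Lib.Helper33.ZetaPS

/-- the residue field map of a preimmersion is bijective -/
theorem residueFieldMap_bijective {X Y : Scheme.{u}} (g : Y ⟶ X) [IsPreimmersion g] (y : Y) :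
    Function.Bijective (g.residueFieldMap y).hom := by
  refine ⟨(g.residueFieldMap y).hom.injective, ?_⟩
  intro z
  obtain ⟨s, rfl⟩ := Y.residue_surjective y z
  obtain ⟨t, rfl⟩ := g.stalkMap_surjective y s
  refine ⟨X.residue (g y) t, ?_⟩
  exact congrArg (fun φ => φ.hom t) (Scheme.residue_residueFieldMap g y)

section

variable {k : Type u} [Field k] [Finite k] {X : Scheme.{u}} (f : X ⟶ Spec (CommRingCat.of k))

theorem residueDegree_comp {Y : Scheme.{u}} (g : Y ⟶ X) [IsPreimmersion g] (y : Y) :
    EGA4loc.residueDegree (g ≫ f) y = EGA4loc.residueDegree f (g y) := by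
  rw [residueDegree_eq_finrank, residueDegree_eq_finrank]
  letI a1 : Algebra k (Y.residueField y) := (resAlg (g ≫ f) y).hom.toAlgebra
  letI a2 : Algebra k (X.residueField (g y)) := (resAlg f (g y)).hom.toAlgebra
  have hcomp : resAlg f (g y) ≫ g.residueFieldMap y = resAlg (g ≫ f) y := by
    apply Spec.map_injective
    rw [Spec.map_comp, SpecMap_resAlg, SpecMap_resAlg, ← Category.assoc,
      Scheme.Hom.SpecMap_residueFieldMap_fromSpecResidueField, Category.assoc]
  refine (Algebra.finrank_eq_of_equiv_equiv (RingEquiv.refl k)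
    (RingEquiv.ofBijective (g.residueFieldMap y).hom (residueFieldMap_bijective g y)) ?_).symm
  ext c
  exact (congrArg (fun φ => φ.hom c) hcomp).symm

variable [LocallyOfFiniteType f] [QuasiCompact f]
  {ι : Type u} [Fintype ι] (Y : ι → Scheme.{u}) (g : ∀ i, Y i ⟶ X) [∀ i, IsImmersion (g i)]
  (hpart : ∀ x : X, IsClosed ({x} : Set X) → ∃! i, x ∈ Set.range (g i).base)

include hpart in
theorem degCount_eq_sum (e : ℕ) (he : e ≠ 0) :
    Zeta.degCount f e = ∑ i, Zeta.degCount (g i ≫ f) e := by
  unfold Zeta.degCount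
  have hfinX : Finite {x : X // IsClosed ({x} : Set X) ∧ EGA4loc.residueDegree f x = e} := by
    haveI := finite_deg f e he
    exact Finite.of_injective
      (fun x => (⟨x.1, x.2.2⟩ : {x : X // EGA4loc.residueDegree f x = e}))
      (fun a b h => Subtype.ext
        (congrArg (fun z : {x : X // EGA4loc.residueDegree f x = e} => z.1) h))
  have hdeg : ∀ (i : ι) (y : Y i), EGA4loc.residueDegree (g i ≫ f) y = e →
      EGA4loc.residueDegree f (g i y) = e := fun i y h => (residueDegree_comp f (g i) y).symm.trans h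
  let F : (Σ i, {y : Y i // IsClosed ({y} : Set (Y i)) ∧
      EGA4loc.residueDegree (g i ≫ f) y = e}) →
      {x : X // IsClosed ({x} : Set X) ∧ EGA4loc.residueDegree f x = e} := fun t =>
    ⟨g t.1 t.2.1, isClosed_of_residueDegree_ne_zero f _ (by rw [hdeg _ _ t.2.2.2]; exact he),
      hdeg _ _ t.2.2.2⟩
  have hFbij : Function.Bijective F := by
    constructor
    · rintro ⟨i, y, hy⟩ ⟨j, y', hy'⟩ h
      have hx : g i y = g j y' := congrArg Subtype.val h
      have hcl : IsClosed ({g i y} : Set X) :=
        isClosed_of_residueDegree_ne_zero f _ (by rw [hdeg _ _ hy.2]; exact he)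
      obtain rfl : i = j := (hpart _ hcl).unique ⟨y, rfl⟩ ⟨y', hx.symm⟩
      have hyy : y = y' := (g i).isEmbedding.injective hx
      subst hyy
      rfl
    · rintro ⟨x, hx, hd⟩
      obtain ⟨i, ⟨y, hy⟩, -⟩ := hpart x hx
      have hy' : g i y = x := hy
      have hd' : EGA4loc.residueDegree (g i ≫ f) y = e := by
        rw [residueDegree_comp, hy']; exact hd
      refine ⟨⟨i, y, isClosed_of_residueDegree_ne_zero (g i ≫ f) y (by rw [hd']; exact he), hd'⟩,
        ?_⟩
      exact Subtype.ext hy'
  haveI : ∀ i, Finite {y : Y i // IsClosed ({y} : Set (Y i)) ∧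
      EGA4loc.residueDegree (g i ≫ f) y = e} := fun i =>
    Finite.of_injective (fun y => F ⟨i, y⟩) (fun y y' h => by
      have := hFbij.1 h
      exact eq_of_heq (Sigma.mk.inj this).2)
  rw [← Nat.card_congr (Equiv.ofBijective F hFbij), Nat.card_sigma]

include hpart in
theorem nPts_eq_sum (m : ℕ) : Zeta.nPts f m = ∑ i, Zeta.nPts (g i ≫ f) m := by
  unfold Zeta.nPts
  rw [Finset.sum_comm]
  refine Finset.sum_congr rfl fun e he => ?_
  rw [degCount_eq_sum f Y g hpart e (Nat.pos_of_mem_divisors he).ne', Finset.mul_sum]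

theorem logZeta_constantCoeff {Z : Scheme.{u}} (h : Z ⟶ Spec (CommRingCat.of k)) :
    PowerSeries.constantCoeff (Zeta.logZeta h) = 0 := by
  rw [← PowerSeries.coeff_zero_eq_constantCoeff_apply, Zeta.logZeta, PowerSeries.coeff_mk]
  simp

include hpart in
/-- the zeta function is multiplicative for partitions into subschemes -/
theorem zetaFun_eq_prod : Zeta.zetaFun f = ∏ i, Zeta.zetaFun (g i ≫ f) := by
  have hlog : Zeta.logZeta f = ∑ i, Zeta.logZeta (g i ≫ f) := by
    ext m
    rw [map_sum]
    simp only [Zeta.logZeta, PowerSeries.coeff_mk]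
    rw [nPts_eq_sum f Y g hpart m, Nat.cast_sum, Finset.sum_div]
  unfold Zeta.zetaFun
  rw [hlog]
  exact exp_subst_sum Finset.univ _ (fun i _ => logZeta_constantCoeff (g i ≫ f))

end

end Groth.Agent.Lib.Helper33.ZetaAdd
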