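import Groth.Agent.Lib.Helper33.ZetaBound
import Mathlib.RingTheory.FiniteStability
import Mathlib.RingTheory.Flat.TorsionFree
import Mathlib.RingTheory.Jacobson.Ring
import Mathlib.RingTheory.DedekindDomain.Basic
import Mathlib.RingTheory.Ideal.MinimalPrime.Noetherian

set_option autoImplicit false
set_option linter.style.haveILetI false
set_option linter.unusedSectionVars false
universe u v w
open CategoryTheory AlgebraicGeometry

namespace Groth.Agent.Lib.Helper33.ZetaArith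

open Groth.Agent.Lib.Helper33.ZetaPts Groth.Agent.Lib.Helper33.ZetaBound

section Count

variable {R : Type v} [CommRing R] {D : Type w} [CommRing D] [Algebra R D]
  (F : Type u) [Field F] [Algebra R F]

/-- fibres of `Hom(D, F) → F^s` have at most `N` elements when `D` is generated, up to powers of
`G`, by `N` elements over the polynomial ring. -/
theorem card_fibre_le' {s N : ℕ} (y : Fin s → D) (a : Fin N → D) (G : R)
    (hG : algebraMap R F G ≠ 0)
    (ha : ∀ x : D, ∃ (t : ℕ) (c : Fin N → MvPolynomial (Fin s) R),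
      G ^ t • x = ∑ j, MvPolynomial.aeval y (c j) * a j)
    (v : Fin s → F) :
    Finite {φ : D →ₐ[R] F // ∀ i, φ (y i) = v i} ∧
      Nat.card {φ : D →ₐ[R] F // ∀ i, φ (y i) = v i} ≤ N := by
  classical
  set φ₀ : MvPolynomial (Fin s) R →ₐ[R] F := MvPolynomial.aeval v with hφ₀
  let W : Submodule F (D →ₗ[R] F) :=
    { carrier := {Φ | ∀ p x, Φ (MvPolynomial.aeval y p * x) = φ₀ p * Φ x}
      zero_mem' := by intro p x; simp
      add_mem' := by
        intro Φ Ψ hΦ hΨ p x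
        simp only [LinearMap.add_apply, hΦ p x, hΨ p x, mul_add]
      smul_mem' := by
        intro c Φ hΦ p x
        simp only [LinearMap.smul_apply, hΦ p x, smul_eq_mul]
        ring }
  let ev : W →ₗ[F] (Fin N → F) :=
    { toFun := fun Φ j => Φ.1 (a j)
      map_add' := by intro Φ Ψ; rfl
      map_smul' := by intro c Φ; rfl }
  have hev : Function.Injective ev := by
    refine (@LinearMap.ker_eq_bot F F W (Fin N → F) _ _ _ _ _ _ _ ev).1 ?_
    refine LinearMap.ker_eq_bot'.2 fun Φ hΦ => ?_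
    apply Subtype.ext
    apply LinearMap.ext
    intro x
    obtain ⟨t, c, hc⟩ := ha x
    have h1 : Φ.1 (G ^ t • x) = 0 := by
      rw [hc, map_sum]
      refine Finset.sum_eq_zero fun j _ => ?_
      rw [Φ.2 (c j) (a j)]
      have h0 : Φ.1 (a j) = 0 := congrFun hΦ j
      rw [h0, mul_zero]
    rw [map_smul, Algebra.smul_def, map_pow] at h1
    have h2 : (algebraMap R F G) ^ t ≠ 0 := pow_ne_zero _ hG
    simpa using (mul_eq_zero.1 h1).resolve_left h2
  haveI : Module.Finite F W := Module.Finite.of_injective ev hev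
  have hrank : Module.finrank F W ≤ N := by
    have := LinearMap.finrank_le_finrank_of_injective hev
    simpa using this
  have hcomp : ∀ φ : D →ₐ[R] F, (∀ i, φ (y i) = v i) → ∀ p, φ (MvPolynomial.aeval y p) = φ₀ p := by
    intro φ hφ p
    have : φ.comp (MvPolynomial.aeval y) = φ₀ := by
      apply MvPolynomial.algHom_ext
      intro i
      rw [hφ₀, MvPolynomial.aeval_X, AlgHom.comp_apply, MvPolynomial.aeval_X, hφ i]
    exact congrArg (fun ψ : MvPolynomial (Fin s) R →ₐ[R] F => ψ p) this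
  let ι : {φ : D →ₐ[R] F // ∀ i, φ (y i) = v i} → W := fun φ =>
    ⟨φ.1.toLinearMap, by
      intro p x
      show φ.1 (MvPolynomial.aeval y p * x) = φ₀ p * φ.1 x
      rw [map_mul, hcomp φ.1 φ.2 p]⟩
  have hli : LinearIndependent F ι := by
    apply LinearIndependent.of_comp W.subtype
    exact (linearIndependent_algHom_toLinearMap R D F).comp Subtype.val Subtype.val_injective
  haveI : Finite {φ : D →ₐ[R] F // ∀ i, φ (y i) = v i} := hli.finite
  refine ⟨inferInstance, ?_⟩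
  haveI := Fintype.ofFinite {φ : D →ₐ[R] F // ∀ i, φ (y i) = v i}
  rw [Nat.card_eq_fintype_card]
  exact hli.fintype_card_le_finrank.trans hrank

theorem card_algHom_le' [Finite F] {s N : ℕ} (y : Fin s → D) (a : Fin N → D) (G : R)
    (hG : algebraMap R F G ≠ 0)
    (ha : ∀ x : D, ∃ (t : ℕ) (c : Fin N → MvPolynomial (Fin s) R),
      G ^ t • x = ∑ j, MvPolynomial.aeval y (c j) * a j) :
    Finite (D →ₐ[R] F) ∧ Nat.card (D →ₐ[R] F) ≤ N * Nat.card F ^ s := by
  classical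
  let ρ : (D →ₐ[R] F) → (Fin s → F) := fun φ i => φ (y i)
  have hfib : ∀ v : Fin s → F, Finite {φ : D →ₐ[R] F // ρ φ = v} ∧
      Nat.card {φ : D →ₐ[R] F // ρ φ = v} ≤ N := by
    intro v
    obtain ⟨h1, h2⟩ := card_fibre_le' F y a G hG ha v
    have e : {φ : D →ₐ[R] F // ρ φ = v} ≃ {φ : D →ₐ[R] F // ∀ i, φ (y i) = v i} :=
      Equiv.subtypeEquivRight fun φ => funext_iff
    exact ⟨Finite.of_equiv _ e.symm, (Nat.card_congr e).trans_le h2⟩
  haveI : ∀ v, Finite {φ : D →ₐ[R] F // ρ φ = v} := fun v => (hfib v).1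
  haveI := Fintype.ofFinite F
  haveI : Finite (Σ v : Fin s → F, {φ : D →ₐ[R] F // ρ φ = v}) := inferInstance
  refine ⟨Finite.of_equiv _ (Equiv.sigmaFiberEquiv ρ), ?_⟩
  rw [Nat.card_congr (Equiv.sigmaFiberEquiv ρ).symm, Nat.card_sigma]
  calc ∑ v : Fin s → F, Nat.card {φ : D →ₐ[R] F // ρ φ = v}
      ≤ ∑ _v : Fin s → F, N := Finset.sum_le_sum fun v _ => (hfib v).2
    _ = N * Nat.card F ^ s := by
      rw [Finset.sum_const, Finset.card_univ, Fintype.card_fun, Fintype.card_fin, smul_eq_mul,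
        mul_comm, Nat.card_eq_fintype_card]

end Count

section RatTensor

instance int_isJacobsonRing : IsJacobsonRing ℤ := by
  rw [isJacobsonRing_iff_prime_eq]
  intro P hP
  by_cases h : P = ⊥
  · subst h
    refine le_antisymm ?_ Ideal.le_jacobson
    intro x hx
    rw [Ideal.mem_jacobson_bot] at hx
    have h1 := hx x
    rw [Int.isUnit_iff] at h1
    have hx0 : x = 0 := by
      rcases h1 with h1 | h1
      · have : x * x = 0 := by linarith
        exact mul_self_eq_zero.1 this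
      · nlinarith [mul_self_nonneg x]
    rw [hx0]
    exact Ideal.zero_mem _
  · haveI := hP.isMaximal h
    exact Ideal.jacobson_eq_self_of_isMaximal

open TensorProduct

variable (D : Type u) [CommRing D]

/-- the canonical map `D → ℚ ⊗ D` -/
noncomputable abbrev iota : D →ₐ[ℤ] ℚ ⊗[ℤ] D := Algebra.TensorProduct.includeRight

theorem intCast_eq_tmul (n : ℤ) : ((n : ℤ) : ℚ ⊗[ℤ] D) = ((n : ℤ) : ℚ) ⊗ₜ[ℤ] (1 : D) := by
  rw [← map_intCast (algebraMap ℚ (ℚ ⊗[ℤ] D)), Algebra.TensorProduct.algebraMap_apply]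
  simp

theorem intCast_isUnit (n : ℤ) (hn : n ≠ 0) : IsUnit ((n : ℤ) : ℚ ⊗[ℤ] D) := by
  have : ((n : ℤ) : ℚ ⊗[ℤ] D) = algebraMap ℚ (ℚ ⊗[ℤ] D) (n : ℚ) := (map_intCast _ n).symm
  rw [this]
  exact (IsUnit.mk0 (n : ℚ) (by exact_mod_cast hn)).map _

theorem exists_denominator (z : ℚ ⊗[ℤ] D) :
    ∃ (n : ℤ) (x : D), n ≠ 0 ∧ ((n : ℤ) : ℚ ⊗[ℤ] D) * z = iota D x := by
  induction z using TensorProduct.induction_on with
  | zero => exact ⟨1, 0, one_ne_zero, by simp⟩
  | tmul q d =>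
    refine ⟨q.den, q.num • d, by exact_mod_cast q.den_ne_zero, ?_⟩
    have h1 : ((q.den : ℤ) : ℚ) * q = (q.num : ℚ) := by
      have := Rat.mul_den_eq_num q
      push_cast
      rw [mul_comm]
      exact this
    rw [intCast_eq_tmul, Algebra.TensorProduct.tmul_mul_tmul, one_mul, h1]
    show (q.num : ℚ) ⊗ₜ[ℤ] d = (1 : ℚ) ⊗ₜ[ℤ] (q.num • d)
    rw [← TensorProduct.smul_tmul]
    congr 1
    simp
  | add z₁ z₂ h₁ h₂ =>
    obtain ⟨n₁, x₁, hn₁, e₁⟩ := h₁
    obtain ⟨n₂, x₂, hn₂, e₂⟩ := h₂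
    refine ⟨n₁ * n₂, n₂ • x₁ + n₁ • x₂, mul_ne_zero hn₁ hn₂, ?_⟩
    rw [map_add, map_zsmul, map_zsmul, ← e₁, ← e₂]
    push_cast
    simp only [zsmul_eq_mul]
    ring

theorem iota_injective [IsDomain D] [CharZero D] : Function.Injective (iota D) := by
  haveI : IsAddTorsionFree D :=
    ⟨fun n hn x y h => by
      have h' : (n : D) * x = (n : D) * y := by simpa [nsmul_eq_mul] using h
      exact mul_left_cancel₀ (Nat.cast_ne_zero.2 hn) h'⟩
  exact Algebra.TensorProduct.includeRight_injective (R := ℤ) (A := ℚ) (B := D)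
    (RingHom.injective_int (algebraMap ℤ ℚ))

theorem intCast_notMem_comap (P : PrimeSpectrum (ℚ ⊗[ℤ] D)) (n : ℤ) (hn : n ≠ 0) :
    (n : D) ∉ (PrimeSpectrum.comap (iota D).toRingHom P).asIdeal := by
  intro h
  have h1 : iota D (n : D) ∈ P.asIdeal := h
  rw [map_intCast] at h1
  exact P.2.ne_top (Ideal.eq_top_of_isUnit_mem _ h1 (intCast_isUnit D n hn))

/-- `comap` along `D → ℚ ⊗ D` is strictly monotone on prime spectra -/
theorem comap_strictMono :
    StrictMono (PrimeSpectrum.comap (iota D).toRingHom) := by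
  intro P Q hPQ
  have hle : P.asIdeal ≤ Q.asIdeal := hPQ.le
  refine lt_of_le_of_ne (fun x hx => hle hx) ?_
  intro heq
  apply hPQ.ne
  apply le_antisymm hPQ.le
  intro z hz
  obtain ⟨n, x, hn, hx⟩ := exists_denominator D z
  have h1 : iota D x ∈ Q.asIdeal := by
    rw [← hx]
    exact Q.asIdeal.mul_mem_left _ hz
  have h2 : x ∈ (PrimeSpectrum.comap (iota D).toRingHom Q).asIdeal := h1
  rw [← heq] at h2
  have h3 : iota D x ∈ P.asIdeal := h2
  rw [← hx] at h3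
  rcases P.2.mem_or_mem h3 with h4 | h4
  · exact absurd (Ideal.eq_top_of_isUnit_mem _ h4 (intCast_isUnit D n hn)) P.2.ne_top
  · exact h4

theorem succ_le_of_finite_inj [IsDomain D] [CharZero D] [Algebra.FiniteType ℤ D] (r s : ℕ)
    (hr : ringKrullDim D ≤ r)
    (g : MvPolynomial (Fin s) ℚ →ₐ[ℚ] ℚ ⊗[ℤ] D) (hinj : Function.Injective g)
    (hfin : g.Finite) : s + 1 ≤ r := by
  letI : Algebra (MvPolynomial (Fin s) ℚ) (ℚ ⊗[ℤ] D) := g.toRingHom.toAlgebra
  haveI : Module.Finite (MvPolynomial (Fin s) ℚ) (ℚ ⊗[ℤ] D) := hfin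
  haveI : Algebra.IsIntegral (MvPolynomial (Fin s) ℚ) (ℚ ⊗[ℤ] D) := inferInstance
  have h1 : ringKrullDim (MvPolynomial (Fin s) ℚ) ≤ ringKrullDim (ℚ ⊗[ℤ] D) :=
    ringKrullDim_le_of_isIntegral_injective hinj
  rw [MvPolynomial.ringKrullDim_of_isNoetherianRing, ringKrullDim_eq_zero_of_field,
    zero_add] at h1
  simp only [Nat.card_eq_fintype_card, Fintype.card_fin] at h1
  obtain ⟨l, hl⟩ := Order.le_krullDim_iff.1 h1
  let l' : LTSeries (PrimeSpectrum D) :=
    l.map (PrimeSpectrum.comap (iota D).toRingHom) (comap_strictMono D)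
  set 𝔮 : PrimeSpectrum D := PrimeSpectrum.comap (iota D).toRingHom (RelSeries.last l) with h𝔮
  have hnotmax : ¬ 𝔮.asIdeal.IsMaximal := by
    intro hmax
    letI : Field (D ⧸ 𝔮.asIdeal) := Ideal.Quotient.field _
    haveI : Algebra.FiniteType ℤ (D ⧸ 𝔮.asIdeal) :=
      Algebra.FiniteType.of_surjective (Ideal.Quotient.mkₐ ℤ 𝔮.asIdeal)
        (Ideal.Quotient.mkₐ_surjective ℤ _)
    haveI : Module.Finite ℤ (D ⧸ 𝔮.asIdeal) := finite_of_finite_type_of_isJacobsonRing ℤ _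
    haveI : Algebra.IsIntegral ℤ (D ⧸ 𝔮.asIdeal) := inferInstance
    have hinj' : Function.Injective (algebraMap ℤ (D ⧸ 𝔮.asIdeal)) := by
      rw [injective_iff_map_eq_zero]
      intro n hn
      by_contra hne
      apply intCast_notMem_comap D (RelSeries.last l) n hne
      have h0 : (Ideal.Quotient.mk 𝔮.asIdeal) (n : D) = 0 := by
        rw [map_intCast]
        simpa using hn
      exact Ideal.Quotient.eq_zero_iff_mem.1 h0
    exact Int.not_isField (isField_of_isIntegral_of_isField hinj' (Field.toIsField _))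
  obtain ⟨M, hM, hle⟩ := Ideal.exists_le_maximal 𝔮.asIdeal 𝔮.2.ne_top
  have hlt : 𝔮 < (⟨M, hM.isPrime⟩ : PrimeSpectrum D) := by
    refine lt_of_le_of_ne hle ?_
    intro h
    apply hnotmax
    rw [h]
    exact hM
  let L : LTSeries (PrimeSpectrum D) := RelSeries.snoc l' ⟨M, hM.isPrime⟩ hlt
  have hL : L.length = s + 1 := by
    simp only [L, l', RelSeries.snoc_length, LTSeries.map_length, hl]
  have h2 : (L.length : WithBot ℕ∞) ≤ ringKrullDim D := Order.LTSeries.length_le_krullDim L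
  rw [hL] at h2
  exact_mod_cast h2.trans hr

end RatTensor

section Gen

open TensorProduct

variable (D : Type u) [CommRing D]

theorem exists_gen_aux {s : ℕ} (g : MvPolynomial (Fin s) ℚ →ₐ[ℚ] ℚ ⊗[ℤ] D) (y : Fin s → D)
    (n : Fin s → ℤ) (hy : ∀ i, ((n i : ℤ) : ℚ ⊗[ℤ] D) * g (MvPolynomial.X i) = iota D (y i))
    (hn : ∀ i, n i ≠ 0) (P : MvPolynomial (Fin s) ℚ) :
    ∃ (M : ℤ) (c : MvPolynomial (Fin s) ℤ), M ≠ 0 ∧
      ((M : ℤ) : ℚ ⊗[ℤ] D) * g P = iota D (MvPolynomial.aeval y c) := by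
  induction P using MvPolynomial.induction_on with
  | C q =>
    refine ⟨q.den, MvPolynomial.C q.num, by exact_mod_cast q.den_ne_zero, ?_⟩
    have h1 : ((q.den : ℤ) : ℚ) * q = (q.num : ℚ) := by
      have := Rat.mul_den_eq_num q
      push_cast
      rw [mul_comm]
      exact this
    have h2 : g (MvPolynomial.C q) = algebraMap ℚ (ℚ ⊗[ℤ] D) q := by
      rw [← MvPolynomial.algebraMap_eq, g.commutes]
    rw [h2, ← map_intCast (algebraMap ℚ (ℚ ⊗[ℤ] D)) (q.den : ℤ), ← map_mul, h1, map_intCast,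
      MvPolynomial.aeval_C, eq_intCast, map_intCast]
  | add P Q hP hQ =>
    obtain ⟨M₁, c₁, hM₁, e₁⟩ := hP
    obtain ⟨M₂, c₂, hM₂, e₂⟩ := hQ
    refine ⟨M₁ * M₂, MvPolynomial.C M₂ * c₁ + MvPolynomial.C M₁ * c₂, mul_ne_zero hM₁ hM₂, ?_⟩
    simp only [map_add, map_mul, eq_intCast, map_intCast, Int.cast_mul]
    linear_combination ((M₂ : ℤ) : ℚ ⊗[ℤ] D) * e₁ + ((M₁ : ℤ) : ℚ ⊗[ℤ] D) * e₂
  | mul_X P i hP =>
    obtain ⟨M, c, hM, e⟩ := hP
    refine ⟨M * n i, c * MvPolynomial.X i, mul_ne_zero hM (hn i), ?_⟩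
    simp only [map_mul, MvPolynomial.aeval_X, Int.cast_mul]
    linear_combination (iota D (y i)) * e + (((M : ℤ) : ℚ ⊗[ℤ] D) * g P) * hy i

theorem exists_gen [IsDomain D] [CharZero D] [Algebra.FiniteType ℤ D] {s : ℕ}
    (g : MvPolynomial (Fin s) ℚ →ₐ[ℚ] ℚ ⊗[ℤ] D) (hfin : g.Finite) :
    ∃ (N : ℕ) (y : Fin s → D) (a : Fin N → D) (G : ℤ), G ≠ 0 ∧
      ∀ x : D, ∃ (t : ℕ) (c : Fin N → MvPolynomial (Fin s) ℤ),
        G ^ t • x = ∑ j, MvPolynomial.aeval y (c j) * a j := by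
  classical
  -- step 1: the coordinates
  have hy : ∀ i : Fin s, ∃ (n : ℤ) (yi : D), n ≠ 0 ∧
      ((n : ℤ) : ℚ ⊗[ℤ] D) * g (MvPolynomial.X i) = iota D yi :=
    fun i => exists_denominator D _
  choose n y hn hy using hy
  have hsub := exists_gen_aux D g y n hy hn
  -- step 2: module generators
  obtain ⟨N, b, hb⟩ : ∃ (N : ℕ) (b : Fin N → ℚ ⊗[ℤ] D), ∀ z : ℚ ⊗[ℤ] D,
      ∃ P : Fin N → MvPolynomial (Fin s) ℚ, z = ∑ j, g (P j) * b j := by
    letI : Algebra (MvPolynomial (Fin s) ℚ) (ℚ ⊗[ℤ] D) := g.toRingHom.toAlgebra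
    haveI : Module.Finite (MvPolynomial (Fin s) ℚ) (ℚ ⊗[ℤ] D) := hfin
    obtain ⟨N, b, hb⟩ := Module.Finite.exists_fin (R := MvPolynomial (Fin s) ℚ)
      (M := ℚ ⊗[ℤ] D)
    refine ⟨N, b, fun z => ?_⟩
    have hz : z ∈ Submodule.span (MvPolynomial (Fin s) ℚ) (Set.range b) := by
      rw [hb]; trivial
    obtain ⟨P, hP⟩ := (Submodule.mem_span_range_iff_exists_fun _).1 hz
    exact ⟨P, hP.symm.trans rfl⟩
  have ha : ∀ j : Fin N, ∃ (m : ℤ) (aj : D), m ≠ 0 ∧
      ((m : ℤ) : ℚ ⊗[ℤ] D) * b j = iota D aj := fun j => exists_denominator D _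
  choose m a hm ha using ha
  refine ⟨N, y, a, ?_⟩
  -- step 3: every element of `ℚ ⊗ D` is in the span up to a denominator
  let Q : ℚ ⊗[ℤ] D → Prop := fun z => ∃ (M : ℤ) (c : Fin N → MvPolynomial (Fin s) ℤ), M ≠ 0 ∧
    ((M : ℤ) : ℚ ⊗[ℤ] D) * z = iota D (∑ j, MvPolynomial.aeval y (c j) * a j)
  have hQ0 : Q 0 := ⟨1, fun _ => 0, one_ne_zero, by simp⟩
  have hQadd : ∀ z₁ z₂, Q z₁ → Q z₂ → Q (z₁ + z₂) := by
    rintro z₁ z₂ ⟨M₁, c₁, hM₁, e₁⟩ ⟨M₂, c₂, hM₂, e₂⟩
    refine ⟨M₁ * M₂, fun j => MvPolynomial.C M₂ * c₁ j + MvPolynomial.C M₁ * c₂ j,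
      mul_ne_zero hM₁ hM₂, ?_⟩
    have h1 : ∑ j, MvPolynomial.aeval y (MvPolynomial.C M₂ * c₁ j + MvPolynomial.C M₁ * c₂ j) *
        a j = (M₂ : D) * ∑ j, MvPolynomial.aeval y (c₁ j) * a j +
          (M₁ : D) * ∑ j, MvPolynomial.aeval y (c₂ j) * a j := by
      simp only [map_add, map_mul, eq_intCast, map_intCast, Finset.mul_sum,
        ← Finset.sum_add_distrib]
      refine Finset.sum_congr rfl fun j _ => ?_
      ring
    rw [h1, map_add, map_mul, map_mul, map_intCast, map_intCast, ← e₁, ← e₂, Int.cast_mul]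
    ring
  have hQterm : ∀ (P : MvPolynomial (Fin s) ℚ) (j : Fin N), Q (g P * b j) := by
    intro P j
    obtain ⟨M, c, hM, e⟩ := hsub P
    refine ⟨M * m j, Pi.single j c, mul_ne_zero hM (hm j), ?_⟩
    have h1 : ∑ l, MvPolynomial.aeval y ((Pi.single j c : Fin N → MvPolynomial (Fin s) ℤ) l) *
        a l = MvPolynomial.aeval y c * a j := by
      rw [Finset.sum_eq_single j]
      · rw [Pi.single_eq_same]
      · intro l _ hl
        rw [Pi.single_eq_of_ne hl, map_zero, zero_mul]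
      · intro h
        exact absurd (Finset.mem_univ j) h
    rw [h1, map_mul, Int.cast_mul]
    linear_combination (iota D (a j)) * e + (((M : ℤ) : ℚ ⊗[ℤ] D) * g P) * ha j
  have hQall : ∀ z, Q z := by
    intro z
    obtain ⟨P, rfl⟩ := hb z
    exact Finset.sum_induction _ Q hQadd hQ0 fun j _ => hQterm (P j) j
  -- step 4: descend to `D`
  letI : Algebra (MvPolynomial (Fin s) ℤ) D :=
    (MvPolynomial.aeval y : MvPolynomial (Fin s) ℤ →ₐ[ℤ] D).toRingHom.toAlgebra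
  set M₀ : Submodule (MvPolynomial (Fin s) ℤ) D :=
    Submodule.span (MvPolynomial (Fin s) ℤ) (Set.range a) with hM₀
  have hsmul : ∀ (p : MvPolynomial (Fin s) ℤ) (u : D), p • u = MvPolynomial.aeval y p * u :=
    fun _ _ => rfl
  have hmem_iff : ∀ u : D, u ∈ M₀ ↔
      ∃ c : Fin N → MvPolynomial (Fin s) ℤ, ∑ j, MvPolynomial.aeval y (c j) * a j = u := by
    intro u
    rw [hM₀, Submodule.mem_span_range_iff_exists_fun]
    rfl
  have hint : ∀ (k : ℤ) (u : D), u ∈ M₀ → (k : D) * u ∈ M₀ := by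
    intro k u hu
    have : (k : D) * u = (MvPolynomial.C k : MvPolynomial (Fin s) ℤ) • u := by
      rw [hsmul, MvPolynomial.aeval_C, eq_intCast]
    rw [this]
    exact M₀.smul_mem _ hu
  have hD : ∀ x : D, ∃ M : ℤ, M ≠ 0 ∧ (M : D) * x ∈ M₀ := by
    intro x
    obtain ⟨M, c, hM, e⟩ := hQall (iota D x)
    refine ⟨M, hM, (hmem_iff _).2 ⟨c, ?_⟩⟩
    apply iota_injective D
    rw [← e, map_mul, map_intCast]
  choose Mx hMx0 hMx using hD
  obtain ⟨E, hE⟩ := (Algebra.FiniteType.out : (⊤ : Subalgebra ℤ D).FG)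
  set LL : Finset D := insert 1 (E ∪ Finset.image (fun jl : Fin N × Fin N => a jl.1 * a jl.2)
    Finset.univ) with hLL
  set G : ℤ := ∏ x ∈ LL, Mx x with hG
  have hG0 : G ≠ 0 := Finset.prod_ne_zero_iff.2 fun x _ => hMx0 x
  have hGL : ∀ x ∈ LL, (G : D) * x ∈ M₀ := by
    intro x hx
    obtain ⟨k, hk⟩ := Finset.dvd_prod_of_mem Mx hx
    have : (G : D) * x = (k : D) * ((Mx x : D) * x) := by
      rw [hG, hk, Int.cast_mul]
      ring
    rw [this]
    exact hint _ _ (hMx x)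
  have hGaa : ∀ j l, (G : D) * (a j * a l) ∈ M₀ := by
    intro j l
    apply hGL
    rw [hLL, Finset.mem_insert, Finset.mem_union, Finset.mem_image]
    exact Or.inr (Or.inr ⟨(j, l), Finset.mem_univ _, rfl⟩)
  have hGav : ∀ j, ∀ v ∈ M₀, (G : D) * (a j * v) ∈ M₀ := by
    intro j v hv
    induction hv using Submodule.span_induction with
    | mem v hv =>
      obtain ⟨l, rfl⟩ := hv
      exact hGaa j l
    | zero => simp
    | add v w _ _ ihv ihw =>
      rw [mul_add, mul_add]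
      exact M₀.add_mem ihv ihw
    | smul p v _ ih =>
      have : (G : D) * (a j * p • v) = p • ((G : D) * (a j * v)) := by
        rw [hsmul, hsmul]
        ring
      rw [this]
      exact M₀.smul_mem _ ih
  have hGuv : ∀ u ∈ M₀, ∀ v ∈ M₀, (G : D) * (u * v) ∈ M₀ := by
    intro u hu v hv
    induction hu using Submodule.span_induction with
    | mem u hu =>
      obtain ⟨j, rfl⟩ := hu
      exact hGav j v hv
    | zero => simp
    | add u w _ _ ihu ihw =>
      rw [add_mul, mul_add]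
      exact M₀.add_mem ihu ihw
    | smul p u _ ih =>
      have : (G : D) * (p • u * v) = p • ((G : D) * (u * v)) := by
        rw [hsmul, hsmul]
        ring
      rw [this]
      exact M₀.smul_mem _ ih
  have hpow : ∀ x : D, ∃ t : ℕ, (G : D) ^ t * x ∈ M₀ := by
    intro x
    have hx : x ∈ Algebra.adjoin ℤ (E : Set D) := by rw [hE]; trivial
    induction hx using Algebra.adjoin_induction with
    | mem x hx =>
      refine ⟨1, ?_⟩
      rw [pow_one]
      apply hGL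
      rw [hLL, Finset.mem_insert, Finset.mem_union]
      exact Or.inr (Or.inl hx)
    | algebraMap k =>
      refine ⟨1, ?_⟩
      have : (G : D) ^ 1 * algebraMap ℤ D k = (k : D) * ((G : D) * 1) := by
        rw [pow_one, eq_intCast]
        ring
      rw [this]
      exact hint _ _ (hGL 1 (by rw [hLL]; exact Finset.mem_insert_self _ _))
    | add x₁ x₂ _ _ ih₁ ih₂ =>
      obtain ⟨t₁, h₁⟩ := ih₁
      obtain ⟨t₂, h₂⟩ := ih₂
      refine ⟨t₁ + t₂, ?_⟩
      have : (G : D) ^ (t₁ + t₂) * (x₁ + x₂) =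
          ((G ^ t₂ : ℤ) : D) * ((G : D) ^ t₁ * x₁) + ((G ^ t₁ : ℤ) : D) * ((G : D) ^ t₂ * x₂) := by
        push_cast
        ring
      rw [this]
      exact M₀.add_mem (hint _ _ h₁) (hint _ _ h₂)
    | mul x₁ x₂ _ _ ih₁ ih₂ =>
      obtain ⟨t₁, h₁⟩ := ih₁
      obtain ⟨t₂, h₂⟩ := ih₂
      refine ⟨t₁ + t₂ + 1, ?_⟩
      have : (G : D) ^ (t₁ + t₂ + 1) * (x₁ * x₂) =
          (G : D) * (((G : D) ^ t₁ * x₁) * ((G : D) ^ t₂ * x₂)) := by
        ring
      rw [this]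
      exact hGuv _ h₁ _ h₂
  refine ⟨G, hG0, fun x => ?_⟩
  obtain ⟨t, ht⟩ := hpow x
  obtain ⟨c, hc⟩ := (hmem_iff _).1 ht
  refine ⟨t, c, ?_⟩
  rw [hc, zsmul_eq_mul, Int.cast_pow]

end Gen

section Ring

open TensorProduct

/-- finiteness of ring homs from a finite type `ℤ`-algebra to a finite ring -/
theorem finite_ringHom (A : Type u) [CommRing A] [Algebra.FiniteType ℤ A]
    (F : Type u) [CommRing F] [Finite F] : Finite (A →+* F) := by
  obtain ⟨n, φ, hφ⟩ := Algebra.FiniteType.iff_quotient_mvPolynomial''.1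
    (inferInstance : Algebra.FiniteType ℤ A)
  refine Finite.of_injective
    (fun g : A →+* F => fun i : Fin n => g (φ (MvPolynomial.X i))) ?_
  intro g g' h
  have h1 : g.comp φ.toRingHom = g'.comp φ.toRingHom := by
    apply MvPolynomial.ringHom_ext
    · intro k
      show g (φ (MvPolynomial.C k)) = g' (φ (MvPolynomial.C k))
      rw [← MvPolynomial.algebraMap_eq, φ.commutes, eq_intCast, map_intCast, map_intCast]
    · intro i
      exact congrFun h i
  refine RingHom.ext fun x => ?_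
  obtain ⟨q, rfl⟩ := hφ x
  exact RingHom.congr_fun h1 q

theorem bound_domain_char0 (D : Type u) [CommRing D] [IsDomain D] [CharZero D]
    [Algebra.FiniteType ℤ D] (r : ℕ) (hr : ringKrullDim D ≤ r) :
    ∃ (N : ℕ) (G : ℤ), G ≠ 0 ∧ ∀ (F : Type u) [Field F] [Finite F], ((G : ℤ) : F) ≠ 0 →
      Nat.card (D →+* F) * Nat.card F ≤ N * Nat.card F ^ r := by
  haveI : Nontrivial (ℚ ⊗[ℤ] D) := (iota_injective D).nontrivial
  obtain ⟨s, g, hginj, hgfin⟩ := exists_finite_inj_algHom_of_fg ℚ (ℚ ⊗[ℤ] D)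
  have hs : s + 1 ≤ r := succ_le_of_finite_inj D r s hr g hginj hgfin
  obtain ⟨N, y, a, G, hG0, hgen⟩ := exists_gen D g hgfin
  refine ⟨N, G, hG0, fun F _ _ hGF => ?_⟩
  obtain ⟨hfin, hcard⟩ := card_algHom_le' (R := ℤ) F y a G (by rwa [eq_intCast]) hgen
  have h1 : Nat.card (D →+* F) ≤ Nat.card (D →ₐ[ℤ] F) :=
    Nat.card_le_card_of_injective (fun φ => φ.toIntAlgHom) (fun φ ψ h => by
      ext x
      exact congrArg (fun χ : D →ₐ[ℤ] F => χ x) h)
  calc Nat.card (D →+* F) * Nat.card F ≤ (N * Nat.card F ^ s) * Nat.card F :=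
        Nat.mul_le_mul_right _ (h1.trans hcard)
    _ = N * Nat.card F ^ (s + 1) := by rw [pow_succ, mul_assoc]
    _ ≤ N * Nat.card F ^ r :=
        Nat.mul_le_mul_left _ (Nat.pow_le_pow_right Nat.card_pos hs)

variable (A : Type u) [CommRing A] [Algebra.FiniteType ℤ A]

theorem bound_ring_large (r : ℕ) (hr : ringKrullDim A ≤ r) :
    ∃ (c p₀ : ℕ), ∀ (F : Type u) [Field F] [Finite F], p₀ ≤ ringChar F →
      Nat.card (A →+* F) * Nat.card F ≤ c * Nat.card F ^ r := by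
  classical
  haveI : IsNoetherianRing A := Algebra.FiniteType.isNoetherianRing ℤ A
  have hfinmin : (minimalPrimes A).Finite := minimalPrimes.finite_of_isNoetherianRing A
  haveI : Fintype (minimalPrimes A) := hfinmin.fintype
  have hft : ∀ 𝔭 : minimalPrimes A,
      @Algebra.FiniteType ℤ (A ⧸ 𝔭.1) _ _ (Ring.toIntAlgebra _) := fun 𝔭 =>
    Algebra.FiniteType.of_surjective (Ideal.Quotient.mk 𝔭.1).toIntAlgHom
      Ideal.Quotient.mk_surjective
  have hcomp : ∀ 𝔭 : minimalPrimes A, ∃ (N B : ℕ), ∀ (F : Type u) [Field F] [Finite F],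
      B < ringChar F → Nat.card ((A ⧸ 𝔭.1) →+* F) * Nat.card F ≤ N * Nat.card F ^ r := by
    intro 𝔭
    haveI : 𝔭.1.IsPrime := Ideal.minimalPrimes_isPrime 𝔭.2
    haveI := hft 𝔭
    have hdim : ringKrullDim (A ⧸ 𝔭.1) ≤ r := (ringKrullDim_quotient_le 𝔭.1).trans hr
    obtain ⟨ℓ, hℓ⟩ := CharP.exists (A ⧸ 𝔭.1)
    rcases Nat.eq_zero_or_pos ℓ with h0 | hpos
    · subst h0
      haveI : CharZero (A ⧸ 𝔭.1) := CharP.charP_to_charZero _
      obtain ⟨N, G, hG0, hb⟩ := bound_domain_char0 (A ⧸ 𝔭.1) r hdim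
      refine ⟨N, G.natAbs, fun F _ _ hF => hb F ?_⟩
      intro hGF
      haveI : CharP F (ringChar F) := ringChar.charP F
      have hdvd : ((ringChar F : ℕ) : ℤ) ∣ G := (CharP.intCast_eq_zero_iff F (ringChar F) G).1 hGF
      have h2 : ringChar F ∣ G.natAbs := Int.natCast_dvd.1 hdvd
      have h3 : ringChar F ≤ G.natAbs := Nat.le_of_dvd (Int.natAbs_pos.2 hG0) h2
      omega
    · refine ⟨0, ℓ, fun F _ _ hF => ?_⟩
      haveI : IsEmpty ((A ⧸ 𝔭.1) →+* F) := ⟨fun φ => by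
        haveI : CharP F (ringChar F) := ringChar.charP F
        have h1 : ((ℓ : ℕ) : F) = 0 := by
          have h0 : ((ℓ : ℕ) : A ⧸ 𝔭.1) = 0 := CharP.cast_eq_zero _ ℓ
          rw [← map_natCast φ, h0, map_zero]
        have hdvd : ringChar F ∣ ℓ := (CharP.cast_eq_zero_iff F (ringChar F) ℓ).1 h1
        have := Nat.le_of_dvd hpos hdvd
        omega⟩
      simp
  choose N B hNB using hcomp
  refine ⟨∑ 𝔭, N 𝔭, (Finset.univ.sup B) + 1, fun F _ _ hF => ?_⟩
  haveI : ∀ 𝔭 : minimalPrimes A, Finite ((A ⧸ 𝔭.1) →+* F) := fun 𝔭 => by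
    haveI := hft 𝔭
    exact finite_ringHom (A ⧸ 𝔭.1) F
  have hsurj : Function.Surjective
      (fun t : Σ 𝔭 : minimalPrimes A, ((A ⧸ 𝔭.1) →+* F) =>
        t.2.comp (Ideal.Quotient.mk t.1.1)) := by
    intro φ
    haveI : (RingHom.ker φ).IsPrime := RingHom.ker_isPrime φ
    obtain ⟨𝔭, h𝔭, hle⟩ :=
      Ideal.exists_minimalPrimes_le (bot_le : (⊥ : Ideal A) ≤ RingHom.ker φ)
    refine ⟨⟨⟨𝔭, h𝔭⟩, Ideal.Quotient.lift 𝔭 φ (fun a ha => hle ha)⟩, ?_⟩
    ext a
    simp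
  calc Nat.card (A →+* F) * Nat.card F
      ≤ Nat.card (Σ 𝔭 : minimalPrimes A, ((A ⧸ 𝔭.1) →+* F)) * Nat.card F :=
        Nat.mul_le_mul_right _ (Nat.card_le_card_of_surjective _ hsurj)
    _ = ∑ 𝔭, Nat.card ((A ⧸ 𝔭.1) →+* F) * Nat.card F := by
        rw [Nat.card_sigma, Finset.sum_mul]
    _ ≤ ∑ 𝔭, N 𝔭 * Nat.card F ^ r := Finset.sum_le_sum fun 𝔭 _ => hNB 𝔭 F (by
        have : B 𝔭 ≤ Finset.univ.sup B := Finset.le_sup (Finset.mem_univ 𝔭)
        omega)
    _ = (∑ 𝔭, N 𝔭) * Nat.card F ^ r := by rw [Finset.sum_mul]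

theorem bound_ring_charp (r : ℕ) (hr : ringKrullDim A ≤ r) (p : ℕ) [Fact p.Prime] :
    ∃ N : ℕ, ∀ (F : Type u) [Field F] [Finite F] [CharP F p],
      Nat.card (A →+* F) ≤ N * Nat.card F ^ r := by
  have hsurj : Function.Surjective
      (Algebra.TensorProduct.includeRight : A →ₐ[ℤ] ZMod p ⊗[ℤ] A) := by
    intro z
    induction z using TensorProduct.induction_on with
    | zero => exact ⟨0, map_zero _⟩
    | tmul c a =>
      obtain ⟨k, rfl⟩ := ZMod.intCast_surjective c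
      refine ⟨k • a, ?_⟩
      show (1 : ZMod p) ⊗ₜ[ℤ] (k • a) = (k : ZMod p) ⊗ₜ[ℤ] a
      rw [← TensorProduct.smul_tmul]
      congr 1
      simp
    | add z₁ z₂ h₁ h₂ =>
      obtain ⟨x₁, rfl⟩ := h₁
      obtain ⟨x₂, rfl⟩ := h₂
      exact ⟨x₁ + x₂, map_add _ _ _⟩
  have hdim : ringKrullDim (ZMod p ⊗[ℤ] A) ≤ r :=
    (ringKrullDim_le_of_surjective
      (Algebra.TensorProduct.includeRight : A →ₐ[ℤ] ZMod p ⊗[ℤ] A).toRingHom hsurj).trans hr
  haveI : @Algebra.FiniteType ℤ (ZMod p ⊗[ℤ] A) _ _ (Ring.toIntAlgebra _) :=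
    Algebra.FiniteType.of_surjective
      (Algebra.TensorProduct.includeRight : A →ₐ[ℤ] ZMod p ⊗[ℤ] A).toRingHom.toIntAlgHom hsurj
  obtain ⟨N, hN⟩ := exists_bound_affine (k := ZMod p) (ZMod p ⊗[ℤ] A) r hdim
  refine ⟨N, fun F _ _ _ => ?_⟩
  letI : Algebra (ZMod p) F := ZMod.algebra F p
  refine le_trans ?_ (hN F)
  haveI : Finite ((ZMod p ⊗[ℤ] A) →+* F) := finite_ringHom _ F
  haveI : Finite ((ZMod p ⊗[ℤ] A) →ₐ[ZMod p] F) :=
    Finite.of_injective (fun φ => (φ : (ZMod p ⊗[ℤ] A) →+* F)) (fun φ ψ h =>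
      AlgHom.ext fun x => RingHom.congr_fun h x)
  refine Nat.card_le_card_of_injective (fun φ : A →+* F =>
    Algebra.TensorProduct.lift (Algebra.ofId (ZMod p) F) φ.toIntAlgHom
      (fun _ _ => Commute.all _ _)) ?_
  intro φ ψ h
  ext a
  have := congrArg (fun χ : (ZMod p ⊗[ℤ] A) →ₐ[ZMod p] F => χ ((1 : ZMod p) ⊗ₜ[ℤ] a)) h
  simpa using this

theorem bound_ring (r : ℕ) (hr : ringKrullDim A ≤ r) :
    ∃ (c p₀ : ℕ), ∀ (F : Type u) [Field F] [Finite F],
      Nat.card (A →+* F) ≤ c * Nat.card F ^ r ∧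
      (p₀ ≤ ringChar F → Nat.card (A →+* F) * Nat.card F ≤ c * Nat.card F ^ r) := by
  classical
  obtain ⟨c₁, p₀, h₁⟩ := bound_ring_large A r hr
  have hsmall : ∀ p : ℕ, ∃ N : ℕ, p.Prime → ∀ (F : Type u) [Field F] [Finite F] [CharP F p],
      Nat.card (A →+* F) ≤ N * Nat.card F ^ r := by
    intro p
    by_cases hp : p.Prime
    · haveI := Fact.mk hp
      obtain ⟨N, hN⟩ := bound_ring_charp A r hr p
      exact ⟨N, fun _ => hN⟩
    · exact ⟨0, fun h => absurd h hp⟩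
  choose Np hNp using hsmall
  refine ⟨c₁ + ∑ p ∈ Finset.range p₀, Np p, p₀, fun F _ _ => ?_⟩
  haveI : CharP F (ringChar F) := ringChar.charP F
  have hprime : (ringChar F).Prime := CharP.char_is_prime F (ringChar F)
  have hpos : 0 < Nat.card F := Nat.card_pos
  have hpow : 0 < Nat.card F ^ r := pow_pos hpos r
  refine ⟨?_, fun hF => (h₁ F hF).trans (Nat.mul_le_mul_right _ (Nat.le_add_right _ _))⟩
  by_cases hF : p₀ ≤ ringChar F
  · calc Nat.card (A →+* F) ≤ Nat.card (A →+* F) * Nat.card F := Nat.le_mul_of_pos_right _ hpos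
      _ ≤ c₁ * Nat.card F ^ r := h₁ F hF
      _ ≤ _ := Nat.mul_le_mul_right _ (Nat.le_add_right _ _)
  · have hlt : ringChar F < p₀ := not_le.1 hF
    calc Nat.card (A →+* F) ≤ Np (ringChar F) * Nat.card F ^ r := hNp (ringChar F) hprime F
      _ ≤ _ := Nat.mul_le_mul_right _ ((Finset.single_le_sum (f := Np)
          (fun _ _ => Nat.zero_le _) (Finset.mem_range.2 hlt)).trans (Nat.le_add_left _ _))

end Ring

end Groth.Agent.Lib.Helper33.ZetaArith
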