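import Groth.Agent.Lib.Helper33.EulerCycles
import Groth.Prelude.Def_W4c1zetahwZeta

set_option autoImplicit false
set_option linter.style.haveILetI false
set_option linter.unusedSectionVars false
universe u
open CategoryTheory AlgebraicGeometry

namespace Groth.Agent.Lib.Helper33.ZetaEuler

open Groth.Agent.Lib.Helper33.EulerCycles

/-- the set of closed points -/
def clSet (X : Scheme.{u}) : Set X := {x | IsClosed ({x} : Set X)}

/-- closed points -/
abbrev ClPt (X : Scheme.{u}) : Type u := ↥(clSet X)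

/-- the norm of a closed point -/
noncomputable def nu (X : Scheme.{u}) : ClPt X → ℕ := fun x => Nat.card (X.residueField x.1)

theorem cycleNormCount_eq (X : Scheme.{u}) (n : ℕ) :
    Zeta.cycleNormCount X n = Nat.card {α : ClPt X →₀ ℕ // cnorm (nu X) α = n} := by
  unfold Zeta.cycleNormCount
  refine Nat.card_congr ?_
  let E1 : {α : X →₀ ℕ // (∀ x ∈ α.support, IsClosed ({x} : Set X)) ∧
        α.prod (fun x m => Nat.card (X.residueField x) ^ m) = n} ≃
      {a : {α : X →₀ ℕ // ↑α.support ⊆ clSet X} //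
        a.1.prod (fun x m => Nat.card (X.residueField x) ^ m) = n} :=
    { toFun := fun α => ⟨⟨α.1, fun x hx => α.2.1 x (Finset.mem_coe.1 hx)⟩, α.2.2⟩
      invFun := fun a => ⟨a.1.1, ⟨fun x hx => a.1.2 (Finset.mem_coe.2 hx), a.2⟩⟩
      left_inv := fun _ => rfl
      right_inv := fun _ => rfl }
  refine E1.trans (Equiv.subtypeEquiv (Finsupp.restrictSupportEquiv (clSet X) ℕ) (fun a => ?_))
  rw [Finsupp.restrictSupportEquiv_apply]
  unfold cnorm nu
  rw [Finsupp.prod_subtypeDomain_index (h := fun x m => Nat.card (X.residueField x) ^ m)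
    (fun x hx => a.2 (Finset.mem_coe.2 hx))]

theorem lseries_of_summable (X : Scheme.{u}) (r : ℝ) (hr : 0 ≤ r)
    (hν : ∀ x : ClPt X, 2 ≤ nu X x)
    (hsum : ∀ σ : ℝ, r < σ → Summable (fun x : ClPt X => (nu X x : ℝ) ^ (-σ))) :
    LSeries.abscissaOfAbsConv (Zeta.arithCoeff X) ≤ (r : ℝ) ∧
      ∀ s : ℂ, r < s.re → LSeries (Zeta.arithCoeff X) s ≠ 0 := by
  have hcoef : Zeta.arithCoeff X =
      fun n => (Nat.card {α : ClPt X →₀ ℕ // cnorm (nu X) α = n} : ℂ) := by
    funext n
    unfold Zeta.arithCoeff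
    rw [cycleNormCount_eq]
  rw [hcoef]
  constructor
  · refine LSeries.abscissaOfAbsConv_le_of_forall_lt_LSeriesSummable fun y hy => ?_
    have hy' : 0 < (y : ℂ).re := by rw [Complex.ofReal_re]; exact lt_of_le_of_lt hr hy
    exact (main (nu X) hν (y : ℂ) hy' (by rw [Complex.ofReal_re]; exact hsum y hy)).1
  · intro s hs
    exact (main (nu X) hν s (lt_of_le_of_lt hr hs) (hsum s.re hs)).2

end Groth.Agent.Lib.Helper33.ZetaEuler
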