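import Groth.Agent.Lib.Helper33.ZetaArithSch
import Groth.Agent.Lib.Helper33.ZetaEuler
import Mathlib.GroupTheory.FiniteAbelian.Basic
import Mathlib.Analysis.PSeries
import Mathlib.FieldTheory.Finite.GaloisField
import Mathlib.AlgebraicGeometry.Morphisms.Finite

set_option autoImplicit false
set_option linter.style.haveILetI false
set_option linter.unusedSectionVars false
universe u
open CategoryTheory AlgebraicGeometry

namespace Groth.Agent.Lib.Helper33.ZetaArithDir

open Groth.Agent.Lib.Helper33.ZetaArith Groth.Agent.Lib.Helper33.ZetaArithSch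
  Groth.Agent.Lib.Helper33.ZetaEuler Groth.Agent.Lib.Helper33.EulerCycles

instance ulift_int_isJacobsonRing : IsJacobsonRing (ULift.{u} ℤ) :=
  (isJacobsonRing_iso (ULift.ringEquiv : ULift.{u} ℤ ≃+* ℤ)).2 inferInstance

section

variable {X : Scheme.{u}} (f : X ⟶ Spec (CommRingCat.of (ULift.{u} ℤ))) [LocallyOfFiniteType f]

include f in
/-- closed points of a scheme of finite type over `ℤ` have finite residue fields -/
theorem closed_finite (x : X) (hx : IsClosed ({x} : Set X)) : Finite (X.residueField x) := by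
  haveI : JacobsonSpace X := LocallyOfFiniteType.jacobsonSpace f
  haveI h1 : LocallyOfFiniteType (X.fromSpecResidueField x) :=
    isClosed_singleton_iff_locallyOfFiniteType.1 hx
  let β : CommRingCat.of (ULift.{u} ℤ) ⟶ X.residueField x :=
    Spec.preimage (X.fromSpecResidueField x ≫ f)
  have hβ : Spec.map β = X.fromSpecResidueField x ≫ f := Spec.map_preimage _
  haveI : LocallyOfFiniteType (Spec.map β) := by
    rw [hβ]
    infer_instance
  have h2 : β.hom.FiniteType :=
    (HasRingHomProperty.Spec_iff (P := @LocallyOfFiniteType)).1 inferInstance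
  have h3 : (β.hom.comp (ULift.ringEquiv.symm : ℤ ≃+* ULift.{u} ℤ).toRingHom).FiniteType :=
    h2.comp (RingHom.FiniteType.of_surjective _
      (ULift.ringEquiv.symm : ℤ ≃+* ULift.{u} ℤ).surjective)
  have h4 : β.hom.comp (ULift.ringEquiv.symm : ℤ ≃+* ULift.{u} ℤ).toRingHom =
      algebraMap ℤ (X.residueField x) := Subsingleton.elim _ _
  rw [h4] at h3
  haveI : Algebra.FiniteType ℤ (X.residueField x) := RingHom.finiteType_algebraMap.1 h3
  haveI : Module.Finite ℤ (X.residueField x) := finite_of_finite_type_of_isJacobsonRing ℤ _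
  obtain ⟨p, hp⟩ := CharP.exists (X.residueField x)
  have hp0 : p ≠ 0 := by
    rintro rfl
    haveI : CharZero (X.residueField x) := CharP.charP_to_charZero _
    haveI : Algebra.IsIntegral ℤ (X.residueField x) := inferInstance
    exact Int.not_isField (isField_of_isIntegral_of_isField
      (RingHom.injective_int (algebraMap ℤ (X.residueField x))) (Field.toIsField _))
  refine Module.finite_of_fg_torsion (X.residueField x) ?_
  intro a
  refine ⟨⟨(p : ℤ), mem_nonZeroDivisors_of_ne_zero (by exact_mod_cast hp0)⟩, ?_⟩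
  show ((p : ℤ)) • a = 0
  rw [zsmul_eq_mul, Int.cast_natCast, CharP.cast_eq_zero, zero_mul]

variable [QuasiCompact f]

include f in
theorem finite_hom (F : Type u) [Field F] [Finite F] :
    Finite (Spec (CommRingCat.of F) ⟶ X) := by
  haveI : CompactSpace X := QuasiCompact.compactSpace_of_compactSpace f
  obtain ⟨s, hs, hU⟩ := (isCompact_iff_finite_and_eq_biUnion_affineOpens (X := X) (U := ⊤)).1
    (by simpa using CompactSpace.isCompact_univ (X := X))
  haveI : Finite s := hs.to_subtype
  haveI : ∀ U : s, Finite (Γ(X, U.1.1) →+* F) := fun U => by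
    haveI := finiteType_int f U.1
    exact finite_ringHom Γ(X, U.1.1) F
  refine Finite.of_surjective (fun t : Σ U : s, (Γ(X, U.1.1) →+* F) =>
      Spec.map (CommRingCat.ofHom t.2) ≫ t.1.1.2.fromSpec) ?_
  intro g
  set pt := IsLocalRing.closedPoint F with hpt
  have hmem : g pt ∈ (⊤ : X.Opens) := trivial
  rw [hU] at hmem
  simp only [TopologicalSpace.Opens.mem_iSup] at hmem
  obtain ⟨U, hUs, hgU⟩ := hmem
  haveI : Subsingleton (Spec (CommRingCat.of F)) :=
    (inferInstance : Subsingleton (PrimeSpectrum F))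
  have hrange : Set.range g ⊆ Set.range U.2.fromSpec := by
    rw [U.2.range_fromSpec]
    rintro _ ⟨y, rfl⟩
    rw [Subsingleton.elim y pt]
    exact hgU
  set g' := IsOpenImmersion.lift U.2.fromSpec g hrange with hg'
  have hg'g : g' ≫ U.2.fromSpec = g := IsOpenImmersion.lift_fac _ _ _
  set ψ := Spec.preimage g' with hψ
  have hψg : Spec.map ψ = g' := Spec.map_preimage _
  refine ⟨⟨⟨U, hUs⟩, ψ.hom⟩, ?_⟩
  show Spec.map (CommRingCat.ofHom ψ.hom) ≫ U.2.fromSpec = g
  rw [CommRingCat.ofHom_hom, hψg, hg'g]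

include f in
theorem fibre_card_le (n : ℕ) (x₀ : ClPt X) (hx₀ : nu X x₀ = n) :
    Finite {x : ClPt X // nu X x = n} ∧
    Nat.card {x : ClPt X // nu X x = n} ≤
      Nat.card (Spec (CommRingCat.of (X.residueField x₀.1)) ⟶ X) := by
  subst hx₀
  haveI := closed_finite f x₀.1 x₀.2
  haveI := finite_hom f (X.residueField x₀.1)
  have key : ∀ x : {x : ClPt X // nu X x = nu X x₀},
      Nonempty (X.residueField x.1.1 ≃+* X.residueField x₀.1) := by
    intro x
    haveI := closed_finite f x.1.1 x.1.2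
    haveI := Fintype.ofFinite (X.residueField x.1.1)
    haveI := Fintype.ofFinite (X.residueField x₀.1)
    refine ⟨FiniteField.ringEquivOfCardEq ?_⟩
    have h : Nat.card (X.residueField x.1.1) = Nat.card (X.residueField x₀.1) := x.2
    exact (Nat.card_eq_fintype_card.symm.trans h).trans Nat.card_eq_fintype_card
  let Φ : {x : ClPt X // nu X x = nu X x₀} →
      (Spec (CommRingCat.of (X.residueField x₀.1)) ⟶ X) := fun x =>
    Spec.map (CommRingCat.ofHom (key x).some.toRingHom :
      X.residueField x.1.1 ⟶ CommRingCat.of (X.residueField x₀.1)) ≫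
        X.fromSpecResidueField x.1.1
  have hΦ : Function.Injective Φ := by
    intro x x' h
    apply Subtype.ext
    apply Subtype.ext
    have h1 := congrArg
      (fun g : Spec (CommRingCat.of (X.residueField x₀.1)) ⟶ X =>
        g (IsLocalRing.closedPoint (X.residueField x₀.1))) h
    simp only [Φ, Scheme.Hom.comp_apply] at h1
    exact (Scheme.fromSpecResidueField_apply _ _).symm.trans
      (h1.trans (Scheme.fromSpecResidueField_apply _ _))
  exact ⟨Finite.of_injective Φ hΦ, Nat.card_le_card_of_injective Φ hΦ⟩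

end

/-- auxiliary majorant: `n ↦ n^t` on the powers of a prime `p` -/
noncomputable def hp (t : ℝ) (p n : ℕ) : ℝ := by
  classical exact if p.Prime ∧ ∃ e : ℕ, n = p ^ e then (n : ℝ) ^ t else 0

theorem hp_nonneg (t : ℝ) (p n : ℕ) : 0 ≤ hp t p n := by
  unfold hp
  split_ifs
  · exact Real.rpow_nonneg (Nat.cast_nonneg _) _
  · exact le_rfl

theorem summable_hp (t : ℝ) (ht : t < 0) (p : ℕ) : Summable (hp t p) := by
  classical
  by_cases hpp : p.Prime
  · have hinj : Function.Injective (fun e : ℕ => p ^ e) := Nat.pow_right_injective hpp.two_le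
    refine (Function.Injective.summable_iff hinj ?_).1 ?_
    · intro n hn
      unfold hp
      rw [if_neg]
      rintro ⟨-, e, rfl⟩
      exact hn ⟨e, rfl⟩
    · have hfun : (hp t p ∘ fun e : ℕ => p ^ e) = fun e => ((p : ℝ) ^ t) ^ e := by
        funext e
        show hp t p (p ^ e) = _
        unfold hp
        rw [if_pos ⟨hpp, e, rfl⟩, Nat.cast_pow, ← Real.rpow_natCast,
          ← Real.rpow_mul (Nat.cast_nonneg p), mul_comm, Real.rpow_mul (Nat.cast_nonneg p),
          Real.rpow_natCast]
      rw [hfun]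
      exact summable_geometric_of_lt_one (Real.rpow_nonneg (Nat.cast_nonneg _) _)
        (Real.rpow_lt_one_of_one_lt_of_neg (by exact_mod_cast hpp.one_lt) ht)
  · have hfun : hp t p = fun _ => 0 := by
      funext n
      unfold hp
      rw [if_neg]
      exact fun h => hpp h.1
    rw [hfun]
    exact summable_zero

section

variable {X : Scheme.{u}} (f : X ⟶ Spec (CommRingCat.of (ULift.{u} ℤ))) [LocallyOfFiniteType f]
  [QuasiCompact f]

include f in
theorem summable_nu_arith (r : ℕ) (hr : topologicalKrullDim X ≤ r) (σ : ℝ)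
    (hσ : (r : ℝ) < σ) : Summable (fun x : ClPt X => (nu X x : ℝ) ^ (-σ)) := by
  classical
  obtain ⟨c, p₀, hc⟩ := exists_card_le f r hr
  set t : ℝ := (r : ℝ) - σ with ht
  have ht0 : t < 0 := by linarith
  set G : ℕ → ℝ := fun n =>
    (c : ℝ) * (n : ℝ) ^ (t - 1) + (c : ℝ) * ∑ p ∈ Finset.range p₀, hp t p n with hG
  have hGsum : Summable G := by
    refine Summable.add ((Real.summable_nat_rpow.2 (by linarith)).mul_left _)
      (Summable.mul_left _ ?_)
    exact summable_sum fun p _ => summable_hp t ht0 p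
  have hS0 : ∀ n, 0 ≤ ∑ p ∈ Finset.range p₀, hp t p n := fun n =>
    Finset.sum_nonneg fun p _ => hp_nonneg t p n
  have hG1 : ∀ n : ℕ, (c : ℝ) * (n : ℝ) ^ (t - 1) ≤ G n := fun n => by
    have h1 : 0 ≤ (c : ℝ) * ∑ p ∈ Finset.range p₀, hp t p n :=
      mul_nonneg (Nat.cast_nonneg c) (hS0 n)
    simp only [hG]
    linarith
  have hG2 : ∀ n : ℕ, (c : ℝ) * ∑ p ∈ Finset.range p₀, hp t p n ≤ G n := fun n => by
    have h1 : 0 ≤ (c : ℝ) * (n : ℝ) ^ (t - 1) :=
      mul_nonneg (Nat.cast_nonneg c) (Real.rpow_nonneg (Nat.cast_nonneg _) _)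
    simp only [hG]
    linarith
  have hGnonneg : ∀ n, 0 ≤ G n := fun n =>
    (mul_nonneg (Nat.cast_nonneg c) (Real.rpow_nonneg (Nat.cast_nonneg _) _)).trans (hG1 n)
  have hfun : ((fun x : ClPt X => (nu X x : ℝ) ^ (-σ)) ∘ (Equiv.sigmaFiberEquiv (nu X))) =
      fun z : Σ n, {x : ClPt X // nu X x = n} => (z.1 : ℝ) ^ (-σ) := funext fun z => by
    show ((nu X z.2.1 : ℕ) : ℝ) ^ (-σ) = _
    rw [z.2.2]
  refine (Equiv.sigmaFiberEquiv (nu X)).summable_iff.1 ?_
  rw [hfun, summable_sigma_of_nonneg (fun z => Real.rpow_nonneg (Nat.cast_nonneg _) _)]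
  have hcase : ∀ n, IsEmpty {x : ClPt X // nu X x = n} ∨ ∃ x₀ : ClPt X, nu X x₀ = n := by
    intro n
    by_cases h : Nonempty {x : ClPt X // nu X x = n}
    · obtain ⟨x₀⟩ := h
      exact Or.inr ⟨x₀.1, x₀.2⟩
    · exact Or.inl (not_nonempty_iff.1 h)
  constructor
  · intro n
    rcases hcase n with h | ⟨x₀, hx₀⟩
    · haveI := h
      exact summable_empty
    · haveI := (fibre_card_le f n x₀ hx₀).1
      exact Summable.of_finite
  · simp only [tsum_const, nsmul_eq_mul]
    refine Summable.of_nonneg_of_le (fun n => mul_nonneg (Nat.cast_nonneg _)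
      (Real.rpow_nonneg (Nat.cast_nonneg _) _)) (fun n => ?_) hGsum
    rcases hcase n with h | ⟨x₀, hx₀⟩
    · haveI := h
      simp only [Nat.card_of_isEmpty, Nat.cast_zero, zero_mul]
      exact hGnonneg n
    · obtain ⟨hfin, hle⟩ := fibre_card_le f n x₀ hx₀
      haveI := closed_finite f x₀.1 x₀.2
      obtain ⟨hb1, hb2⟩ := hc (X.residueField x₀.1)
      have hcardF : Nat.card (X.residueField x₀.1) = n := hx₀
      rw [hcardF] at hb1 hb2
      have hn1 : 1 ≤ n := by
        rw [← hcardF]
        exact Nat.card_pos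
      have hnR : (0 : ℝ) < n := by exact_mod_cast hn1
      set N := Nat.card {x : ClPt X // nu X x = n} with hN
      by_cases hp0 : p₀ ≤ ringChar (X.residueField x₀.1)
      · have h1 : N * n ≤ c * n ^ r := (Nat.mul_le_mul_right _ hle).trans (hb2 hp0)
        have h2 : (N : ℝ) * (n : ℝ) ≤ (c : ℝ) * (n : ℝ) ^ r := by exact_mod_cast h1
        have e1 : (n : ℝ) ^ (t - 1) = (n : ℝ) ^ r * (n : ℝ) ^ (-σ) * (n : ℝ)⁻¹ := by
          rw [ht, show (r : ℝ) - σ - 1 = (r : ℝ) + -σ + -1 by ring, Real.rpow_add hnR,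
            Real.rpow_add hnR, Real.rpow_natCast, Real.rpow_neg_one]
        have e2 : (N : ℝ) * (n : ℝ) ^ (-σ) =
            ((N : ℝ) * (n : ℝ)) * ((n : ℝ) ^ (-σ) * (n : ℝ)⁻¹) := by
          field_simp
        have h3 : (N : ℝ) * (n : ℝ) ^ (-σ) ≤ (c : ℝ) * (n : ℝ) ^ (t - 1) := by
          rw [e1, e2]
          calc ((N : ℝ) * (n : ℝ)) * ((n : ℝ) ^ (-σ) * (n : ℝ)⁻¹)
              ≤ ((c : ℝ) * (n : ℝ) ^ r) * ((n : ℝ) ^ (-σ) * (n : ℝ)⁻¹) :=
                mul_le_mul_of_nonneg_right h2 (mul_nonneg (Real.rpow_nonneg hnR.le _)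
                  (inv_nonneg.2 hnR.le))
            _ = (c : ℝ) * ((n : ℝ) ^ r * (n : ℝ) ^ (-σ) * (n : ℝ)⁻¹) := by ring
        exact h3.trans (hG1 n)
      · have hplt : ringChar (X.residueField x₀.1) < p₀ := not_le.1 hp0
        have h1 : N ≤ c * n ^ r := hle.trans hb1
        have h2 : (N : ℝ) ≤ (c : ℝ) * (n : ℝ) ^ r := by exact_mod_cast h1
        have hpow : hp t (ringChar (X.residueField x₀.1)) n = (n : ℝ) ^ t := by
          haveI := Fintype.ofFinite (X.residueField x₀.1)
          haveI : CharP (X.residueField x₀.1) (ringChar (X.residueField x₀.1)) :=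
            ringChar.charP _
          obtain ⟨e, hprime, hcard⟩ :=
            FiniteField.card (X.residueField x₀.1) (ringChar (X.residueField x₀.1))
          unfold hp
          rw [if_pos ⟨hprime, e, by rw [← hcardF, Nat.card_eq_fintype_card, hcard]⟩]
        have e1 : (n : ℝ) ^ t = (n : ℝ) ^ r * (n : ℝ) ^ (-σ) := by
          rw [ht, sub_eq_add_neg, Real.rpow_add hnR, Real.rpow_natCast]
        have h3 : (N : ℝ) * (n : ℝ) ^ (-σ) ≤ (c : ℝ) * (n : ℝ) ^ t := by
          rw [e1, ← mul_assoc]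
          exact mul_le_mul_of_nonneg_right h2 (Real.rpow_nonneg hnR.le _)
        have h4 : hp t (ringChar (X.residueField x₀.1)) n ≤
            ∑ p ∈ Finset.range p₀, hp t p n :=
          Finset.single_le_sum (f := fun p => hp t p n) (fun p _ => hp_nonneg t p n)
            (Finset.mem_range.2 hplt)
        refine h3.trans (le_trans ?_ (hG2 n))
        rw [← hpow]
        exact mul_le_mul_of_nonneg_left h4 (Nat.cast_nonneg c)

include f in
theorem dirichlet_arith (r : ℕ) (hr : topologicalKrullDim X ≤ r) :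
    LSeries.abscissaOfAbsConv (Zeta.arithCoeff X) ≤ (r : ℝ) ∧
      ∀ s : ℂ, (r : ℝ) < s.re → LSeries (Zeta.arithCoeff X) s ≠ 0 := by
  refine lseries_of_summable X (r : ℝ) (Nat.cast_nonneg r) (fun x => ?_)
    (fun σ hσ => summable_nu_arith f r hr σ hσ)
  haveI := closed_finite f x.1 x.2
  haveI := Fintype.ofFinite (X.residueField x.1)
  show 2 ≤ Nat.card (X.residueField x.1)
  rw [Nat.card_eq_fintype_card]
  exact Fintype.one_lt_card

end

end Groth.Agent.Lib.Helper33.ZetaArithDir
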