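import Groth.Agent.Lib.Helper33.ZetaArith

set_option autoImplicit false
set_option linter.style.haveILetI false
set_option linter.unusedSectionVars false
universe u
open CategoryTheory AlgebraicGeometry

namespace Groth.Agent.Lib.Helper33.ZetaArithSch

open Groth.Agent.Lib.Helper33.ZetaArith

theorem finiteType_int {X : Scheme.{u}} (f : X ⟶ Spec (CommRingCat.of (ULift.{u} ℤ)))
    [LocallyOfFiniteType f] (U : X.affineOpens) :
    @Algebra.FiniteType ℤ Γ(X, U.1) _ _ (Ring.toIntAlgebra _) := by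
  let α : CommRingCat.of (ULift.{u} ℤ) ⟶ Γ(X, U.1) := Spec.preimage (U.2.fromSpec ≫ f)
  have hα : Spec.map α = U.2.fromSpec ≫ f := Spec.map_preimage _
  haveI : LocallyOfFiniteType (Spec.map α) := by
    rw [hα]
    infer_instance
  have h1 : α.hom.FiniteType :=
    (HasRingHomProperty.Spec_iff (P := @LocallyOfFiniteType)).1 inferInstance
  have h2 : (α.hom.comp (ULift.ringEquiv.symm : ℤ ≃+* ULift.{u} ℤ).toRingHom).FiniteType :=
    h1.comp (RingHom.FiniteType.of_surjective _
      (ULift.ringEquiv.symm : ℤ ≃+* ULift.{u} ℤ).surjective)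
  have h3 : α.hom.comp (ULift.ringEquiv.symm : ℤ ≃+* ULift.{u} ℤ).toRingHom =
      @algebraMap ℤ Γ(X, U.1) _ _ (Ring.toIntAlgebra _) := Subsingleton.elim _ _
  rw [h3] at h2
  exact (@RingHom.finiteType_algebraMap ℤ Γ(X, U.1) _ _ (Ring.toIntAlgebra _)).1 h2

theorem exists_card_le {X : Scheme.{u}} (f : X ⟶ Spec (CommRingCat.of (ULift.{u} ℤ)))
    [LocallyOfFiniteType f] [QuasiCompact f] (r : ℕ) (hr : topologicalKrullDim X ≤ r) :
    ∃ (c p₀ : ℕ), ∀ (F : Type u) [Field F] [Finite F],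
      Nat.card (Spec (CommRingCat.of F) ⟶ X) ≤ c * Nat.card F ^ r ∧
      (p₀ ≤ ringChar F →
        Nat.card (Spec (CommRingCat.of F) ⟶ X) * Nat.card F ≤ c * Nat.card F ^ r) := by
  classical
  haveI : CompactSpace X := QuasiCompact.compactSpace_of_compactSpace f
  obtain ⟨s, hs, hU⟩ := (isCompact_iff_finite_and_eq_biUnion_affineOpens (X := X) (U := ⊤)).1
    (by simpa using CompactSpace.isCompact_univ (X := X))
  haveI : Finite s := hs.to_subtype
  haveI := Fintype.ofFinite s
  have hb : ∀ U : s, ∃ (c p₀ : ℕ), ∀ (F : Type u) [Field F] [Finite F],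
      Nat.card (Γ(X, U.1.1) →+* F) ≤ c * Nat.card F ^ r ∧
      (p₀ ≤ ringChar F → Nat.card (Γ(X, U.1.1) →+* F) * Nat.card F ≤ c * Nat.card F ^ r) := by
    intro U
    haveI := finiteType_int f U.1
    have hdim : ringKrullDim Γ(X, U.1.1) ≤ r := by
      rw [← PrimeSpectrum.topologicalKrullDim_eq_ringKrullDim Γ(X, U.1.1)]
      change topologicalKrullDim (Spec Γ(X, U.1.1)) ≤ r
      rw [← IsHomeomorph.topologicalKrullDim_eq _ U.1.2.isoSpec.hom.homeomorph.isHomeomorph]
      exact (topologicalKrullDim_subspace_le X U.1.1).trans hr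
    exact bound_ring Γ(X, U.1.1) r hdim
  choose c p hcp using hb
  refine ⟨∑ U : s, c U, Finset.univ.sup p, fun F _ _ => ?_⟩
  haveI : ∀ U : s, Finite (Γ(X, U.1.1) →+* F) := fun U => by
    haveI := finiteType_int f U.1
    exact finite_ringHom Γ(X, U.1.1) F
  have hsurj : Function.Surjective (fun t : Σ U : s, (Γ(X, U.1.1) →+* F) =>
      Spec.map (CommRingCat.ofHom t.2) ≫ t.1.1.2.fromSpec) := by
    intro g
    set pt := IsLocalRing.closedPoint F with hpt
    have hmem : g pt ∈ (⊤ : X.Opens) := trivial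
    rw [hU] at hmem
    simp only [TopologicalSpace.Opens.mem_iSup] at hmem
    obtain ⟨U, hUs, hgU⟩ := hmem
    haveI : Subsingleton (Spec (CommRingCat.of F)) :=
      (inferInstance : Subsingleton (PrimeSpectrum F))
    have hrange : Set.range g ⊆ Set.range U.2.fromSpec := by
      rw [U.2.range_fromSpec]
      rintro _ ⟨y, rfl⟩
      rw [Subsingleton.elim y pt]
      exact hgU
    set g' := IsOpenImmersion.lift U.2.fromSpec g hrange with hg'
    have hg'g : g' ≫ U.2.fromSpec = g := IsOpenImmersion.lift_fac _ _ _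
    set ψ := Spec.preimage g' with hψ
    have hψg : Spec.map ψ = g' := Spec.map_preimage _
    refine ⟨⟨⟨U, hUs⟩, ψ.hom⟩, ?_⟩
    show Spec.map (CommRingCat.ofHom ψ.hom) ≫ U.2.fromSpec = g
    rw [CommRingCat.ofHom_hom, hψg, hg'g]
  have hle : Nat.card (Spec (CommRingCat.of F) ⟶ X) ≤ ∑ U : s, Nat.card (Γ(X, U.1.1) →+* F) := by
    rw [← Nat.card_sigma]
    exact Nat.card_le_card_of_surjective _ hsurj
  constructor
  · calc Nat.card (Spec (CommRingCat.of F) ⟶ X) ≤ ∑ U : s, Nat.card (Γ(X, U.1.1) →+* F) := hle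
      _ ≤ ∑ U : s, c U * Nat.card F ^ r := Finset.sum_le_sum fun U _ => (hcp U F).1
      _ = (∑ U : s, c U) * Nat.card F ^ r := by rw [Finset.sum_mul]
  · intro hF
    calc Nat.card (Spec (CommRingCat.of F) ⟶ X) * Nat.card F
        ≤ (∑ U : s, Nat.card (Γ(X, U.1.1) →+* F)) * Nat.card F := Nat.mul_le_mul_right _ hle
      _ = ∑ U : s, Nat.card (Γ(X, U.1.1) →+* F) * Nat.card F := by rw [Finset.sum_mul]
      _ ≤ ∑ U : s, c U * Nat.card F ^ r := Finset.sum_le_sum fun U _ => (hcp U F).2 (by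
          have : p U ≤ Finset.univ.sup p := Finset.le_sup (Finset.mem_univ U)
          omega)
      _ = (∑ U : s, c U) * Nat.card F ^ r := by rw [Finset.sum_mul]

end Groth.Agent.Lib.Helper33.ZetaArithSch
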