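import Groth.Agent.Lib.Helper33.ZetaPts
import Mathlib.RingTheory.NoetherNormalization
import Mathlib.RingTheory.KrullDimension.Polynomial
import Mathlib.RingTheory.KrullDimension.Field
import Mathlib.RingTheory.Ideal.HasGoingUp
import Mathlib.LinearAlgebra.FreeModule.Finite.Matrix
import Mathlib.AlgebraicGeometry.Artinian
import Mathlib.Topology.KrullDimension

set_option autoImplicit false
set_option linter.style.haveILetI false
set_option linter.unusedSectionVars false
universe u v
open CategoryTheory AlgebraicGeometry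

namespace Groth.Agent.Lib.Helper33.ZetaBound

open Groth.Agent.Lib.Helper33.ZetaPts

section Dim

/-- an integral injective extension does not lower the Krull dimension -/
theorem ringKrullDim_le_of_isIntegral_injective {R S : Type*} [CommRing R] [CommRing S]
    [Algebra R S] [Algebra.IsIntegral R S] (hinj : Function.Injective (algebraMap R S)) :
    ringKrullDim R ≤ ringKrullDim S := by
  unfold ringKrullDim Order.krullDim
  refine iSup_le fun l => ?_
  obtain ⟨Q, -, hQp, hQc⟩ := Ideal.exists_ideal_over_prime_of_isIntegral (S := S) l.head.asIdeal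
    (⊥ : Ideal S) (by
      rw [← RingHom.ker_eq_comap_bot, (RingHom.injective_iff_ker_eq_bot _).1 hinj]
      exact bot_le)
  haveI : Q.IsPrime := hQp
  haveI : Q.LiesOver l.head.asIdeal := ⟨hQc.symm⟩
  obtain ⟨L, hL, -, -⟩ := Ideal.exists_ltSeries_of_hasGoingUp l Q
  rw [← hL]
  exact le_iSup (fun L : LTSeries (PrimeSpectrum S) => (L.length : WithBot ℕ∞)) L

end Dim

section Count

variable {k : Type v} [Field k] (k' : Type u) [Field k'] [Algebra k k'] [Finite k']

theorem card_fibre_le {A : Type u} [CommRing A] [Algebra k A] {s N : ℕ}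
    (g : MvPolynomial (Fin s) k →ₐ[k] A) (a : Fin N → A)
    (ha : ∀ x : A, ∃ c : Fin N → MvPolynomial (Fin s) k, x = ∑ j, g (c j) * a j)
    (φ₀ : MvPolynomial (Fin s) k →ₐ[k] k') :
    Finite {φ : A →ₐ[k] k' // φ.comp g = φ₀} ∧
      Nat.card {φ : A →ₐ[k] k' // φ.comp g = φ₀} ≤ N := by
  classical
  let W : Submodule k' (A →ₗ[k] k') :=
    { carrier := {F | ∀ p x, F (g p * x) = φ₀ p * F x}
      zero_mem' := by intro p x; simp
      add_mem' := by
        intro F G hF hG p x
        simp only [LinearMap.add_apply, hF p x, hG p x, mul_add]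
      smul_mem' := by
        intro c F hF p x
        simp only [LinearMap.smul_apply, hF p x, smul_eq_mul]
        ring }
  let ev : W →ₗ[k'] (Fin N → k') :=
    { toFun := fun F j => F.1 (a j)
      map_add' := by intro F G; rfl
      map_smul' := by intro c F; rfl }
  have hev : Function.Injective ev := by
    refine (@LinearMap.ker_eq_bot k' k' W (Fin N → k') _ _ _ _ _ _ _ ev).1 ?_
    refine LinearMap.ker_eq_bot'.2 fun F hF => ?_
    apply Subtype.ext
    apply LinearMap.ext
    intro x
    obtain ⟨c, rfl⟩ := ha x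
    rw [map_sum]
    simp only [ZeroMemClass.coe_zero, LinearMap.zero_apply]
    refine Finset.sum_eq_zero fun j _ => ?_
    rw [F.2 (c j) (a j)]
    have h0 : F.1 (a j) = 0 := congrFun hF j
    rw [h0, mul_zero]
  haveI : Module.Finite k' W := Module.Finite.of_injective ev hev
  have hrank : Module.finrank k' W ≤ N := by
    have := LinearMap.finrank_le_finrank_of_injective hev
    simpa using this
  let ι : {φ : A →ₐ[k] k' // φ.comp g = φ₀} → W := fun φ =>
    ⟨φ.1.toLinearMap, by
      intro p x
      show φ.1 (g p * x) = φ₀ p * φ.1 x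
      have h2 : φ.1 (g p) = φ₀ p :=
        congrArg (fun ψ : MvPolynomial (Fin s) k →ₐ[k] k' => ψ p) φ.2
      rw [map_mul, h2]⟩
  have hli : LinearIndependent k' ι := by
    apply LinearIndependent.of_comp W.subtype
    exact (linearIndependent_algHom_toLinearMap k A k').comp Subtype.val Subtype.val_injective
  haveI : Finite {φ : A →ₐ[k] k' // φ.comp g = φ₀} := hli.finite
  refine ⟨inferInstance, ?_⟩
  haveI := Fintype.ofFinite {φ : A →ₐ[k] k' // φ.comp g = φ₀}
  rw [Nat.card_eq_fintype_card]
  exact hli.fintype_card_le_finrank.trans hrank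

theorem card_algHom_le {A : Type u} [CommRing A] [Algebra k A] {s N : ℕ}
    (g : MvPolynomial (Fin s) k →ₐ[k] A) (a : Fin N → A)
    (ha : ∀ x : A, ∃ c : Fin N → MvPolynomial (Fin s) k, x = ∑ j, g (c j) * a j) :
    Nat.card (A →ₐ[k] k') ≤ N * Nat.card k' ^ s := by
  classical
  let ρ : (A →ₐ[k] k') → (Fin s → k') := fun φ i => φ (g (MvPolynomial.X i))
  have hfib : ∀ v : Fin s → k', Finite {φ : A →ₐ[k] k' // ρ φ = v} ∧
      Nat.card {φ : A →ₐ[k] k' // ρ φ = v} ≤ N := by
    intro v
    have hiff : ∀ φ : A →ₐ[k] k', ρ φ = v ↔ φ.comp g = MvPolynomial.aeval v := by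
      intro φ
      constructor
      · intro h
        apply MvPolynomial.algHom_ext
        intro i
        rw [MvPolynomial.aeval_X]
        exact congrFun h i
      · intro h
        funext i
        have := congrArg (fun ψ : MvPolynomial (Fin s) k →ₐ[k] k' => ψ (MvPolynomial.X i)) h
        simpa using this
    obtain ⟨h1, h2⟩ := card_fibre_le k' g a ha (MvPolynomial.aeval v)
    have e : {φ : A →ₐ[k] k' // ρ φ = v} ≃
        {φ : A →ₐ[k] k' // φ.comp g = MvPolynomial.aeval v} :=
      Equiv.subtypeEquivRight hiff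
    exact ⟨Finite.of_equiv _ e.symm, (Nat.card_congr e).trans_le h2⟩
  haveI : ∀ v, Finite {φ : A →ₐ[k] k' // ρ φ = v} := fun v => (hfib v).1
  haveI := Fintype.ofFinite k'
  rw [Nat.card_congr (Equiv.sigmaFiberEquiv ρ).symm, Nat.card_sigma]
  calc ∑ v : Fin s → k', Nat.card {φ : A →ₐ[k] k' // ρ φ = v}
      ≤ ∑ _v : Fin s → k', N := Finset.sum_le_sum fun v _ => (hfib v).2
    _ = N * Nat.card k' ^ s := by
      rw [Finset.sum_const, Finset.card_univ, Fintype.card_fun, Fintype.card_fin, smul_eq_mul,
        mul_comm, Nat.card_eq_fintype_card]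

theorem exists_bound_affine (A : Type u) [CommRing A] [Algebra k A] [Algebra.FiniteType k A]
    (r : ℕ) (hr : ringKrullDim A ≤ r) :
    ∃ N : ℕ, ∀ (k' : Type u) [Field k'] [Algebra k k'] [Finite k'],
      Nat.card (A →ₐ[k] k') ≤ N * Nat.card k' ^ r := by
  rcases subsingleton_or_nontrivial A with hA | hA
  · refine ⟨0, fun k' _ _ _ => ?_⟩
    haveI : IsEmpty (A →ₐ[k] k') := ⟨fun φ => by
      have h1 : (1 : A) = 0 := Subsingleton.elim _ _
      have := congrArg φ h1
      rw [map_one, map_zero] at this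
      exact one_ne_zero this⟩
    simp
  · obtain ⟨s, g, hginj, hgfin⟩ := exists_finite_inj_algHom_of_fg k A
    letI : Algebra (MvPolynomial (Fin s) k) A := g.toRingHom.toAlgebra
    haveI : Module.Finite (MvPolynomial (Fin s) k) A := hgfin
    have hs : s ≤ r := by
      haveI : Algebra.IsIntegral (MvPolynomial (Fin s) k) A := inferInstance
      have h1 : ringKrullDim (MvPolynomial (Fin s) k) ≤ ringKrullDim A :=
        ringKrullDim_le_of_isIntegral_injective hginj
      rw [MvPolynomial.ringKrullDim_of_isNoetherianRing, ringKrullDim_eq_zero_of_field,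
        zero_add] at h1
      have h2 := h1.trans hr
      simp only [Nat.card_eq_fintype_card, Fintype.card_fin] at h2
      exact_mod_cast h2
    obtain ⟨N, a, ha⟩ := Module.Finite.exists_fin (R := MvPolynomial (Fin s) k) (M := A)
    refine ⟨N, fun k' _ _ _ => ?_⟩
    have hgen : ∀ x : A, ∃ c : Fin N → MvPolynomial (Fin s) k, x = ∑ j, g (c j) * a j := by
      intro x
      have hx : x ∈ Submodule.span (MvPolynomial (Fin s) k) (Set.range a) := by
        rw [ha]; trivial
      obtain ⟨c, hc⟩ := (Submodule.mem_span_range_iff_exists_fun _).1 hx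
      refine ⟨c, hc.symm.trans ?_⟩
      rfl
    refine (card_algHom_le k' g a hgen).trans ?_
    have hpos : 0 < Nat.card k' := Nat.card_pos
    exact Nat.mul_le_mul_left _ (Nat.pow_le_pow_right hpos hs)

end Count

section Scheme

variable {k : Type u} [Field k] [Finite k] {X : Scheme.{u}} (f : X ⟶ Spec (CommRingCat.of k))
  [LocallyOfFiniteType f] [QuasiCompact f]

theorem exists_pointCount_le (r : ℕ) (hr : topologicalKrullDim X ≤ r) :
    ∃ c : ℕ, ∀ (k' : Type u) [Field k'] [Algebra k k'] [Finite k'],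
      SgaExt.pointCount f k' ≤ c * Nat.card k ^ (r * Module.finrank k k') := by
  haveI : CompactSpace X := QuasiCompact.compactSpace_of_compactSpace f
  obtain ⟨s, hs, hU⟩ := (isCompact_iff_finite_and_eq_biUnion_affineOpens (X := X) (U := ⊤)).1
    (by simpa using CompactSpace.isCompact_univ (X := X))
  haveI : Finite s := hs.to_subtype
  haveI := Fintype.ofFinite s
  let α : ∀ U : s, CommRingCat.of k ⟶ Γ(X, U.1.1) := fun U =>
    Spec.preimage (U.1.2.fromSpec ≫ f)
  have hα : ∀ U : s, Spec.map (α U) = U.1.2.fromSpec ≫ f := fun U => Spec.map_preimage _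
  have hft : ∀ U : s, (α U).hom.FiniteType := by
    intro U
    haveI : LocallyOfFiniteType (Spec.map (α U)) := by
      rw [hα]
      infer_instance
    exact (HasRingHomProperty.Spec_iff (P := @LocallyOfFiniteType)).1 inferInstance
  have hinj : ∀ (U : s) (k' : Type u) [Field k'] [Algebra k k'],
      letI : Algebra k Γ(X, U.1.1) := (α U).hom.toAlgebra
      Function.Injective (fun ψ : {ψ : Γ(X, U.1.1) ⟶ CommRingCat.of k' //
          α U ≫ ψ = CommRingCat.ofHom (algebraMap k k')} => ({ ψ.1.hom with
        commutes' := fun c => congrArg (fun g => g.hom c) ψ.2 } : Γ(X, U.1.1) →ₐ[k] k')) := by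
    intro U k' _ _ ψ ψ' h
    apply Subtype.ext
    apply CommRingCat.hom_ext
    ext a
    exact congrArg (fun g : @AlgHom k Γ(X, U.1.1) k' _ _ _ (α U).hom.toAlgebra _ => g a) h
  have hN : ∀ U : s, ∃ N : ℕ, ∀ (k' : Type u) [Field k'] [Algebra k k'] [Finite k'],
      Finite {ψ : Γ(X, U.1.1) ⟶ CommRingCat.of k' //
        α U ≫ ψ = CommRingCat.ofHom (algebraMap k k')} ∧
      Nat.card {ψ : Γ(X, U.1.1) ⟶ CommRingCat.of k' //
        α U ≫ ψ = CommRingCat.ofHom (algebraMap k k')} ≤ N * Nat.card k' ^ r := by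
    intro U
    letI : Algebra k Γ(X, U.1.1) := (α U).hom.toAlgebra
    haveI : Algebra.FiniteType k Γ(X, U.1.1) := hft U
    have hdim : ringKrullDim Γ(X, U.1.1) ≤ r := by
      rw [← PrimeSpectrum.topologicalKrullDim_eq_ringKrullDim Γ(X, U.1.1)]
      change topologicalKrullDim (Spec Γ(X, U.1.1)) ≤ r
      rw [← IsHomeomorph.topologicalKrullDim_eq _ U.1.2.isoSpec.hom.homeomorph.isHomeomorph]
      exact (topologicalKrullDim_subspace_le X U.1.1).trans hr
    obtain ⟨N, hN⟩ := exists_bound_affine (k := k) Γ(X, U.1.1) r hdim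
    refine ⟨N, fun k' _ _ _ => ?_⟩
    haveI := finite_algHom_of_finiteType (k := k) k' Γ(X, U.1.1)
    exact ⟨Finite.of_injective _ (hinj U k'),
      (Nat.card_le_card_of_injective _ (hinj U k')).trans (hN k')⟩
  choose N hN using hN
  refine ⟨∑ U : s, N U, fun k' _ _ _ => ?_⟩
  let S : s → Type u := fun U => {ψ : Γ(X, U.1.1) ⟶ CommRingCat.of k' //
    α U ≫ ψ = CommRingCat.ofHom (algebraMap k k')}
  haveI hSfin : ∀ U : s, Finite (S U) := fun U => (hN U k').1
  have hsurj : Function.Surjective (fun t : Σ U : s, S U =>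
      (⟨Spec.map t.2.1 ≫ t.1.1.2.fromSpec, by
        rw [Category.assoc, ← hα, ← Spec.map_comp, t.2.2]⟩ :
        {g : Spec (CommRingCat.of k') ⟶ X //
          g ≫ f = Spec.map (CommRingCat.ofHom (algebraMap k k'))})) := by
    rintro ⟨g, hg⟩
    set pt := IsLocalRing.closedPoint k' with hpt
    have hmem : g pt ∈ (⊤ : X.Opens) := trivial
    rw [hU] at hmem
    simp only [TopologicalSpace.Opens.mem_iSup] at hmem
    obtain ⟨U, hUs, hgU⟩ := hmem
    haveI : Subsingleton (Spec (CommRingCat.of k')) :=
      (inferInstance : Subsingleton (PrimeSpectrum k'))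
    have hrange : Set.range g ⊆ Set.range U.2.fromSpec := by
      rw [U.2.range_fromSpec]
      rintro _ ⟨y, rfl⟩
      rw [Subsingleton.elim y pt]
      exact hgU
    set g' := IsOpenImmersion.lift U.2.fromSpec g hrange with hg'
    have hg'g : g' ≫ U.2.fromSpec = g := IsOpenImmersion.lift_fac _ _ _
    set ψ := Spec.preimage g' with hψ
    have hψg : Spec.map ψ = g' := Spec.map_preimage _
    refine ⟨⟨⟨U, hUs⟩, ⟨ψ, ?_⟩⟩, ?_⟩
    · apply Spec.map_injective
      rw [Spec.map_comp, hψg, hα, ← Category.assoc, hg'g, hg]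
    · apply Subtype.ext
      show Spec.map ψ ≫ U.2.fromSpec = g
      rw [hψg, hg'g]
  unfold SgaExt.pointCount
  refine (Nat.card_le_card_of_surjective _ hsurj).trans ?_
  rw [Nat.card_sigma, Finset.sum_mul]
  refine Finset.sum_le_sum fun U _ => ?_
  refine ((hN U k').2).trans ?_
  rw [Module.natCard_eq_pow_finrank (K := k) (V := k'), ← pow_mul, mul_comm r]

end Scheme

end Groth.Agent.Lib.Helper33.ZetaBound
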