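import Groth.Agent.Lib.Helper33.ZetaAdd

set_option autoImplicit false
set_option linter.style.haveILetI false
set_option linter.unusedSectionVars false
universe u v
open CategoryTheory AlgebraicGeometry Limits

namespace Groth.Agent.Lib.Helper33.ZetaExt

open Groth.Agent.Lib.Helper33.ZetaCount Groth.Agent.Lib.Helper33.ZetaPts
  Groth.Agent.Lib.Helper33.ZetaPS Groth.Agent.Lib.Helper33.ZetaAdd
  Groth.Agent.Lib.Helper33.DetSeries

/-- extensions of every positive degree exist in the same universe -/
theorem exists_extension (k : Type u) [Field k] [Finite k] (m : ℕ) (hm : m ≠ 0) :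
    ∃ (k' : Type u) (_ : Field k') (_ : Algebra k k') (_ : Finite k'),
      Module.finrank k k' = m ∧ Nat.card k' = Nat.card k ^ m := by
  haveI := Fintype.ofFinite k
  set p := ringChar k with hp
  haveI : CharP k p := ringChar.charP k
  haveI : Fact p.Prime := ⟨CharP.char_is_prime k p⟩
  haveI : NeZero m := ⟨hm⟩
  refine ⟨ULift.{u} (FiniteField.Extension k p m), inferInstance, inferInstance, inferInstance,
    ?_, ?_⟩
  · exact (LinearEquiv.finrank_eq ULift.moduleEquiv).trans (FiniteField.finrank_extension k p m)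
  · exact (Nat.card_congr Equiv.ulift).trans (FiniteField.natCard_extension k p m)

section Affine

variable {k : Type u} [Field k] [Finite k] {X : Scheme.{u}} (f : X ⟶ Spec (CommRingCat.of k))

omit [Finite k] in
theorem pointCount_affineLine (k' : Type u) [Field k'] [Algebra k k'] :
    SgaExt.pointCount ((𝔸(PUnit.{u + 1}; X) ↘ X) ≫ f) k' =
      SgaExt.pointCount f k' * Nat.card k' := by
  unfold SgaExt.pointCount
  rw [← Nat.card_prod]
  refine Nat.card_congr ?_
  let e0 : k' ≃ (PUnit.{u + 1} → Γ(Spec (CommRingCat.of k'), ⊤)) :=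
    ((Scheme.ΓSpecIso (CommRingCat.of k')).commRingCatIsoToRingEquiv.toEquiv.symm).trans
      (Equiv.funUnique PUnit.{u + 1} _).symm
  exact
  { toFun := fun h => (⟨h.1 ≫ (𝔸(PUnit.{u + 1}; X) ↘ X), by rw [Category.assoc]; exact h.2⟩,
      e0.symm (fun i => h.1.appTop (AffineSpace.coord X i)))
    invFun := fun p => ⟨AffineSpace.homOfVector p.1.1 (e0 p.2), by
      rw [← Category.assoc, AffineSpace.homOfVector_over]; exact p.1.2⟩
    left_inv := fun h => by
      apply Subtype.ext
      apply AffineSpace.hom_ext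
      · rw [AffineSpace.homOfVector_over]
      · intro i
        rw [AffineSpace.homOfVector_appTop_coord, Equiv.apply_symm_apply]
    right_inv := fun p => by
      apply Prod.ext
      · apply Subtype.ext
        exact AffineSpace.homOfVector_over _ _
      · apply e0.injective
        rw [Equiv.apply_symm_apply]
        funext i
        exact AffineSpace.homOfVector_appTop_coord _ _ i }

variable [LocallyOfFiniteType f] [QuasiCompact f]

theorem nPts_affineLine (m : ℕ) :
    Zeta.nPts ((𝔸(PUnit.{u + 1}; X) ↘ X) ≫ f) m = Nat.card k ^ m * Zeta.nPts f m := by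
  rcases Nat.eq_zero_or_pos m with rfl | hm
  · simp [Zeta.nPts]
  · obtain ⟨k', hF, hA, hFin, h1, h2⟩ := exists_extension k m hm.ne'
    letI := hF
    letI := hA
    haveI := hFin
    have e1 := pointCount_eq_nPts ((𝔸(PUnit.{u + 1}; X) ↘ X) ≫ f) k'
    have e2 := pointCount_eq_nPts f k'
    rw [h1] at e1 e2
    rw [← e1, ← e2, pointCount_affineLine, h2, mul_comm]

theorem zetaFun_affineLine :
    Zeta.zetaFun ((𝔸(PUnit.{u + 1}; X) ↘ X) ≫ f) =
      PowerSeries.rescale (Nat.card k : ℚ) (Zeta.zetaFun f) := by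
  unfold Zeta.zetaFun
  rw [exp_subst_rescale _ _ (logZeta_constantCoeff f)]
  congr 1
  ext m
  rw [PowerSeries.coeff_rescale]
  simp only [Zeta.logZeta, PowerSeries.coeff_mk]
  rw [nPts_affineLine f m]
  push_cast
  ring

end Affine

section BaseChange

variable {k : Type u} [Field k] [Finite k] {X : Scheme.{u}} (f : X ⟶ Spec (CommRingCat.of k))
  (k' : Type u) [Field k'] [Algebra k k']

omit [Finite k] in
theorem pointCount_baseChange (k'' : Type u) [Field k''] [Algebra k' k''] [Algebra k k'']
    [IsScalarTower k k' k''] :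
    SgaExt.pointCount (pullback.snd f (Spec.map (CommRingCat.ofHom (algebraMap k k')))) k'' =
      SgaExt.pointCount f k'' := by
  unfold SgaExt.pointCount
  refine Nat.card_congr ?_
  have hc : Spec.map (CommRingCat.ofHom (algebraMap k' k'')) ≫
      Spec.map (CommRingCat.ofHom (algebraMap k k')) =
      Spec.map (CommRingCat.ofHom (algebraMap k k'')) := by
    rw [IsScalarTower.algebraMap_eq k k' k'', CommRingCat.ofHom_comp, Spec.map_comp]
  exact
  { toFun := fun g => ⟨g.1 ≫ pullback.fst f _, by
      rw [Category.assoc, pullback.condition, ← Category.assoc, g.2, hc]⟩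
    invFun := fun a => ⟨pullback.lift a.1 (Spec.map (CommRingCat.ofHom (algebraMap k' k'')))
      (by rw [a.2, hc]), pullback.lift_snd _ _ _⟩
    left_inv := fun g => by
      apply Subtype.ext
      apply pullback.hom_ext
      · rw [pullback.lift_fst]
      · rw [pullback.lift_snd]; exact g.2.symm
    right_inv := fun a => Subtype.ext (pullback.lift_fst _ _ _) }

variable [Finite k'] [LocallyOfFiniteType f] [QuasiCompact f]

theorem nPts_baseChange (m : ℕ) (hm : 1 ≤ m) :
    Zeta.nPts (pullback.snd f (Spec.map (CommRingCat.ofHom (algebraMap k k')))) m =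
      Zeta.nPts f (Module.finrank k k' * m) := by
  obtain ⟨k'', hF, hA, hFin, h1, h2⟩ := exists_extension k' m (by omega)
  letI := hF
  letI := hA
  haveI := hFin
  letI : Algebra k k'' := ((algebraMap k' k'').comp (algebraMap k k')).toAlgebra
  haveI : IsScalarTower k k' k'' := IsScalarTower.of_algebraMap_eq (fun _ => rfl)
  have e1 := pointCount_eq_nPts
    (pullback.snd f (Spec.map (CommRingCat.ofHom (algebraMap k k')))) k''
  have e2 := pointCount_eq_nPts f k''
  rw [h1] at e1
  rw [← Module.finrank_mul_finrank k k' k'', h1] at e2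
  rw [← e1, ← e2]
  exact pointCount_baseChange f k' k''

end BaseChange

section PS

open PowerSeries

theorem derivative_map' {K : Type*} [Field K] [CharZero K] (y : PowerSeries ℚ) :
    PowerSeries.derivative K (PowerSeries.map (algebraMap ℚ K) y) =
      PowerSeries.map (algebraMap ℚ K) (PowerSeries.derivative ℚ y) := by
  ext m
  rw [PowerSeries.coeff_derivative, PowerSeries.coeff_map, PowerSeries.coeff_map,
    PowerSeries.coeff_derivative, map_mul, map_add, map_one, map_natCast]

theorem derivative_rescale' {K : Type*} [CommRing K] (a : K) (y : PowerSeries K) :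
    PowerSeries.derivative K (rescale a y) = C a * rescale a (PowerSeries.derivative K y) := by
  ext m
  rw [coeff_derivative, coeff_rescale, coeff_C_mul, coeff_rescale, coeff_derivative]
  ring

theorem derivative_X_pow' (r : ℕ) (hr : r ≠ 0) :
    PowerSeries.derivative ℂ (X ^ r : PowerSeries ℂ) = C (r : ℂ) * X ^ (r - 1) := by
  ext n
  rw [coeff_derivative, coeff_X_pow, coeff_C_mul, coeff_X_pow]
  by_cases h : n + 1 = r
  · subst h
    rw [if_pos rfl, if_pos (by omega)]
    push_cast
    ring
  · rw [if_neg h, if_neg (by omega)]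
    ring

theorem zeta_baseChange_ps (N N' : ℕ → ℕ) (r : ℕ) (hr : r ≠ 0)
    (hN : ∀ m, 1 ≤ m → N' m = N (r * m)) (ξ : ℂ) (hξ : IsPrimitiveRoot ξ r) :
    PowerSeries.subst ((X : PowerSeries ℂ) ^ r) (PowerSeries.map (algebraMap ℚ ℂ)
        (PowerSeries.subst (mk fun m => (N' m : ℚ) / m) (PowerSeries.exp ℚ))) =
      ∏ i ∈ Finset.range r, rescale (ξ ^ i) (PowerSeries.map (algebraMap ℚ ℂ)
        (PowerSeries.subst (mk fun m => (N m : ℚ) / m) (PowerSeries.exp ℚ))) := by
  set L : PowerSeries ℚ := mk fun m => (N m : ℚ) / m with hL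
  set L' : PowerSeries ℚ := mk fun m => (N' m : ℚ) / m with hL'
  have hL0 : constantCoeff L = 0 := by
    rw [← coeff_zero_eq_constantCoeff_apply, hL, coeff_mk]; simp
  have hL'0 : constantCoeff L' = 0 := by
    rw [← coeff_zero_eq_constantCoeff_apply, hL', coeff_mk]; simp
  obtain ⟨hZ, hZ0⟩ := derivative_exp_subst L hL0
  obtain ⟨hZ', hZ'0⟩ := derivative_exp_subst L' hL'0
  set Z := PowerSeries.subst L (PowerSeries.exp ℚ) with hZdef
  set Z' := PowerSeries.subst L' (PowerSeries.exp ℚ) with hZ'def
  set ZC := PowerSeries.map (algebraMap ℚ ℂ) Z with hZC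
  set ZC' := PowerSeries.map (algebraMap ℚ ℂ) Z' with hZC'
  set DL := PowerSeries.map (algebraMap ℚ ℂ) (PowerSeries.derivative ℚ L) with hDL
  set DL' := PowerSeries.map (algebraMap ℚ ℂ) (PowerSeries.derivative ℚ L') with hDL'
  have hdZC : PowerSeries.derivative ℂ ZC = DL * ZC := by
    rw [hZC, derivative_map', hZ, map_mul]
  have hdZC' : PowerSeries.derivative ℂ ZC' = DL' * ZC' := by
    rw [hZC', derivative_map', hZ', map_mul]
  have hZC0 : constantCoeff ZC = 1 := by
    rw [← coeff_zero_eq_constantCoeff_apply, hZC, coeff_map, coeff_zero_eq_constantCoeff_apply,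
      hZ0, map_one]
  have hZC'0 : constantCoeff ZC' = 1 := by
    rw [← coeff_zero_eq_constantCoeff_apply, hZC', coeff_map, coeff_zero_eq_constantCoeff_apply,
      hZ'0, map_one]
  have hs : HasSubst ((X : PowerSeries ℂ) ^ r) := HasSubst.X_pow hr
  have hA : PowerSeries.derivative ℂ (PowerSeries.subst ((X : PowerSeries ℂ) ^ r) ZC') =
      (PowerSeries.subst ((X : PowerSeries ℂ) ^ r) DL' *
        PowerSeries.derivative ℂ ((X : PowerSeries ℂ) ^ r)) *
      PowerSeries.subst ((X : PowerSeries ℂ) ^ r) ZC' := by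
    rw [derivative_subst hs, hdZC', subst_mul hs]
    ring
  have hB := derivative_prod_of_log (Finset.range r) (fun i => rescale (ξ ^ i) ZC)
    (fun i => C (ξ ^ i) * rescale (ξ ^ i) DL) (fun i _ => by
      rw [derivative_rescale', hdZC, map_mul]; ring)
  -- coefficients of `DL`, `DL'`
  have hcDL : ∀ n, coeff n DL = (N (n + 1) : ℂ) := by
    intro n
    rw [hDL, coeff_map, coeff_derivative, hL, coeff_mk]
    have hne : ((n : ℚ) + 1) ≠ 0 := Nat.cast_add_one_ne_zero n
    rw [Nat.cast_add, Nat.cast_one, div_mul_cancel₀ _ hne, map_natCast]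
  have hcDL' : ∀ n, coeff n DL' = (N' (n + 1) : ℂ) := by
    intro n
    rw [hDL', coeff_map, coeff_derivative, hL', coeff_mk]
    have hne : ((n : ℚ) + 1) ≠ 0 := Nat.cast_add_one_ne_zero n
    rw [Nat.cast_add, Nat.cast_one, div_mul_cancel₀ _ hne, map_natCast]
  have hkey : PowerSeries.subst ((X : PowerSeries ℂ) ^ r) DL' *
      PowerSeries.derivative ℂ ((X : PowerSeries ℂ) ^ r) =
      ∑ i ∈ Finset.range r, C (ξ ^ i) * rescale (ξ ^ i) DL := by
    ext n
    rw [← expand_apply r hr, derivative_X_pow' r hr, mul_left_comm, coeff_C_mul,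
      coeff_mul_X_pow', map_sum]
    simp only [coeff_C_mul, coeff_rescale, hcDL]
    have hsum : ∑ i ∈ Finset.range r, ξ ^ i * ((ξ ^ i) ^ n * (N (n + 1) : ℂ)) =
        (∑ i ∈ Finset.range r, (ξ ^ (n + 1)) ^ i) * (N (n + 1) : ℂ) := by
      rw [Finset.sum_mul]
      refine Finset.sum_congr rfl fun i _ => ?_
      rw [← pow_mul, ← pow_mul, ← mul_assoc, ← pow_add]
      have : i + i * n = (n + 1) * i := by ring
      rw [this]
    rw [hsum]
    by_cases hd : r ∣ n + 1
    · obtain ⟨t, ht⟩ := hd
      have ht1 : 1 ≤ t := by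
        rcases Nat.eq_zero_or_pos t with h0 | h0
        · rw [h0, mul_zero] at ht; omega
        · exact h0
      have hr1 : 1 ≤ r := Nat.pos_of_ne_zero hr
      have hle : r - 1 ≤ n := by
        have : r ≤ r * t := Nat.le_mul_of_pos_right r ht1
        omega
      have hsub : n - (r - 1) = r * (t - 1) := by
        have : r * t = r * (t - 1) + r := by
          conv_lhs => rw [show t = (t - 1) + 1 by omega]
          ring
        omega
      rw [if_pos hle, hsub, coeff_expand_mul, hcDL', show t - 1 + 1 = t by omega, hN t ht1, ← ht]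
      have hone : ξ ^ (n + 1) = 1 := (hξ.pow_eq_one_iff_dvd _).2 ⟨t, ht⟩
      rw [hone]
      simp
    · have hzero : (if r - 1 ≤ n then coeff (n - (r - 1)) (expand r hr DL') else 0) = 0 := by
        split_ifs with hle
        · apply coeff_expand_of_not_dvd
          intro hdvd
          apply hd
          have hr1 : 1 ≤ r := Nat.pos_of_ne_zero hr
          have : n + 1 = (n - (r - 1)) + r := by omega
          rw [this]
          exact Dvd.dvd.add hdvd (dvd_refl r)
        · rfl
      rw [hzero, mul_zero]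
      have hne1 : ξ ^ (n + 1) ≠ 1 := fun h => hd ((hξ.pow_eq_one_iff_dvd _).1 h)
      have hpow : (ξ ^ (n + 1)) ^ r = 1 := by
        rw [← pow_mul, mul_comm, pow_mul, hξ.pow_eq_one, one_pow]
      have hg := geom_sum_mul (ξ ^ (n + 1)) r
      rw [hpow, sub_self] at hg
      have : ∑ i ∈ Finset.range r, (ξ ^ (n + 1)) ^ i = 0 :=
        (mul_eq_zero.1 hg).resolve_right (sub_ne_zero.2 hne1)
      rw [this, zero_mul]
  apply eq_of_derivative_eq_mul (∑ i ∈ Finset.range r, C (ξ ^ i) * rescale (ξ ^ i) DL)
  · rw [hA, hkey]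
  · exact hB
  · rw [← expand_apply r hr, constantCoeff_expand, hZC'0, map_prod]
    symm
    refine Finset.prod_eq_one fun i _ => ?_
    rw [← coeff_zero_eq_constantCoeff_apply, coeff_rescale, coeff_zero_eq_constantCoeff_apply,
      hZC0, pow_zero, one_mul]

end PS

end Groth.Agent.Lib.Helper33.ZetaExt
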