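import Groth.Agent.Lib.Helper33.ZetaEuler
import Groth.Agent.Lib.Helper33.ZetaBound
import Groth.Agent.Lib.Helper33.ZetaExt

set_option autoImplicit false
set_option linter.style.haveILetI false
set_option linter.unusedSectionVars false
universe u
open CategoryTheory AlgebraicGeometry

namespace Groth.Agent.Lib.Helper33.ZetaDir

open Groth.Agent.Lib.Helper33.ZetaCount Groth.Agent.Lib.Helper33.ZetaPts
  Groth.Agent.Lib.Helper33.ZetaBound Groth.Agent.Lib.Helper33.ZetaExt
  Groth.Agent.Lib.Helper33.ZetaEuler Groth.Agent.Lib.Helper33.EulerCycles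

variable {k : Type u} [Field k] [Finite k] {Y : Scheme.{u}} (f : Y ⟶ Spec (CommRingCat.of k))
  [LocallyOfFiniteType f]

theorem card_ge_two : 2 ≤ Nat.card k := by
  haveI := Fintype.ofFinite k
  rw [Nat.card_eq_fintype_card]
  exact Fintype.one_lt_card

/-- closed points have finite residue fields of the expected size -/
theorem closed_facts (x : Y) (hx : IsClosed ({x} : Set Y)) :
    EGA4loc.residueDegree f x ≠ 0 ∧
    Nat.card (Y.residueField x) = Nat.card k ^ EGA4loc.residueDegree f x := by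
  haveI : JacobsonSpace Y := LocallyOfFiniteType.jacobsonSpace f
  haveI h1 : LocallyOfFiniteType (Y.fromSpecResidueField x) :=
    isClosed_singleton_iff_locallyOfFiniteType.1 hx
  letI a2 : Algebra k (Y.residueField x) := (resAlg f x).hom.toAlgebra
  haveI : LocallyOfFiniteType (Spec.map (resAlg f x)) := by
    rw [SpecMap_resAlg]
    infer_instance
  have hft : (resAlg f x).hom.FiniteType :=
    (HasRingHomProperty.Spec_iff (P := @LocallyOfFiniteType)).1 inferInstance
  haveI : Algebra.FiniteType k (Y.residueField x) := hft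
  haveI : Module.Finite k (Y.residueField x) := finite_of_finite_type_of_isJacobsonRing k _
  rw [residueDegree_eq_finrank]
  exact ⟨Module.finrank_pos.ne', Module.natCard_eq_pow_finrank (K := k) (V := Y.residueField x)⟩

theorem degCount_le (e : ℕ) (he : e ≠ 0) : Zeta.degCount f e ≤ Zeta.nPts f e := by
  unfold Zeta.nPts
  calc Zeta.degCount f e ≤ e * Zeta.degCount f e :=
        Nat.le_mul_of_pos_left _ (Nat.pos_of_ne_zero he)
    _ ≤ ∑ d ∈ e.divisors, d * Zeta.degCount f d :=
        Finset.single_le_sum (f := fun d => d * Zeta.degCount f d) (fun _ _ => Nat.zero_le _)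
          (Nat.mem_divisors_self e he)

variable [QuasiCompact f]

theorem exists_nPts_le (r : ℕ) (hr : topologicalKrullDim Y ≤ r) :
    ∃ c : ℕ, ∀ e, e ≠ 0 → Zeta.nPts f e ≤ c * Nat.card k ^ (r * e) := by
  obtain ⟨c, hc⟩ := exists_pointCount_le f r hr
  refine ⟨c, fun e he => ?_⟩
  obtain ⟨k', _, _, _, hfr, -⟩ := exists_extension k e he
  rw [← hfr, ← pointCount_eq_nPts f k']
  exact hc k'

include f in
theorem summable_nu (r : ℕ) (hr : topologicalKrullDim Y ≤ r) (σ : ℝ) (hσ : (r : ℝ) < σ) :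
    Summable (fun x : ClPt Y => (nu Y x : ℝ) ^ (-σ)) := by
  set q : ℕ := Nat.card k with hq
  have hq2 : 2 ≤ q := card_ge_two
  have hq1 : (1 : ℝ) < (q : ℝ) := by exact_mod_cast hq2
  have hq0 : (0 : ℝ) < (q : ℝ) := by linarith
  set ρ : ℝ := (q : ℝ) ^ (-σ) with hρ
  have hρ0 : 0 ≤ ρ := Real.rpow_nonneg hq0.le _
  let d : ClPt Y → ℕ := fun x => EGA4loc.residueDegree f x.1
  have hnu : ∀ x : ClPt Y, (nu Y x : ℝ) ^ (-σ) = ρ ^ d x := by
    intro x
    obtain ⟨-, h2⟩ := closed_facts f x.1 x.2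
    show ((Nat.card (Y.residueField x.1) : ℕ) : ℝ) ^ (-σ) = _
    rw [h2, Nat.cast_pow, ← Real.rpow_natCast, ← Real.rpow_mul hq0.le, mul_comm,
      Real.rpow_mul hq0.le, Real.rpow_natCast]
  rw [show (fun x : ClPt Y => (nu Y x : ℝ) ^ (-σ)) = fun x => ρ ^ d x from funext hnu]
  obtain ⟨c, hc⟩ := exists_nPts_le f r hr
  have hfun : ((fun x : ClPt Y => ρ ^ d x) ∘ (Equiv.sigmaFiberEquiv d)) =
      fun z : Σ e, {x : ClPt Y // d x = e} => ρ ^ z.1 := funext fun z => by
    show ρ ^ d z.2.1 = ρ ^ z.1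
    rw [z.2.2]
  refine (Equiv.sigmaFiberEquiv d).summable_iff.1 ?_
  rw [hfun, summable_sigma_of_nonneg (fun z => pow_nonneg hρ0 _)]
  have hempty : IsEmpty {x : ClPt Y // d x = 0} :=
    ⟨fun y => (closed_facts f y.1.1 y.1.2).1 y.2⟩
  have hfinite : ∀ e, e ≠ 0 → Finite {x : ClPt Y // d x = e} := by
    intro e he
    haveI := finite_deg f e he
    exact Finite.of_injective (fun y : {x : ClPt Y // d x = e} =>
      (⟨y.1.1, y.2⟩ : {x : Y // EGA4loc.residueDegree f x = e})) (fun y y' h => by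
        apply Subtype.ext
        apply Subtype.ext
        exact congrArg (fun z => z.1) h)
  constructor
  · intro e
    by_cases he : e = 0
    · subst he
      haveI := hempty
      exact summable_empty
    · haveI := hfinite e he
      exact Summable.of_finite
  · simp only [tsum_const, nsmul_eq_mul]
    set x₀ : ℝ := (q : ℝ) ^ ((r : ℝ) - σ) with hx₀
    have hx₀1 : x₀ < 1 := Real.rpow_lt_one_of_one_lt_of_neg hq1 (by linarith)
    have hx₀0 : 0 ≤ x₀ := Real.rpow_nonneg hq0.le _
    have hx₀eq : ∀ e : ℕ, ((q : ℝ) ^ (r * e)) * ρ ^ e = x₀ ^ e := by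
      intro e
      rw [pow_mul, ← mul_pow, hx₀, hρ, sub_eq_add_neg, Real.rpow_add hq0, Real.rpow_natCast]
    refine Summable.of_nonneg_of_le (fun e => mul_nonneg (Nat.cast_nonneg _) (pow_nonneg hρ0 _))
      (fun e => ?_) ((summable_geometric_of_lt_one hx₀0 hx₀1).mul_left (c : ℝ))
    by_cases he : e = 0
    · subst he
      haveI := hempty
      simp
    · have h1 : Nat.card {x : ClPt Y // d x = e} = Zeta.degCount f e := by
        unfold Zeta.degCount
        exact Nat.card_congr
          { toFun := fun y => ⟨y.1.1, y.1.2, y.2⟩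
            invFun := fun y => ⟨⟨y.1, y.2.1⟩, y.2.2⟩
            left_inv := fun _ => rfl
            right_inv := fun _ => rfl }
      have h2 : Nat.card {x : ClPt Y // d x = e} ≤ c * q ^ (r * e) :=
        h1 ▸ (degCount_le f e he).trans (hc e he)
      have h3 : (Nat.card {x : ClPt Y // d x = e} : ℝ) ≤ (c : ℝ) * (q : ℝ) ^ (r * e) := by
        exact_mod_cast h2
      calc (Nat.card {x : ClPt Y // d x = e} : ℝ) * ρ ^ e
          ≤ ((c : ℝ) * (q : ℝ) ^ (r * e)) * ρ ^ e :=
            mul_le_mul_of_nonneg_right h3 (pow_nonneg hρ0 _)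
        _ = (c : ℝ) * x₀ ^ e := by rw [mul_assoc, hx₀eq]

include f in
theorem dirichlet (r : ℕ) (hr : topologicalKrullDim Y ≤ r) :
    LSeries.abscissaOfAbsConv (Zeta.arithCoeff Y) ≤ (r : ℝ) ∧
      ∀ s : ℂ, (r : ℝ) < s.re → LSeries (Zeta.arithCoeff Y) s ≠ 0 := by
  refine lseries_of_summable Y (r : ℝ) (Nat.cast_nonneg r) (fun x => ?_)
    (fun σ hσ => summable_nu f r hr σ hσ)
  obtain ⟨h1, h2⟩ := closed_facts f x.1 x.2
  show 2 ≤ Nat.card (Y.residueField x.1)
  rw [h2]
  calc 2 ≤ Nat.card k := card_ge_two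
    _ = Nat.card k ^ 1 := (pow_one _).symm
    _ ≤ Nat.card k ^ EGA4loc.residueDegree f x.1 :=
        Nat.pow_le_pow_right (by have := card_ge_two (k := k); omega) (Nat.pos_of_ne_zero h1)

end Groth.Agent.Lib.Helper33.ZetaDir
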