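import Groth.Prelude.Def_FinFr
import Mathlib.AlgebraicGeometry.Morphisms.FormallyUnramified
import Mathlib.AlgebraicGeometry.Morphisms.Immersion
import Mathlib.AlgebraicGeometry.Noetherian
import Mathlib.RingTheory.Unramified.Field
import Mathlib.RingTheory.Unramified.Finite
import Mathlib.RingTheory.LocalProperties.Reduced
import Mathlib.FieldTheory.Finite.Basic

set_option autoImplicit false
set_option linter.style.haveILetI false
set_option linter.unusedSectionVars false
universe u
open CategoryTheory AlgebraicGeometry Limits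

namespace Groth.Agent.Lib.Helper33.ZetaFixRed

open KaehlerDifferential in
theorem unramified_int_of_frob {A R : Type u} [CommRing A] [CommRing R] [Algebra A R]
    [Algebra.FormallyUnramified A R] (q : ℕ) (hq0 : (q : R) = 0)
    (h : ∀ a : A, (algebraMap A R a) ^ q = algebraMap A R a) :
    Algebra.FormallyUnramified ℤ R := by
  have hD : ∀ a : A, D ℤ R (algebraMap A R a) = 0 := fun a => by
    have h1 := congrArg (D ℤ R) (h a)
    rw [Derivation.leibniz_pow] at h1
    rw [← h1, ← Nat.cast_smul_eq_nsmul R, hq0, zero_smul]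
  have hmap : ∀ x : Ω[A⁄ℤ], KaehlerDifferential.map ℤ ℤ A R x = 0 := fun x => by
    have hx : x ∈ Submodule.span A (Set.range (D ℤ A)) := by
      rw [KaehlerDifferential.span_range_derivation]
      trivial
    induction hx using Submodule.span_induction with
    | mem y hy =>
      obtain ⟨a, rfl⟩ := hy
      rw [KaehlerDifferential.map_D]
      exact hD a
    | zero => exact map_zero _
    | add y z _ _ hy hz => rw [map_add, hy, hz, add_zero]
    | smul c y _ hy => rw [map_smul, hy, smul_zero]
  have hzero : KaehlerDifferential.mapBaseChange ℤ A R = 0 := by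
    refine LinearMap.ext fun t => ?_
    induction t using TensorProduct.induction_on with
    | zero => simp
    | tmul r x => rw [KaehlerDifferential.mapBaseChange_tmul, hmap, smul_zero]; rfl
    | add x y hx hy => rw [map_add, hx, hy]; simp
  have hr := KaehlerDifferential.range_mapBaseChange ℤ A R
  rw [hzero, LinearMap.range_zero] at hr
  constructor
  refine ⟨fun x y => ?_⟩
  have hx : x ∈ LinearMap.ker (KaehlerDifferential.map ℤ A R R) :=
    LinearMap.mem_ker.2 (Subsingleton.elim _ _)
  have hy : y ∈ LinearMap.ker (KaehlerDifferential.map ℤ A R R) :=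
    LinearMap.mem_ker.2 (Subsingleton.elim _ _)
  rw [← hr, Submodule.mem_bot] at hx hy
  rw [hx, hy]

variable {k K : Type u} [Field k] [Finite k] [Field K] [Algebra k K] [Algebra.IsAlgebraic k K]
  {X : Scheme.{u}} (f : X ⟶ Spec (CommRingCat.of k)) [LocallyOfFiniteType f] (FX : X ⟶ X)
  (hle : ∀ U : X.Opens, U ≤ FX ⁻¹ᵁ U)
  (hFapp : ∀ (U : X.Opens) (s : Γ(X, U)), (FX.appLE U U (hle U)).hom s = s ^ Nat.card k)
  (F : FinFr.ext K f ⟶ FinFr.ext K f)
  (hF1 : F ≫ FinFr.extπ K f = FinFr.extπ K f ≫ FX)
  (hF2 : F ≫ FinFr.extStr K f = FinFr.extStr K f)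

/-- the canonical immersion of the fixed scheme -/
noncomputable def fixι : FinFr.fixScheme (FinFr.extStr K f) F hF2 ⟶ FinFr.ext K f :=
  pullback.fst _ _

instance : IsImmersion (fixι f F hF2) := by
  have hbi : IsImmersion (pullback.lift (𝟙 _) (𝟙 _) rfl :
      FinFr.ext K f ⟶ pullback (FinFr.extStr K f) (FinFr.extStr K f)) :=
    inferInstanceAs (IsImmersion (pullback.diagonal (FinFr.extStr K f)))
  exact MorphismProperty.pullback_fst (P := @IsImmersion) _ _ hbi

include hF1 hFapp in
/-- every point of the Frobenius fixed scheme has an affine neighbourhood whose ring of sections is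
a finite type formally unramified `K`-algebra -/
theorem local_unramified (z : ↥(FinFr.fixScheme (FinFr.extStr K f) F hF2)) :
    ∃ (V : (FinFr.fixScheme (FinFr.extStr K f) F hF2).Opens) (_ : IsAffineOpen V)
      (_ : Algebra K Γ(FinFr.fixScheme (FinFr.extStr K f) F hF2, V)), z ∈ V ∧
      Algebra.FiniteType K Γ(FinFr.fixScheme (FinFr.extStr K f) F hF2, V) ∧
      Algebra.FormallyUnramified K Γ(FinFr.fixScheme (FinFr.extStr K f) F hF2, V) := by
  classical
  haveI := Fintype.ofFinite k
  let a : FinFr.ext K f ⟶ pullback (FinFr.extStr K f) (FinFr.extStr K f) :=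
    pullback.lift (𝟙 _) F (by rw [hF2, Category.id_comp])
  let b : FinFr.ext K f ⟶ pullback (FinFr.extStr K f) (FinFr.extStr K f) :=
    pullback.lift (𝟙 _) (𝟙 _) rfl
  let e : FinFr.fixScheme (FinFr.extStr K f) F hF2 ⟶ FinFr.ext K f := pullback.fst a b
  let e' : FinFr.fixScheme (FinFr.extStr K f) F hF2 ⟶ FinFr.ext K f := pullback.snd a b
  have hc : e ≫ a = e' ≫ b := pullback.condition
  have hafst : a ≫ pullback.fst (FinFr.extStr K f) (FinFr.extStr K f) = 𝟙 _ :=
    pullback.lift_fst _ _ _
  have hbfst : b ≫ pullback.fst (FinFr.extStr K f) (FinFr.extStr K f) = 𝟙 _ :=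
    pullback.lift_fst _ _ _
  have hasnd : a ≫ pullback.snd (FinFr.extStr K f) (FinFr.extStr K f) = F :=
    pullback.lift_snd _ _ _
  have hbsnd : b ≫ pullback.snd (FinFr.extStr K f) (FinFr.extStr K f) = 𝟙 _ :=
    pullback.lift_snd _ _ _
  have he1 : e = e' := by
    have := congrArg (· ≫ pullback.fst (FinFr.extStr K f) (FinFr.extStr K f)) hc
    simp only [Category.assoc] at this
    rw [hafst, hbfst, Category.comp_id, Category.comp_id] at this
    exact this
  have he : e ≫ F = e := by
    have := congrArg (· ≫ pullback.snd (FinFr.extStr K f) (FinFr.extStr K f)) hc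
    simp only [Category.assoc] at this
    rw [hasnd, hbsnd, Category.comp_id] at this
    rw [this, ← he1]
  haveI hbm : Mono b := mono_of_mono_fac (show b ≫ pullback.fst _ _ = 𝟙 _ from
    pullback.lift_fst _ _ _)
  haveI hem : Mono e := pullback.fst_of_mono
  haveI hei : IsImmersion e := inferInstanceAs (IsImmersion (fixι f F hF2))
  haveI heu : FormallyUnramified e := inferInstance
  haveI hsep : Algebra.IsSeparable k K := inferInstance
  haveI hku : Algebra.FormallyUnramified k K := Algebra.FormallyUnramified.of_isSeparable k K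
  haveI hιu : FormallyUnramified (FinFr.specι k K) := by
    rw [HasRingHomProperty.Spec_iff (P := @FormallyUnramified)]
    exact RingHom.formallyUnramified_algebraMap.2 hku
  haveI hπu : FormallyUnramified (FinFr.extπ K f) :=
    MorphismProperty.pullback_fst (P := @FormallyUnramified) f (FinFr.specι k K) hιu
  let ρ : FinFr.fixScheme (FinFr.extStr K f) F hF2 ⟶ X := e ≫ FinFr.extπ K f
  haveI hρu : FormallyUnramified ρ :=
    MorphismProperty.comp_mem (@FormallyUnramified) e (FinFr.extπ K f) heu hπu
  have hρ : ρ ≫ FX = ρ := by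
    show (e ≫ FinFr.extπ K f) ≫ FX = e ≫ FinFr.extπ K f
    rw [Category.assoc, ← hF1, ← Category.assoc, he]
  let h : FinFr.fixScheme (FinFr.extStr K f) F hF2 ⟶ Spec (CommRingCat.of K) :=
    e ≫ FinFr.extStr K f
  haveI hstr : LocallyOfFiniteType (FinFr.extStr K f) := by
    unfold FinFr.extStr
    infer_instance
  haveI hh : LocallyOfFiniteType h := inferInstanceAs (LocallyOfFiniteType (e ≫ FinFr.extStr K f))
  obtain ⟨U, hU, hzU, -⟩ := exists_isAffineOpen_mem_and_subset (X := X) (x := ρ z) (U := ⊤) trivial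
  obtain ⟨V, hV, hzV, hVU⟩ := exists_isAffineOpen_mem_and_subset
    (X := FinFr.fixScheme (FinFr.extStr K f) F hF2) (x := z) (U := ρ ⁻¹ᵁ U) hzU
  have hVU' : V ≤ ρ ⁻¹ᵁ U := hVU
  have hφu : (ρ.appLE U V hVU').hom.FormallyUnramified := ρ.formallyUnramified_appLE hU hV hVU'
  have hfix : ∀ s : Γ(X, U), ((ρ.appLE U V hVU').hom s) ^ Nat.card k = (ρ.appLE U V hVU').hom s := by
    intro s
    have h1 : FX.appLE U U (hle U) ≫ ρ.appLE U V hVU' = ρ.appLE U V hVU' := by
      rw [Scheme.Hom.appLE_comp_appLE]
      have : ∀ (g : FinFr.fixScheme (FinFr.extStr K f) F hF2 ⟶ X) (hg : g = ρ)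
          (e₀ : V ≤ g ⁻¹ᵁ U), g.appLE U V e₀ = ρ.appLE U V hVU' := by
        rintro _ rfl _
        rfl
      exact this _ hρ _
    have h2 := congrArg (fun g => g.hom s) h1
    simp only [CommRingCat.hom_comp, RingHom.comp_apply] at h2
    rw [hFapp, map_pow] at h2
    exact h2
  let κ : CommRingCat.of K ⟶ Γ(FinFr.fixScheme (FinFr.extStr K f) F hF2, V) :=
    (Scheme.ΓSpecIso (CommRingCat.of K)).inv ≫ h.appLE ⊤ V le_top
  have hκft : κ.hom.FiniteType := by
    have h1 : (h.appLE ⊤ V le_top).hom.FiniteType :=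
      HasRingHomProperty.appLE (P := @LocallyOfFiniteType) h hh ⟨⊤, isAffineOpen_top _⟩ ⟨V, hV⟩
        le_top
    have h2 : ((Scheme.ΓSpecIso (CommRingCat.of K)).inv).hom.FiniteType :=
      RingHom.FiniteType.of_surjective _ (by
        intro y
        refine ⟨(Scheme.ΓSpecIso (CommRingCat.of K)).hom.hom y, ?_⟩
        exact congrArg (fun g => g.hom y) (Scheme.ΓSpecIso (CommRingCat.of K)).hom_inv_id)
    exact h1.comp h2
  letI algA : Algebra Γ(X, U) Γ(FinFr.fixScheme (FinFr.extStr K f) F hF2, V) :=
    (ρ.appLE U V hVU').hom.toAlgebra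
  letI algK : Algebra K Γ(FinFr.fixScheme (FinFr.extStr K f) F hF2, V) := κ.hom.toAlgebra
  haveI : Algebra.FormallyUnramified Γ(X, U) Γ(FinFr.fixScheme (FinFr.extStr K f) F hF2, V) := hφu
  have hq0 : ((Nat.card k : ℕ) : Γ(FinFr.fixScheme (FinFr.extStr K f) F hF2, V)) = 0 := by
    have h1 : ((Nat.card k : ℕ) : k) = 0 := by
      rw [Nat.card_eq_fintype_card]
      exact FiniteField.cast_card_eq_zero k
    have h2 : ((Nat.card k : ℕ) : K) = 0 := by
      rw [← map_natCast (algebraMap k K), h1, map_zero]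
    rw [← map_natCast (algebraMap K Γ(FinFr.fixScheme (FinFr.extStr K f) F hF2, V)), h2, map_zero]
  haveI hZ : Algebra.FormallyUnramified ℤ Γ(FinFr.fixScheme (FinFr.extStr K f) F hF2, V) :=
    unramified_int_of_frob (A := Γ(X, U)) (Nat.card k) hq0 hfix
  exact ⟨V, hV, algK, hzV, hκft, Algebra.FormallyUnramified.of_restrictScalars ℤ K _⟩

include hF1 hFapp in
theorem reduced_fix : IsReduced (FinFr.fixScheme (FinFr.extStr K f) F hF2) := by
  apply +allowSynthFailures isReduced_of_isReduced_stalk
  intro z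
  obtain ⟨V, hV, algK, hzV, hft, hun⟩ := local_unramified f FX hle hFapp F hF1 hF2 z
  have hred : _root_.IsReduced Γ(FinFr.fixScheme (FinFr.extStr K f) F hF2, V) :=
    Algebra.FormallyUnramified.isReduced_of_field K _
  letI := (FinFr.fixScheme (FinFr.extStr K f) F hF2).presheaf.algebra_section_stalk ⟨z, hzV⟩
  haveI := hV.isLocalization_stalk ⟨z, hzV⟩
  exact isReduced_localizationPreserves (hV.primeIdealOf ⟨z, hzV⟩).asIdeal.primeCompl _ hred

include hF1 hFapp in
theorem finite_fix [QuasiCompact f] : Finite ↥(FinFr.fixScheme (FinFr.extStr K f) F hF2) := by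
  -- compactness
  haveI hstr : LocallyOfFiniteType (FinFr.extStr K f) := by
    unfold FinFr.extStr
    infer_instance
  haveI hqc : QuasiCompact (FinFr.extStr K f) := by
    unfold FinFr.extStr
    infer_instance
  haveI : CompactSpace ↥(FinFr.ext K f) := QuasiCompact.compactSpace_of_compactSpace (FinFr.extStr K f)
  haveI : IsLocallyNoetherian (FinFr.ext K f) :=
    LocallyOfFiniteType.isLocallyNoetherian (FinFr.extStr K f)
  haveI : IsNoetherian (FinFr.ext K f) := ⟨⟩
  haveI : TopologicalSpace.NoetherianSpace ↥(FinFr.ext K f) := inferInstance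
  haveI : TopologicalSpace.NoetherianSpace ↥(FinFr.fixScheme (FinFr.extStr K f) F hF2) :=
    (fixι f F hF2).isEmbedding.isInducing.noetherianSpace
  haveI : CompactSpace ↥(FinFr.fixScheme (FinFr.extStr K f) F hF2) :=
    TopologicalSpace.NoetherianSpace.compactSpace _
  choose V hV algK hzV hft hun using local_unramified f FX hle hFapp F hF1 hF2
  have hfinV : ∀ z, ((V z : (FinFr.fixScheme (FinFr.extStr K f) F hF2).Opens) :
      Set ↥(FinFr.fixScheme (FinFr.extStr K f) F hF2)).Finite := by
    intro z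
    letI := algK z
    haveI := hft z
    haveI := hun z
    haveI : Module.Finite K Γ(FinFr.fixScheme (FinFr.extStr K f) F hF2, V z) :=
      Algebra.FormallyUnramified.finite_of_free K _
    haveI : IsArtinianRing Γ(FinFr.fixScheme (FinFr.extStr K f) F hF2, V z) :=
      isArtinian_of_tower K inferInstance
    haveI : Finite (PrimeSpectrum Γ(FinFr.fixScheme (FinFr.extStr K f) F hF2, V z)) :=
      inferInstance
    haveI : Finite ↥(Spec Γ(FinFr.fixScheme (FinFr.extStr K f) F hF2, V z)) :=
      inferInstanceAs (Finite (PrimeSpectrum Γ(FinFr.fixScheme (FinFr.extStr K f) F hF2, V z)))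
    rw [← (hV z).range_fromSpec]
    exact Set.finite_range _
  obtain ⟨t, ht⟩ := CompactSpace.elim_nhds_subcover
    (fun z => ((V z : (FinFr.fixScheme (FinFr.extStr K f) F hF2).Opens) :
      Set ↥(FinFr.fixScheme (FinFr.extStr K f) F hF2)))
    (fun z => (V z).isOpen.mem_nhds (hzV z))
  rw [← Set.finite_univ_iff, ← Set.top_eq_univ, ← ht]
  exact Set.Finite.biUnion t.finite_toSet (fun z _ => hfinV z)

end Groth.Agent.Lib.Helper33.ZetaFixRed
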