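import Groth.Agent.Lib.Helper33.ZetaCount
import Groth.Prelude.Def_SgaExt

set_option autoImplicit false
set_option linter.style.haveILetI false
set_option linter.unusedSectionVars false
universe u v
open CategoryTheory AlgebraicGeometry

namespace Groth.Agent.Lib.Helper33.ZetaPts

open Groth.Agent.Lib.Helper33.ZetaCount

section Alg

variable {k : Type u} [Field k] [Finite k] (k' : Type u) [Field k'] [Algebra k k'] [Finite k']

theorem card_algHom (κ : Type u) [Field κ] [Algebra k κ] :
    Nat.card (κ →ₐ[k] k') =
      if Module.finrank k κ ∣ Module.finrank k k' then Module.finrank k κ else 0 := by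
  split_ifs with h
  · exact FiniteField.natCard_algHom_of_finrank_dvd h
  · haveI : IsEmpty (κ →ₐ[k] k') :=
      not_nonempty_iff.1 fun hne => h (FiniteField.nonempty_algHom_iff_finrank_dvd.1 hne)
    exact Nat.card_of_isEmpty

theorem finite_algHom_of_finiteType (A : Type u) [CommRing A] [Algebra k A]
    [Algebra.FiniteType k A] : Finite (A →ₐ[k] k') := by
  obtain ⟨n, φ, hφ⟩ := Algebra.FiniteType.iff_quotient_mvPolynomial''.1
    (inferInstance : Algebra.FiniteType k A)
  refine Finite.of_injective (fun g : A →ₐ[k] k' => fun i : Fin n => g (φ (MvPolynomial.X i))) ?_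
  intro g g' h
  have h1 : g.comp φ = g'.comp φ := MvPolynomial.algHom_ext fun i => congrFun h i
  exact (AlgHom.cancel_right hφ).1 h1

end Alg

section Points

variable {k : Type u} [Field k] [Finite k] {X : Scheme.{u}} (f : X ⟶ Spec (CommRingCat.of k))
  (k' : Type u) [Field k'] [Algebra k k']

theorem comp_eq_iff (x : X) (φ : X.residueField x ⟶ CommRingCat.of k') :
    (Spec.map φ ≫ X.fromSpecResidueField x) ≫ f =
        Spec.map (CommRingCat.ofHom (algebraMap k k')) ↔
      φ.hom.comp (resAlg f x).hom = algebraMap k k' := by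
  rw [Category.assoc, ← SpecMap_resAlg, ← Spec.map_comp, Spec.map_injective.eq_iff]
  constructor
  · intro h
    ext c
    exact congrArg (fun g => g.hom c) h
  · intro h
    ext c
    exact RingHom.congr_fun h c

/-- the points over `x` are the `k`-embeddings of the residue field -/
noncomputable def fibreEquiv (x : X) :
    {φ : X.residueField x ⟶ CommRingCat.of k' //
      (Spec.map φ ≫ X.fromSpecResidueField x) ≫ f =
        Spec.map (CommRingCat.ofHom (algebraMap k k'))} ≃
    @AlgHom k (X.residueField x) k' _ _ _ (resAlg f x).hom.toAlgebra _ :=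
  letI : Algebra k (X.residueField x) := (resAlg f x).hom.toAlgebra
  { toFun := fun φ =>
      { φ.1.hom with
        commutes' := fun c => RingHom.congr_fun ((comp_eq_iff f k' x φ.1).1 φ.2) c }
    invFun := fun ψ => ⟨CommRingCat.ofHom ψ.toRingHom, (comp_eq_iff f k' x _).2 (by
      ext c
      exact ψ.commutes c)⟩
    left_inv := fun _ => rfl
    right_inv := fun _ => rfl }

variable [Finite k']

theorem card_fibre' (x : X) :
    Nat.card {φ : X.residueField x ⟶ CommRingCat.of k' //
      (Spec.map φ ≫ X.fromSpecResidueField x) ≫ f =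
        Spec.map (CommRingCat.ofHom (algebraMap k k'))} =
    if EGA4loc.residueDegree f x ∣ Module.finrank k k' then EGA4loc.residueDegree f x else 0 := by
  rw [residueDegree_eq_finrank, Nat.card_congr (fibreEquiv f k' x)]
  letI : Algebra k (X.residueField x) := (resAlg f x).hom.toAlgebra
  exact card_algHom k' (X.residueField x)

variable [LocallyOfFiniteType f] [QuasiCompact f]

/-- a scheme of finite type over a finite field has finitely many points in a finite field -/
theorem finite_points :
    Finite {g : Spec (CommRingCat.of k') ⟶ X //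
      g ≫ f = Spec.map (CommRingCat.ofHom (algebraMap k k'))} := by
  haveI : CompactSpace X := QuasiCompact.compactSpace_of_compactSpace f
  obtain ⟨s, hs, hU⟩ := (isCompact_iff_finite_and_eq_biUnion_affineOpens (X := X) (U := ⊤)).1
    (by simpa using CompactSpace.isCompact_univ (X := X))
  haveI : Finite s := hs.to_subtype
  -- the structure maps of the affine pieces
  let α : ∀ U : s, CommRingCat.of k ⟶ Γ(X, U.1.1) := fun U =>
    Spec.preimage (U.1.2.fromSpec ≫ f)
  have hα : ∀ U : s, Spec.map (α U) = U.1.2.fromSpec ≫ f := fun U => Spec.map_preimage _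
  let S : s → Type u := fun U => {ψ : Γ(X, U.1.1) ⟶ CommRingCat.of k' //
    α U ≫ ψ = CommRingCat.ofHom (algebraMap k k')}
  have hSfin : ∀ U : s, Finite (S U) := by
    intro U
    letI : Algebra k Γ(X, U.1.1) := (α U).hom.toAlgebra
    haveI : LocallyOfFiniteType (Spec.map (α U)) := by
      rw [hα]
      infer_instance
    have hft : (α U).hom.FiniteType :=
      (HasRingHomProperty.Spec_iff (P := @LocallyOfFiniteType)).1 inferInstance
    haveI : Algebra.FiniteType k Γ(X, U.1.1) := hft
    haveI := finite_algHom_of_finiteType (k := k) k' Γ(X, U.1.1)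
    refine Finite.of_injective (fun ψ : S U => ({ ψ.1.hom with
      commutes' := fun c => congrArg (fun g => g.hom c) ψ.2 } : Γ(X, U.1.1) →ₐ[k] k')) ?_
    intro ψ ψ' h
    apply Subtype.ext
    apply CommRingCat.hom_ext
    ext a
    exact congrArg (fun g : Γ(X, U.1.1) →ₐ[k] k' => g a) h
  haveI : Finite (Σ U : s, S U) := inferInstance
  refine Finite.of_surjective (fun t : Σ U : s, S U =>
    (⟨Spec.map t.2.1 ≫ t.1.1.2.fromSpec, by
      rw [Category.assoc, ← hα, ← Spec.map_comp, t.2.2]⟩ :
      {g : Spec (CommRingCat.of k') ⟶ X //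
        g ≫ f = Spec.map (CommRingCat.ofHom (algebraMap k k'))})) ?_
  rintro ⟨g, hg⟩
  set pt := IsLocalRing.closedPoint k' with hpt
  have hmem : g pt ∈ (⊤ : X.Opens) := trivial
  rw [hU] at hmem
  simp only [TopologicalSpace.Opens.mem_iSup] at hmem
  obtain ⟨U, hUs, hgU⟩ := hmem
  haveI : Subsingleton (Spec (CommRingCat.of k')) :=
    (inferInstance : Subsingleton (PrimeSpectrum k'))
  have hrange : Set.range g ⊆ Set.range U.2.fromSpec := by
    rw [U.2.range_fromSpec]
    rintro _ ⟨y, rfl⟩
    rw [Subsingleton.elim y pt]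
    exact hgU
  set g' := IsOpenImmersion.lift U.2.fromSpec g hrange with hg'
  have hg'g : g' ≫ U.2.fromSpec = g := IsOpenImmersion.lift_fac _ _ _
  set ψ := Spec.preimage g' with hψ
  have hψg : Spec.map ψ = g' := Spec.map_preimage _
  refine ⟨⟨⟨U, hUs⟩, ⟨ψ, ?_⟩⟩, ?_⟩
  · apply Spec.map_injective
    rw [Spec.map_comp, hψg, hα, ← Category.assoc, hg'g, hg]
  · apply Subtype.ext
    show Spec.map ψ ≫ U.2.fromSpec = g
    rw [hψg, hg'g]

/-- the number of points with values in a finite extension -/
theorem pointCount_eq_nPts :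
    SgaExt.pointCount f k' = Zeta.nPts f (Module.finrank k k') := by
  unfold SgaExt.pointCount
  set e := Scheme.SpecToEquivOfField k' X with he
  let P : (Spec (CommRingCat.of k') ⟶ X) → Prop := fun a =>
    a ≫ f = Spec.map (CommRingCat.ofHom (algebraMap k k'))
  let Φ : X → Type u := fun x => {φ : X.residueField x ⟶ CommRingCat.of k' //
    P (Spec.map φ ≫ X.fromSpecResidueField x)}
  let E1 : {a // P a} ≃ {s : Σ x, X.residueField x ⟶ CommRingCat.of k' // P (e.symm s)} :=
    e.subtypeEquivOfSubtype'
  let E2 : {s : Σ x, X.residueField x ⟶ CommRingCat.of k' // P (e.symm s)} ≃ Σ x, Φ x :=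
    ⟨fun s => ⟨s.1.1, ⟨s.1.2, s.2⟩⟩, fun t => ⟨⟨t.1, t.2.1⟩, t.2.2⟩, fun _ => rfl, fun _ => rfl⟩
  haveI := finite_points f k'
  haveI : Finite (Σ x, Φ x) := Finite.of_equiv _ (E1.trans E2)
  have hpos : Module.finrank k k' ≠ 0 := Module.finrank_pos.ne'
  have hcard := card_sigma_of_fibres Φ (EGA4loc.residueDegree f) (Module.finrank k k') hpos
    (fun x => card_fibre' f k' x)
  rw [Nat.card_congr (E1.trans E2), hcard]
  unfold Zeta.nPts Zeta.degCount
  refine Finset.sum_congr rfl fun d hd => ?_
  congr 1
  refine Nat.card_congr (Equiv.subtypeEquivRight fun x => ⟨fun h => ⟨?_, h⟩, fun h => h.2⟩)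
  refine isClosed_of_residueDegree_ne_zero f x ?_
  rw [h]
  exact (Nat.pos_of_mem_divisors hd).ne'

omit [Finite k'] in
/-- finitely many points of a given nonzero residue degree -/
theorem finite_deg (e : ℕ) (he : e ≠ 0) :
    Finite {x : X // EGA4loc.residueDegree f x = e} := by
  by_cases hne : Nonempty {x : X // EGA4loc.residueDegree f x = e}
  · obtain ⟨⟨x₀, hx₀⟩⟩ := hne
    letI : Algebra k (X.residueField x₀) := (resAlg f x₀).hom.toAlgebra
    have hfr : Module.finrank k (X.residueField x₀) = e := by
      rw [← residueDegree_eq_finrank]; exact hx₀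
    haveI : Module.Finite k (X.residueField x₀) :=
      Module.finite_of_finrank_pos (by rw [hfr]; exact Nat.pos_of_ne_zero he)
    haveI : Finite (X.residueField x₀) := Module.finite_of_finite k
    haveI := finite_points f (X.residueField x₀)
    have key : ∀ x : {x : X // EGA4loc.residueDegree f x = e},
        Nonempty {φ : X.residueField x.1 ⟶ CommRingCat.of (X.residueField x₀) //
          (Spec.map φ ≫ X.fromSpecResidueField x.1) ≫ f =
            Spec.map (CommRingCat.ofHom (algebraMap k (X.residueField x₀)))} := by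
      intro x
      have h := card_fibre' f (X.residueField x₀) x.1
      rw [x.2, hfr, if_pos dvd_rfl] at h
      have h2 : Nat.card {φ : X.residueField x.1 ⟶ CommRingCat.of (X.residueField x₀) //
          (Spec.map φ ≫ X.fromSpecResidueField x.1) ≫ f =
            Spec.map (CommRingCat.ofHom (algebraMap k (X.residueField x₀)))} ≠ 0 := by
        rw [h]; exact he
      exact (Nat.card_ne_zero.1 h2).1
    refine Finite.of_injective (fun x => (⟨Spec.map (key x).some.1 ≫ X.fromSpecResidueField x.1,
      (key x).some.2⟩ : {g : Spec (CommRingCat.of (X.residueField x₀)) ⟶ X //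
        g ≫ f = Spec.map (CommRingCat.ofHom (algebraMap k (X.residueField x₀)))})) ?_
    intro x x' h
    apply Subtype.ext
    have h1 := congrArg (fun g => g.1 (IsLocalRing.closedPoint (X.residueField x₀))) h
    simp only [Scheme.Hom.comp_apply, Scheme.fromSpecResidueField_apply] at h1
    exact h1
  · haveI : IsEmpty {x : X // EGA4loc.residueDegree f x = e} := not_nonempty_iff.1 hne
    infer_instance

end Points

end Groth.Agent.Lib.Helper33.ZetaPts
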